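import Cfsg.Agent.Mrg.Omega.ThmC.TwoData_m3
import Cfsg.Agent.Mrg.Omega.HTwo.AlphaP_m3
import Cfsg.Agent.Mrg.Omega.FrameI
import Cfsg.Agent.Mrg.Omega.NO3b.Chain.Group_m3
import Cfsg.Agent.Mrg.Omega.All.HOneKer_m3
import Cfsg.Agent.Mrg.Omega.FFBr.Final
import Cfsg.Agent.Mrg.Omega.NOThreeL.VF.Nat
import Cfsg.Agent.Mrg.Omega.SQT.Rank
import Cfsg.Agent.Mrg.Omega.IId.SymWrD.Zero_m3
import Cfsg.Agent.Mrg.Omega.NOThreeL.RTools.Two_m3
import Cfsg.Agent.Mrg.Omega.Assembly
import Cfsg.Agent.FastGrp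
import Cfsg.Agent.Prune
set_option linter.all false

section
prune_inst 0x7ff0fefbaff9bfffdfff7e7ffffddffdf9f85fffeffffdcbfee8ebff5fdf4300bfe5fb879fe0d0ff1ff6e294b0b87853f97ee33fee6bdc7ffffd5ff45ffbee0fa5e7bd8951d698340fbc0fff63f07f8e7f3fffffffffffffffffffffffffffbefffdffffffff

-- part: Mrg/Omega/NOThreeL/RRed/BlkG1
section
prune_inst 0x2000000000000002000000000000000000000000002000060000002000000000400000080000000002800c40000000000000000000000010120800002001040a004060009801000000000000000000000000000000000000000000000000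
set_option linter.all false
open scoped Cfsg.Agent.FastGrp

-- part: Mrg/Omega/NOThreeL/RRed/LThree
section
section


/-!
# NO-3L, box R, smallest shape: L3 of #21468 (helper858)

`M` acts on `W`, `Ω₁Z(S) = ⟨v₁, v₂⟩`, `t ∈ S` is a transvection of `W` with centre `v₁` and the only one in `M` (T1),
`a ∈ v₁^{C_M(v₂)}` is moved by `t`, `⟨v₁, a⟩` is normalised by `S`.

* `quad v a` : the four-group `{1, v, a, v a}`;
* `gsys` : `GSys (M ⊓ C(v₂)) N v₁` for `N = ⟨v₁^{C_M(v₂)}⟩`;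
* `pts` : `v₁^{C_M(v₂)} = {v₁, a, v₁ a}`;
* `norm` : `C_M(v₂)` normalises `⟨v₁, a⟩`.
-/

set_option autoImplicit false
set_option linter.unusedSectionVars false

namespace Cfsg.Agent.Omega.NOThreeL.RRed.LThree

open Subgroup Cfsg Cfsg.Agent.Omega.TV

variable {G : Type*} [Group G]

/-- `{1, v, a, v a}` -/
def quad (v a : G) (hv : v * v = 1) (ha : a * a = 1) (hc : v * a = a * v) : Subgroup G where
  carrier := {x | x = 1 ∨ x = v ∨ x = a ∨ x = v * a}
  one_mem' := Or.inl rfl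
  mul_mem' := by
    have e1 : v * (v * a) = a := by rw [← mul_assoc, hv, one_mul]
    have e2 : a * v = v * a := hc.symm
    have e3 : a * (v * a) = v := by rw [hc, ← mul_assoc, ha, one_mul]
    have e4 : v * a * v = a := by rw [mul_assoc, ← hc, e1]
    have e5 : v * a * a = v := by rw [mul_assoc, ha, mul_one]
    have e6 : v * a * (v * a) = 1 := by rw [mul_assoc, e3, hv]
    rintro x y (rfl | rfl | rfl | rfl) (rfl | rfl | rfl | rfl) <;>
      simp only [Set.mem_ofPred_eq, one_mul, mul_one, hv, ha, e1, e2, e3, e4, e5, e6, true_or, or_true]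
  inv_mem' := by
    have i1 : v⁻¹ = v := inv_eq_of_mul_eq_one_left hv
    have i2 : a⁻¹ = a := inv_eq_of_mul_eq_one_left ha
    rintro x (rfl | rfl | rfl | rfl)
    · left; exact inv_one
    · right; left; exact i1
    · right; right; left; exact i2
    · right; right; right; rw [mul_inv_rev, i1, i2, hc]

/-- the hypotheses of L3 -/
structure In (S M W : Subgroup G) (t v₁ a v₂ : G) : Prop where
  SM : S ≤ M
  S2 : IsPGroup 2 S
  Si : ¬ 2 ∣ S.relIndex M
  Wab : ∀ x ∈ W, ∀ y ∈ W, x * y = y * x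
  Wsq : ∀ x ∈ W, x * x = 1
  MW : ∀ g ∈ M, ∀ w ∈ W, g * w * g⁻¹ ∈ W
  v1W : v₁ ∈ W
  fix : ∀ x ∈ W, (∀ s ∈ S, s * x = x * s) → x = 1 ∨ x = v₁ ∨ x = v₂ ∨ x = v₁ * v₂
  v1 : v₁ ≠ 1
  s1 : ∀ s ∈ S, s * v₁ = v₁ * s
  s2 : ∀ s ∈ S, s * v₂ = v₂ * s
  tS : t ∈ S
  tW : ∀ w ∈ W, t * w * t⁻¹ = w ∨ t * w * t⁻¹ = w * v₁
  ta : t * a * t⁻¹ ≠ a
  a_mem : ∃ c ∈ M, c * v₂ = v₂ * c ∧ a = c * v₁ * c⁻¹
  sa : ∀ s ∈ S, s * a * s⁻¹ = a ∨ s * a * s⁻¹ = v₁ * a
  T1 : ∀ x ∈ M, (∀ w ∈ W, x * w * x⁻¹ = w ∨ x * w * x⁻¹ = w * v₁) →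
    (∀ w ∈ W, x * w * x⁻¹ = w) ∨ ∀ w ∈ W, x * w * x⁻¹ = t * w * t⁻¹

namespace In

variable {S M W : Subgroup G} {t v₁ a v₂ : G} (h : In S M W t v₁ a v₂)

/-- `C_M(v₂)` -/
def CC (M : Subgroup G) (v₂ : G) : Subgroup G := M ⊓ centralizer ({v₂} : Set G)

theorem mem_CC {c : G} : c ∈ CC M v₂ ↔ c ∈ M ∧ c * v₂ = v₂ * c := by
  unfold CC
  rw [mem_inf, mem_centralizer_singleton_iff]

/-- `⟨v₁^{C_M(v₂)}⟩` -/
def NN (M : Subgroup G) (v₁ v₂ : G) : Subgroup G := _root_.Subgroup.closure {x | ∃ c ∈ CC M v₂, x = c * v₁ * c⁻¹}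

include h

theorem aW : a ∈ W := by
  obtain ⟨c, hc, -, rfl⟩ := h.a_mem
  exact h.MW c hc _ h.v1W

theorem NN_le : NN M v₁ v₂ ≤ W := by
  unfold NN
  rw [closure_le]
  rintro _ ⟨c, hc, rfl⟩
  exact h.MW c (mem_CC.1 hc).1 _ h.v1W

theorem S_le : S ≤ CC M v₂ := fun s hs => mem_CC.2 ⟨h.SM hs, h.s2 s hs⟩

theorem gsys [Finite G] : GSys (CC M v₂) (NN M v₁ v₂) v₁ := by
  refine IId.One.gsys_of (T := S) (fun x hx => h.Wsq x (h.NN_le hx)) ?_ ?_ h.v1 le_rfl h.S_le h.S2 ?_ h.s1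
  · intro c hc n hn
    have key : NN M v₁ v₂ ≤ (NN M v₁ v₂).comap (MulAut.conj c).toMonoidHom := by
      conv_lhs => unfold NN
      rw [closure_le]
      rintro _ ⟨d, hd, rfl⟩
      change c * (d * v₁ * d⁻¹) * c⁻¹ ∈ NN M v₁ v₂
      refine subset_closure ⟨c * d, mul_mem hc hd, by group⟩
    exact key hn
  · exact subset_closure ⟨1, one_mem _, by group⟩
  · intro h2
    apply h.Si
    have e := relIndex_mul_relIndex S (CC M v₂) M h.S_le inf_le_left
    rw [← e]
    exact Dvd.dvd.mul_right h2 _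

/-- **L3** -/
theorem four [Finite G] : ∀ w ∈ NN M v₁ v₂, w = 1 ∨ w = v₁ ∨ w = a ∨ w = v₁ * a := by
  have hG := h.gsys
  have haN : a ∈ NN M v₁ v₂ := by
    obtain ⟨c, hc, hc2, rfl⟩ := h.a_mem
    exact subset_closure ⟨c, mem_CC.2 ⟨hc, hc2⟩, rfl⟩
  have htC : t ∈ CC M v₂ := h.S_le h.tS
  have hta1 : t * a * t⁻¹ = a * v₁ := (h.tW a h.aW).resolve_left h.ta
  have hv11 : v₁ * v₁ = 1 := h.Wsq _ h.v1W
  have haa : a * a = 1 := h.Wsq _ h.aW
  have hva : v₁ * a = a * v₁ := h.Wab _ h.v1W _ h.aW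
  rcases hG.dich htC (fun n hn => h.tW n (h.NN_le hn)) (u := a) (by
      obtain ⟨c, hc, hc2, e⟩ := h.a_mem
      exact ⟨c, mem_CC.2 ⟨hc, hc2⟩, e⟩) h.ta h.S2 (fun x hx => by rw [h.s1 x hx]; group) h.sa h.S_le
      (fun n hn hfix => by
        have h1 := h.fix n (h.NN_le hn) fun s hs => mul_inv_eq_iff_eq_mul.1 (hfix s hs)
        rcases h1 with e | e | e | e
        · exact ⟨1, one_mem _, fun c _ => by group, Or.inl e⟩
        · exact ⟨1, one_mem _, fun c _ => by group, Or.inr (by rw [e, mul_one])⟩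
        · refine ⟨n, hn, fun c hc => ?_, Or.inl rfl⟩
          rw [e, (mem_CC.1 hc).2, mul_inv_cancel_right]
        · have hN : v₂ ∈ NN M v₁ v₂ := by
            have h3 : v₁ * n ∈ NN M v₁ v₂ := mul_mem hG.mem hn
            have h4 : v₁ * n = v₂ := by rw [e, ← mul_assoc, hv11, one_mul]
            rwa [h4] at h3
          refine ⟨v₂, hN, fun c hc => ?_, Or.inr e⟩
          rw [(mem_CC.1 hc).2, mul_inv_cancel_right]) with h1 | h1
  · exact h1
  -- every transvection of `N` is induced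
  intro w hw
  by_contra hcon
  obtain ⟨x, hx, hxt, hxq⟩ : ∃ x ∈ NN M v₁ v₂, t * x * t⁻¹ = x ∧ x ∉ quad v₁ a hv11 haa hva := by
    rcases h.tW w (h.NN_le hw) with h2 | h2
    · exact ⟨w, hw, h2, hcon⟩
    · refine ⟨w * a, mul_mem hw haN, ?_, fun hq => hcon ?_⟩
      · have hwv := h.Wab w (h.NN_le hw) v₁ h.v1W
        calc t * (w * a) * t⁻¹ = (t * w * t⁻¹) * (t * a * t⁻¹) := by group
          _ = w * (v₁ * (a * v₁)) := by rw [h2, hta1]; group
          _ = w * a := by rw [← hva, ← mul_assoc v₁ v₁ a, hv11, one_mul]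
      · have h3 : w * a * a ∈ quad v₁ a hv11 haa hva := mul_mem hq (Or.inr (Or.inr (Or.inl rfl)))
        rwa [mul_assoc, haa, mul_one] at h3
  have hqN : quad v₁ a hv11 haa hva ≤ NN M v₁ v₂ := by
    rintro y (rfl | rfl | rfl | rfl)
    · exact one_mem _
    · exact hG.mem
    · exact haN
    · exact mul_mem hG.mem haN
  obtain ⟨g, hg, hgU, hgx, -⟩ := h1 (quad v₁ a hv11 haa hva) hqN a (Or.inr (Or.inr (Or.inl rfl))) x hx hxq
  have hgM := (mem_CC.1 hg).1
  have hgv : g * v₁ * g⁻¹ = v₁ := hgU v₁ (Or.inr (Or.inl rfl))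
  have hgW : ∀ w ∈ W, g⁻¹ * w * g ∈ W := fun w hw => by
    have := h.MW g⁻¹ (inv_mem hgM) w hw
    rwa [inv_inv] at this
  have htM : t ∈ M := h.SM h.tS
  rcases h.T1 (g * t * g⁻¹) (mul_mem (mul_mem hgM htM) (inv_mem hgM)) (fun w hw => by
      have e : g * t * g⁻¹ * w * (g * t * g⁻¹)⁻¹ = g * (t * (g⁻¹ * w * g) * t⁻¹) * g⁻¹ := by group
      rw [e]
      rcases h.tW _ (hgW w hw) with h2 | h2
      · left; rw [h2]; group
      · right
        rw [h2]
        calc g * (g⁻¹ * w * g * v₁) * g⁻¹ = w * (g * v₁ * g⁻¹) := by group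
          _ = w * v₁ := by rw [hgv]) with h2 | h2
  · apply h.ta
    have h3 := h2 _ (h.MW g hgM a h.aW)
    calc t * a * t⁻¹ = g⁻¹ * (g * t * g⁻¹ * (g * a * g⁻¹) * (g * t * g⁻¹)⁻¹) * g := by group
      _ = a := by rw [h3]; group
  · apply h.ta
    have hxaW : x * a ∈ W := mul_mem (h.NN_le hx) h.aW
    have h3 := h2 _ hxaW
    have e1 : g⁻¹ * (x * a) * g = x := by rw [← hgx]; group
    have e2 : g * t * g⁻¹ * (x * a) * (g * t * g⁻¹)⁻¹ = x * a := by
      calc g * t * g⁻¹ * (x * a) * (g * t * g⁻¹)⁻¹ = g * (t * (g⁻¹ * (x * a) * g) * t⁻¹) * g⁻¹ := by group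
        _ = g * x * g⁻¹ := by rw [e1, hxt]
        _ = x * a := hgx
    have e3 : t * (x * a) * t⁻¹ = x * (t * a * t⁻¹) := by
      calc t * (x * a) * t⁻¹ = (t * x * t⁻¹) * (t * a * t⁻¹) := by group
        _ = x * (t * a * t⁻¹) := by rw [hxt]
    rw [e2, e3] at h3
    exact (mul_left_cancel h3).symm

/-- `v₁^{C_M(v₂)} = {v₁, a, v₁ a}` -/
theorem pts [Finite G] {c : G} (hc : c ∈ M) (hc2 : c * v₂ = v₂ * c) :
    c * v₁ * c⁻¹ = v₁ ∨ c * v₁ * c⁻¹ = a ∨ c * v₁ * c⁻¹ = v₁ * a := by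
  rcases h.four (c * v₁ * c⁻¹) (subset_closure ⟨c, mem_CC.2 ⟨hc, hc2⟩, rfl⟩) with h1 | h1
  · exact absurd (conj_eq_one_iff.1 h1) h.v1
  · exact h1

/-- `C_M(v₂)` normalises `⟨v₁, a⟩` -/
theorem conj_mem [Finite G] {c : G} (hc : c ∈ M) (hc2 : c * v₂ = v₂ * c) {x : G}
    (hx : x = 1 ∨ x = v₁ ∨ x = a ∨ x = v₁ * a) :
    c * x * c⁻¹ = 1 ∨ c * x * c⁻¹ = v₁ ∨ c * x * c⁻¹ = a ∨ c * x * c⁻¹ = v₁ * a := by
  have haN : a ∈ NN M v₁ v₂ := by
    obtain ⟨c, hc, hc2, rfl⟩ := h.a_mem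
    exact subset_closure ⟨c, mem_CC.2 ⟨hc, hc2⟩, rfl⟩
  refine h.four _ (h.gsys.nor c (mem_CC.2 ⟨hc, hc2⟩) x ?_)
  rcases hx with rfl | rfl | rfl | rfl
  · exact one_mem _
  · exact h.gsys.mem
  · exact haN
  · exact mul_mem h.gsys.mem haN

/-- the same for a subgroup with the elements `1, v₁, a, v₁ a` -/
theorem le_norm [Finite G] {V : Subgroup G} (hV : ∀ x, x ∈ V ↔ x = 1 ∨ x = v₁ ∨ x = a ∨ x = v₁ * a) :
    M ⊓ centralizer ({v₂} : Set G) ≤ normalizer (V : Set G) := by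
  intro c hc
  have hc' := mem_CC.1 hc
  rw [mem_normalizer_iff]
  intro x
  constructor
  · intro hx
    exact (hV _).2 (h.conj_mem hc'.1 hc'.2 ((hV x).1 hx))
  · intro hx
    have hi := mem_CC.1 (inv_mem hc : c⁻¹ ∈ CC M v₂)
    have h1 := h.conj_mem hi.1 hi.2 ((hV _).1 hx)
    have e : c⁻¹ * (c * x * c⁻¹) * c⁻¹⁻¹ = x := by group
    rw [e] at h1
    exact (hV x).2 h1

end In

end Cfsg.Agent.Omega.NOThreeL.RRed.LThree

end

section


/-!
# NO-3L, box R: (T1) of #21468, abstract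

`C` acts on the elementary abelian group `W` without over-offenders; `t ∈ C` is a transvection on `W` with centre `r`
which moves `u = p r p⁻¹`, `p ∈ C`, `p⁻¹ r p ∈ {u, r u}`.

* `eq_of_fix` : `d ∈ C`, `[W, d] ≤ ⟨r⟩`, `[u, d] = 1` implies `[W, d] = 1`;
* `tone` : `x ∈ C`, `[W, x] ≤ ⟨r⟩` implies that `x` acts as `1` or as `t` on `W`.
-/

set_option autoImplicit false

namespace Cfsg.Agent.Omega.NOThreeL.RRed.TOne

open Subgroup Cfsg Cfsg.Agent.ZN
open Cfsg.Agent.Omega.FFThm (ElemM OffM NoOverM)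

universe u

variable {G : Type u} [Group G]

/-- `x` acts on `W` with `[W, x] ≤ ⟨r⟩`. -/
def Tv (W : Subgroup G) (r x : G) : Prop := ∀ w ∈ W, x * w * x⁻¹ = w ∨ x * w * x⁻¹ = w * r

/-- The data of (T1). -/
structure Dat (C W : Subgroup G) (r u t p : G) : Prop where
  comm : ∀ v ∈ W, ∀ w ∈ W, v * w = w * v
  sq : ∀ w ∈ W, w * w = 1
  nor : ∀ c ∈ C, ∀ w ∈ W, c * w * c⁻¹ ∈ W
  no : NoOverM W C
  mr : r ∈ W
  mu : u ∈ W
  ht : t ∈ C
  tv : Tv W r t
  tu : t * u * t⁻¹ = u * r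
  hp : p ∈ C
  pr : p * r * p⁻¹ = u
  pr' : p⁻¹ * r * p = u ∨ p⁻¹ * r * p = r * u
  ru : r ≠ u
  u1 : u ≠ 1

namespace Dat

variable {C W : Subgroup G} {r u t p : G} (h : Dat C W r u t p)
include h

theorem r1 : r ≠ 1 := by
  rintro e
  apply h.u1
  rw [← h.pr, e]; group

theorem tr : t * r * t⁻¹ = r := by
  rcases h.tv r h.mr with e | e
  · exact e
  · exfalso
    rw [h.sq r h.mr] at e
    exact h.r1 (conj_eq_one_iff.1 e)

/-- `t' = p t p⁻¹` is a transvection with centre `u`. -/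
theorem tv' {w : G} (hw : w ∈ W) : p * t * p⁻¹ * w * (p * t * p⁻¹)⁻¹ = w ∨
    p * t * p⁻¹ * w * (p * t * p⁻¹)⁻¹ = w * u := by
  have hw' : p⁻¹ * w * p ∈ W := by
    have := h.nor p⁻¹ (C.inv_mem h.hp) w hw
    rwa [inv_inv] at this
  have e : p * t * p⁻¹ * w * (p * t * p⁻¹)⁻¹ = p * (t * (p⁻¹ * w * p) * t⁻¹) * p⁻¹ := by group
  rcases h.tv _ hw' with e1 | e1
  · left; rw [e, e1]; group
  · right; rw [e, e1, ← h.pr]; group

theorem tr' : p * t * p⁻¹ * r * (p * t * p⁻¹)⁻¹ = r * u := by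
  have e : p * t * p⁻¹ * r * (p * t * p⁻¹)⁻¹ = p * (t * (p⁻¹ * r * p) * t⁻¹) * p⁻¹ := by group
  rcases h.pr' with e1 | e1
  · rw [e, e1, h.tu]
    calc p * (u * r) * p⁻¹ = p * ((p⁻¹ * r * p) * r) * p⁻¹ := by rw [e1]
      _ = r * (p * r * p⁻¹) := by group
      _ = r * u := by rw [h.pr]
  · have e2 : t * (r * u) * t⁻¹ = r * u * r := by
      calc t * (r * u) * t⁻¹ = (t * r * t⁻¹) * (t * u * t⁻¹) := by group
        _ = r * u * r := by rw [h.tr, h.tu, mul_assoc]
    rw [e, e1, e2]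
    calc p * (r * u * r) * p⁻¹ = p * ((p⁻¹ * r * p) * r) * p⁻¹ := by rw [e1]
      _ = r * (p * r * p⁻¹) := by group
      _ = r * u := by rw [h.pr]

/-- an element of `C` which acts trivially on `r`, `u` and on `W` with `[W, d] ≤ ⟨r⟩` is trivial on `W`. -/
theorem eq_of_fix [Finite G] {d : G} (hd : d ∈ C) (hdt : Tv W r d) (hdu : d * u * d⁻¹ = u) :
    ∀ w ∈ W, d * w * d⁻¹ = w := by
  by_contra hcon
  push Not at hcon
  obtain ⟨w0, hw0, hne⟩ := hcon
  have hdw0 : d * w0 * d⁻¹ = w0 * r := (hdt w0 hw0).resolve_left hne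
  have hdr : d * r * d⁻¹ = r := by
    rcases hdt r h.mr with e | e
    · exact e
    · exfalso
      rw [h.sq r h.mr] at e
      exact h.r1 (conj_eq_one_iff.1 e)
  set s := p * t * p⁻¹ with hs
  have hsC : s ∈ C := C.mul_mem (C.mul_mem h.hp h.ht) (C.inv_mem h.hp)
  have hsu : s * u * s⁻¹ = u := by
    rcases h.tv' h.mu with e | e
    · exact e
    · exfalso
      rw [← hs, h.sq u h.mu] at e
      exact h.u1 (conj_eq_one_iff.1 e)
  -- `s⁻¹` on `W`
  have hsinv : ∀ w ∈ W, s⁻¹ * w * s = w ∨ s⁻¹ * w * s = w * u := by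
    intro w hw
    rcases h.tv' hw with e | e
    · left
      rw [← hs] at e
      nth_rewrite 1 [← e]; group
    · right
      rw [← hs] at e
      have e2 : s * (w * u) * s⁻¹ = w := by
        calc s * (w * u) * s⁻¹ = (s * w * s⁻¹) * (s * u * s⁻¹) := by group
          _ = w * (u * u) := by rw [e, hsu, mul_assoc]
          _ = w := by rw [h.sq u h.mu, mul_one]
      nth_rewrite 1 [← e2]; group
  -- the group
  let B : Subgroup G :=
    { carrier := {b | b ∈ C ∧ (∀ w ∈ W, d * w * d⁻¹ = w → b * w * b⁻¹ = w) ∧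
        (∀ w ∈ W, ∃ c, d * c * d⁻¹ = c ∧ c ∈ W ∧ b * w * b⁻¹ = w * c)}
      one_mem' := ⟨C.one_mem, fun w _ _ => by simp, fun w _ => ⟨1, by simp, W.one_mem, by simp⟩⟩
      mul_mem' := by
        rintro a b ⟨ha, ha1, ha2⟩ ⟨hb, hb1, hb2⟩
        refine ⟨C.mul_mem ha hb, fun w hw hdw => ?_, fun w hw => ?_⟩
        · calc a * b * w * (a * b)⁻¹ = a * (b * w * b⁻¹) * a⁻¹ := by group
            _ = w := by rw [hb1 w hw hdw, ha1 w hw hdw]
        · obtain ⟨c, hc, hcW, e⟩ := hb2 w hw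
          obtain ⟨c', hc', hcW', e'⟩ := ha2 w hw
          refine ⟨c' * c, ?_, W.mul_mem hcW' hcW, ?_⟩
          · calc d * (c' * c) * d⁻¹ = (d * c' * d⁻¹) * (d * c * d⁻¹) := by group
              _ = c' * c := by rw [hc, hc']
          · calc a * b * w * (a * b)⁻¹ = a * (b * w * b⁻¹) * a⁻¹ := by group
              _ = (a * w * a⁻¹) * (a * c * a⁻¹) := by rw [e]; group
              _ = w * (c' * c) := by rw [e', ha1 c hcW hc, mul_assoc]
      inv_mem' := by
        rintro b ⟨hb, hb1, hb2⟩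
        refine ⟨C.inv_mem hb, fun w hw hdw => ?_, fun w hw => ?_⟩
        · have e := hb1 w hw hdw
          rw [inv_inv]
          nth_rewrite 1 [← e]; group
        · obtain ⟨c, hc, hcW, e⟩ := hb2 w hw
          refine ⟨c, hc, hcW, ?_⟩
          have e2 : b * (w * c) * b⁻¹ = w := by
            calc b * (w * c) * b⁻¹ = (b * w * b⁻¹) * (b * c * b⁻¹) := by group
              _ = w * (c * c) := by rw [e, hb1 c hcW hc, mul_assoc]
              _ = w := by rw [h.sq c hcW, mul_one]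
          rw [inv_inv]
          nth_rewrite 1 [← e2]; group }
  have hBm : ∀ b, b ∈ B ↔ b ∈ C ∧ (∀ w ∈ W, d * w * d⁻¹ = w → b * w * b⁻¹ = w) ∧
        (∀ w ∈ W, ∃ c, d * c * d⁻¹ = c ∧ c ∈ W ∧ b * w * b⁻¹ = w * c) := fun b => Iff.rfl
  have hBC : B ≤ C := fun b hb => hb.1
  have hdB : d ∈ B := by
    refine ⟨hd, fun w _ e => e, fun w hw => ?_⟩
    rcases hdt w hw with e | e
    · exact ⟨1, by simp, W.one_mem, by rw [e, mul_one]⟩
    · exact ⟨r, hdr, h.mr, e⟩
  have hdru : d * (r * u) * d⁻¹ = r * u := by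
    calc d * (r * u) * d⁻¹ = (d * r * d⁻¹) * (d * u * d⁻¹) := by group
      _ = r * u := by rw [hdr, hdu]
  -- `d' = s d s⁻¹`
  have hd'1 : ∀ w ∈ W, d * w * d⁻¹ = w → s * d * s⁻¹ * w * (s * d * s⁻¹)⁻¹ = w := by
    intro w hw e
    have e0 : s * d * s⁻¹ * w * (s * d * s⁻¹)⁻¹ = s * (d * (s⁻¹ * w * s) * d⁻¹) * s⁻¹ := by group
    rcases hsinv w hw with e1 | e1
    · rw [e0, e1, e]
      calc s * w * s⁻¹ = s * (s⁻¹ * w * s) * s⁻¹ := by rw [e1]
        _ = w := by group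
    · have e2 : d * (w * u) * d⁻¹ = w * u := by
        calc d * (w * u) * d⁻¹ = (d * w * d⁻¹) * (d * u * d⁻¹) := by group
          _ = w * u := by rw [e, hdu]
      rw [e0, e1, e2]
      calc s * (w * u) * s⁻¹ = s * (s⁻¹ * w * s) * s⁻¹ := by rw [e1]
        _ = w := by group
  have hd'2 : ∀ w ∈ W, d * w * d⁻¹ = w * r → s * d * s⁻¹ * w * (s * d * s⁻¹)⁻¹ = w * (r * u) := by
    intro w hw e
    have e0 : s * d * s⁻¹ * w * (s * d * s⁻¹)⁻¹ = s * (d * (s⁻¹ * w * s) * d⁻¹) * s⁻¹ := by group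
    have e3 : d * (s⁻¹ * w * s) * d⁻¹ = (s⁻¹ * w * s) * r := by
      rcases hsinv w hw with e1 | e1
      · rw [e1, e]
      · have : d * (w * u) * d⁻¹ = w * u * r := by
          calc d * (w * u) * d⁻¹ = (d * w * d⁻¹) * (d * u * d⁻¹) := by group
            _ = w * (r * u) := by rw [e, hdu, mul_assoc]
            _ = w * u * r := by rw [h.comm r h.mr u h.mu, mul_assoc]
        rw [e1, this]
    rw [e0, e3]
    calc s * (s⁻¹ * w * s * r) * s⁻¹ = w * (s * r * s⁻¹) := by group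
      _ = w * (r * u) := by rw [hs, h.tr']
  have hd'B : s * d * s⁻¹ ∈ B := by
    refine ⟨C.mul_mem (C.mul_mem hsC hd) (C.inv_mem hsC), hd'1, fun w hw => ?_⟩
    rcases hdt w hw with e | e
    · exact ⟨1, by simp, W.one_mem, by rw [hd'1 w hw e, mul_one]⟩
    · exact ⟨r * u, hdru, W.mul_mem h.mr h.mu, hd'2 w hw e⟩
  -- `B` acts as an elementary abelian group
  have helem : ElemM W B := by
    refine ⟨fun b hb => ?_, fun a ha b hb => ?_⟩
    · rw [mem_centralizer_iff]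
      intro w hw
      obtain ⟨c, hc, hcW, e⟩ := hb.2.2 w hw
      have e2 : b ^ 2 * w * (b ^ 2)⁻¹ = w := by
        calc b ^ 2 * w * (b ^ 2)⁻¹ = b * (b * w * b⁻¹) * b⁻¹ := by rw [pow_two]; group
          _ = b * (w * c) * b⁻¹ := by rw [e]
          _ = (b * w * b⁻¹) * (b * c * b⁻¹) := by group
          _ = w * (c * c) := by rw [e, hb.2.1 c hcW hc, mul_assoc]
          _ = w := by rw [h.sq c hcW, mul_one]
      calc w * b ^ 2 = (b ^ 2 * w * (b ^ 2)⁻¹) * b ^ 2 := by rw [e2]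
        _ = b ^ 2 * w := by group
    · rw [mem_centralizer_iff]
      intro w hw
      obtain ⟨c, hc, hcW, e⟩ := hb.2.2 w hw
      obtain ⟨c', hc', hcW', e'⟩ := ha.2.2 w hw
      have e1 : a * b * w * (a * b)⁻¹ = w * c' * c := by
        calc a * b * w * (a * b)⁻¹ = a * (b * w * b⁻¹) * a⁻¹ := by group
          _ = (a * w * a⁻¹) * (a * c * a⁻¹) := by rw [e]; group
          _ = w * c' * c := by rw [e', ha.2.1 c hcW hc]
      have e2 : b * a * w * (b * a)⁻¹ = w * c' * c := by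
        calc b * a * w * (b * a)⁻¹ = b * (a * w * a⁻¹) * b⁻¹ := by group
          _ = (b * w * b⁻¹) * (b * c' * b⁻¹) := by rw [e']; group
          _ = w * (c * c') := by rw [e, hb.2.1 c' hcW' hc', mul_assoc]
          _ = w * c' * c := by rw [h.comm c hcW c' hcW', mul_assoc]
      have e3 : a * b * a⁻¹ * b⁻¹ * (b * a * w * (b * a)⁻¹) * (a * b * a⁻¹ * b⁻¹)⁻¹
          = a * b * w * (a * b)⁻¹ := by group
      rw [e2, e1] at e3
      -- the element fixes every `w' = w c' c`; apply it to `w c' c`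
      have key : ∀ w ∈ W, ∀ c c', c ∈ W → c' ∈ W → d * c * d⁻¹ = c → d * c' * d⁻¹ = c' →
          a * b * a⁻¹ * b⁻¹ * (w * c' * c) * (a * b * a⁻¹ * b⁻¹)⁻¹ = w * c' * c →
          a * b * a⁻¹ * b⁻¹ * w * (a * b * a⁻¹ * b⁻¹)⁻¹ = w := by
        intro w hw c c' hcW hcW' hc hc' hh
        have hab : a * b * a⁻¹ * b⁻¹ ∈ B :=
          B.mul_mem (B.mul_mem (B.mul_mem ha hb) (B.inv_mem ha)) (B.inv_mem hb)
        have f1 := hab.2.1 c hcW hc
        have f2 := hab.2.1 c' hcW' hc'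
        set k := a * b * a⁻¹ * b⁻¹
        have f3 : k * (w * c' * c) * k⁻¹ = (k * w * k⁻¹) * c' * c := by
          calc k * (w * c' * c) * k⁻¹ = (k * w * k⁻¹) * (k * c' * k⁻¹) * (k * c * k⁻¹) := by group
            _ = _ := by rw [f1, f2]
        rw [f3] at hh
        exact mul_right_cancel (mul_right_cancel hh)
      have e4 := key w hw c c' hcW hcW' hc hc' e3
      calc w * (a * b * a⁻¹ * b⁻¹) = (a * b * a⁻¹ * b⁻¹ * w * (a * b * a⁻¹ * b⁻¹)⁻¹) * (a * b * a⁻¹ * b⁻¹) := by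
            rw [e4]
        _ = a * b * a⁻¹ * b⁻¹ * w := by group
  have hno := h.no B hBC helem
  -- `|W| ≤ 2 |W ∩ C(B)|`
  have hW2 : Nat.card W ≤ 2 * Nat.card ↥(W ⊓ centralizer (B : Set G)) := by
    let g : W →* G :=
      { toFun := fun w => d * (w : G) * d⁻¹ * (w : G)⁻¹
        map_one' := by simp
        map_mul' := by
          intro a b
          have ha : d * (a : G) * d⁻¹ ∈ W := h.nor d hd a a.2
          have hb : d * (b : G) * d⁻¹ ∈ W := h.nor d hd b b.2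
          have c1 : (a : G)⁻¹ * (d * (b : G) * d⁻¹ * (b : G)⁻¹) = (d * (b : G) * d⁻¹ * (b : G)⁻¹) * (a : G)⁻¹ :=
            h.comm _ (W.inv_mem a.2) _ (W.mul_mem hb (W.inv_mem b.2))
          calc d * ((a * b : W) : G) * d⁻¹ * ((a * b : W) : G)⁻¹
              = (d * (a : G) * d⁻¹) * ((d * (b : G) * d⁻¹ * (b : G)⁻¹) * (a : G)⁻¹) := by
                rw [Subgroup.coe_mul]; group
            _ = d * (a : G) * d⁻¹ * (a : G)⁻¹ * (d * (b : G) * d⁻¹ * (b : G)⁻¹) := by
                rw [← c1]; group }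
    have h1 : Nat.card W = Nat.card g.ker * Nat.card g.range := by
      rw [← Subgroup.index_ker, Subgroup.card_mul_index]
    have h2 : Nat.card g.range ≤ 2 := by
      have h3 : (g.range : Set G) ⊆ {1, r} := by
        rintro _ ⟨w, rfl⟩
        change d * (w : G) * d⁻¹ * (w : G)⁻¹ ∈ ({1, r} : Set G)
        rcases hdt w w.2 with e | e
        · left; rw [e]; group
        · right
          rw [Set.mem_singleton_iff, e, h.comm _ w.2 _ h.mr]; group
      have h4 := Set.ncard_le_ncard h3 (Set.toFinite _)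
      have h5 : ({1, r} : Set G).ncard ≤ 2 := Set.ncard_insert_le _ _ |>.trans (by simp)
      exact h4.trans h5
    have h3 : Nat.card g.ker ≤ Nat.card ↥(W ⊓ centralizer (B : Set G)) := by
      refine Nat.card_le_card_of_injective
        (fun x : g.ker => (⟨(x : W), (x : W).2, ?_⟩ : ↥(W ⊓ centralizer (B : Set G)))) ?_
      · refine mem_centralizer_iff.2 fun b hb => ?_
        have hx : d * ((x : W) : G) * d⁻¹ * ((x : W) : G)⁻¹ = 1 := x.2
        have hx' : d * ((x : W) : G) * d⁻¹ = ((x : W) : G) := mul_inv_eq_one.1 hx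
        have := hb.2.1 _ (x : W).2 hx'
        calc b * ((x : W) : G) = (b * ((x : W) : G) * b⁻¹) * b := by group
          _ = ((x : W) : G) * b := by rw [this]
      · intro x y hxy
        have := congrArg (fun z : ↥(W ⊓ centralizer (B : Set G)) => (z : G)) hxy
        exact Subtype.ext (Subtype.ext this)
    calc Nat.card W = Nat.card g.ker * Nat.card g.range := h1
      _ ≤ Nat.card ↥(W ⊓ centralizer (B : Set G)) * 2 := Nat.mul_le_mul h3 h2
      _ = _ := mul_comm _ _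
  -- `4 |B ∩ C(W)| ≤ |B|`
  have hB4 : 4 * Nat.card ↥(B ⊓ centralizer (W : Set G)) ≤ Nat.card B := by
    let f : B →* G :=
      { toFun := fun b => (b : G) * w0 * (b : G)⁻¹ * w0⁻¹
        map_one' := by simp
        map_mul' := by
          intro a b
          obtain ⟨c, hc, hcW, e⟩ := b.2.2.2 w0 hw0
          obtain ⟨c', hc', hcW', e'⟩ := a.2.2.2 w0 hw0
          have e1 : ((a * b : B) : G) * w0 * ((a * b : B) : G)⁻¹ = w0 * c' * c := by
            calc ((a * b : B) : G) * w0 * ((a * b : B) : G)⁻¹ = (a : G) * ((b : G) * w0 * (b : G)⁻¹) * (a : G)⁻¹ := by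
                  rw [Subgroup.coe_mul]; group
              _ = ((a : G) * w0 * (a : G)⁻¹) * ((a : G) * c * (a : G)⁻¹) := by rw [e]; group
              _ = w0 * c' * c := by rw [e', a.2.2.1 c hcW hc]
          change ((a * b : B) : G) * w0 * ((a * b : B) : G)⁻¹ * w0⁻¹ = _
          rw [e1, e, e', h.comm w0 hw0 c' hcW', h.comm w0 hw0 c hcW]
          calc c' * w0 * c * w0⁻¹ = c' * (w0 * c) * w0⁻¹ := by group
            _ = c' * (c * w0) * w0⁻¹ := by rw [h.comm w0 hw0 c hcW]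
            _ = c' * w0 * w0⁻¹ * (c * w0 * w0⁻¹) := by group }
    have h1 : Nat.card B = Nat.card f.ker * Nat.card f.range := by
      rw [← Subgroup.index_ker, Subgroup.card_mul_index]
    have hr : r ∈ f.range := ⟨⟨d, hdB⟩, by
      change d * w0 * d⁻¹ * w0⁻¹ = r
      rw [hdw0, h.comm _ hw0 _ h.mr]; group⟩
    have hru : r * u ∈ f.range := ⟨⟨s * d * s⁻¹, hd'B⟩, by
      change s * d * s⁻¹ * w0 * (s * d * s⁻¹)⁻¹ * w0⁻¹ = r * u
      rw [hd'2 w0 hw0 hdw0, h.comm _ hw0 _ (W.mul_mem h.mr h.mu)]; group⟩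
    have hu : u ∈ f.range := by
      have := f.range.mul_mem hr hru
      rwa [← mul_assoc, h.sq r h.mr, one_mul] at this
    have h2 : 4 ≤ Nat.card f.range := by
      have h3 : ({1, r, u, r * u} : Set G) ⊆ (f.range : Set G) := by
        rintro x (rfl | rfl | rfl | rfl)
        · exact one_mem _
        · exact hr
        · exact hu
        · exact hru
      have h4 := Set.ncard_le_ncard h3 (Set.toFinite _)
      have h5 : ({1, r, u, r * u} : Set G).ncard = 4 := by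
        have n1 : r * u ≠ 1 := fun e => h.ru (by
          have := mul_eq_one_iff_eq_inv.1 e
          rw [this]; exact (inv_eq_of_mul_eq_one_left (h.sq u h.mu)))
        have n2 : r ≠ r * u := fun e => h.u1 (by simpa using e.symm)
        have n3 : u ≠ r * u := fun e => h.r1 (by simpa using e.symm)
        rw [Set.ncard_insert_of_notMem, Set.ncard_insert_of_notMem, Set.ncard_pair n3]
        · rintro (e | e)
          · exact h.ru e
          · exact n2 e
        · rintro (e | e | e)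
          · exact h.r1 e.symm
          · exact h.u1 e.symm
          · exact n1 e.symm
      rw [h5] at h4
      exact h4
    have h3 : Nat.card ↥(B ⊓ centralizer (W : Set G)) ≤ Nat.card f.ker := by
      refine Nat.card_le_card_of_injective
        (fun x : ↥(B ⊓ centralizer (W : Set G)) => (⟨⟨x, x.2.1⟩, ?_⟩ : f.ker)) ?_
      · rw [MonoidHom.mem_ker]
        change (x : G) * w0 * (x : G)⁻¹ * w0⁻¹ = 1
        have := mem_centralizer_iff.1 x.2.2 w0 hw0
        rw [← this]; group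
      · intro x y hxy
        have := congrArg (fun z : f.ker => ((z : B) : G)) hxy
        exact Subtype.ext this
    calc 4 * Nat.card ↥(B ⊓ centralizer (W : Set G)) ≤ Nat.card f.range * Nat.card f.ker := Nat.mul_le_mul h2 h3
      _ = Nat.card B := by rw [h1, mul_comm]
  have p1 : 0 < Nat.card ↥(B ⊓ centralizer (W : Set G)) := Nat.card_pos
  have p2 : 0 < Nat.card ↥(W ⊓ centralizer (B : Set G)) := Nat.card_pos
  linarith only [hno, Nat.mul_le_mul hB4 (le_refl (Nat.card ↥(W ⊓ centralizer (B : Set G)))), Nat.mul_le_mul hW2 (le_refl (Nat.card ↥(B ⊓ centralizer (W : Set G)))), Nat.mul_pos p1 p2]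

/-- **(T1)** -/
theorem tone [Finite G] {x : G} (hx : x ∈ C) (hxt : Tv W r x) :
    (∀ w ∈ W, x * w * x⁻¹ = w) ∨ ∀ w ∈ W, x * w * x⁻¹ = t * w * t⁻¹ := by
  rcases hxt u h.mu with e | e
  · exact Or.inl (h.eq_of_fix hx hxt e)
  · right
    have htinv : ∀ w ∈ W, t⁻¹ * w * t = w ∨ t⁻¹ * w * t = w * r := by
      intro w hw
      rcases h.tv w hw with e | e
      · left; nth_rewrite 1 [← e]; group
      · right
        have e2 : t * (w * r) * t⁻¹ = w := by
          calc t * (w * r) * t⁻¹ = (t * w * t⁻¹) * (t * r * t⁻¹) := by group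
            _ = w * (r * r) := by rw [e, h.tr, mul_assoc]
            _ = w := by rw [h.sq r h.mr, mul_one]
        nth_rewrite 1 [← e2]; group
    have hxr : x * r * x⁻¹ = r := by
      rcases hxt r h.mr with e | e
      · exact e
      · exfalso
        rw [h.sq r h.mr] at e
        exact h.r1 (conj_eq_one_iff.1 e)
    have htinvr : t⁻¹ * r * t = r := by
      have := h.tr
      nth_rewrite 1 [← this]; group
    have hd : t⁻¹ * x ∈ C := C.mul_mem (C.inv_mem h.ht) hx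
    have hdt : Tv W r (t⁻¹ * x) := by
      intro w hw
      have e0 : t⁻¹ * x * w * (t⁻¹ * x)⁻¹ = t⁻¹ * (x * w * x⁻¹) * t := by group
      rcases hxt w hw with e1 | e1 <;> rcases htinv w hw with e2 | e2
      · left; rw [e0, e1, e2]
      · right; rw [e0, e1, e2]
      · right
        rw [e0, e1]
        calc t⁻¹ * (w * r) * t = (t⁻¹ * w * t) * (t⁻¹ * r * t) := by group
          _ = w * r := by rw [e2, htinvr]
      · left
        rw [e0, e1]
        calc t⁻¹ * (w * r) * t = (t⁻¹ * w * t) * (t⁻¹ * r * t) := by group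
          _ = w * (r * r) := by rw [e2, htinvr, mul_assoc]
          _ = w := by rw [h.sq r h.mr, mul_one]
    have hdu : t⁻¹ * x * u * (t⁻¹ * x)⁻¹ = u := by
      calc t⁻¹ * x * u * (t⁻¹ * x)⁻¹ = t⁻¹ * (x * u * x⁻¹) * t := by group
        _ = t⁻¹ * (t * u * t⁻¹) * t := by rw [e, h.tu]
        _ = u := by group
    have h1 := h.eq_of_fix hd hdt hdu
    intro w hw
    have h2 := h1 w hw
    calc x * w * x⁻¹ = t * (t⁻¹ * x * w * (t⁻¹ * x)⁻¹) * t⁻¹ := by group
      _ = t * w * t⁻¹ := by rw [h2]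

end Dat

end Cfsg.Agent.Omega.NOThreeL.RRed.TOne

end
end

-- part: Mrg/Omega/NOThreeL/RRed/BlkG1
section
-- merged: Cfsg.Agent.Mrg.Omega.NOThreeL.RRed.Side
section

/-!
# NO-3L, box R, smallest shape: L1 of #21468, side 1

`W = zl S (MZ S)`.

* `Sm.le_norm_cs` : `P ∈ F_z` normalises `C_S(W)`;
* `Sm.ffMod` : some `A ≤ S` is an offender on `W` (else `W ∈ NN(S)` is `⟨P*(S)⟩`-invariant, `W ≤ RR S = 1`);
* `tv_of` : `V_P` a line, `A ≤ S` an offender on `W` with `C_A(V_P) ≤ C_A(W)`: some `t ∈ A` is a transvection on `W`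
  with centre `z`;
* `Sm.side_of` : `Sd S P₀ v₁ v₂ a t`, from the lines (L0).
-/

set_option autoImplicit false
set_option linter.unusedSectionVars false

namespace Cfsg.Agent.Omega.NOThreeL.RRed

open Subgroup Cfsg Cfsg.Agent.ZN Cfsg.Agent.Omega.MinPar Cfsg.Agent.Omega.Frame Cfsg.Agent.Omega.FrameNOFF
open Cfsg.Agent.Omega.Node.NO3L Cfsg.Agent.Omega.NOThreeL.Basic Cfsg.Agent.Omega.NOThreeL.RTree
open Cfsg.Agent.Omega.NOThreeL.Merge (MZ le_MZ S_le_MZ isLoc_MZ zl_MZ_comm zl_MZ_isPGroup)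
open Cfsg.Agent.Omega.NOThreeL.ZCut (FZ YZ XZ VZ)
open Cfsg.Agent.Omega.NO3b.Bang (bang NN)
open Cfsg.Agent.Omega.NO3S (FFMod)
open Cfsg.Agent.Omega.FFThm (ElemM OffM NoOverM)

universe u

variable {G : Type u} [Group G]

theorem zl_MZ_sq [Finite G] {S : Sylow 2 G} (hc : IsCharacteristicTwoType G) (hm : ¬ FF (S : Subgroup G)) :
    ∀ v ∈ zl (S : Subgroup G) (MZ (S : Subgroup G)), v ^ 2 = 1 := Star.zl_sq hc hm

/-- `P ∈ F_z` normalises `C_S(W)`. -/
theorem le_norm_cs [Finite G] {S : Sylow 2 G} {z : G} (hz : z ∈ zc (S : Subgroup G)) {P : Subgroup G}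
    (hP : P ∈ FZ (S : Subgroup G) z) :
    P ≤ normalizer (((S : Subgroup G) ⊓
      centralizer (zl (S : Subgroup G) (MZ (S : Subgroup G)) : Set G) : Subgroup G) : Set G) := by
  have hPM : P ≤ MZ (S : Subgroup G) := le_MZ hP.1
  have hMW := MinSimple.VModule.le_normalizer_zl (S : Subgroup G) (MZ (S : Subgroup G))
  have hXW : XZ z P ≤ zl (S : Subgroup G) (MZ (S : Subgroup G)) := by
    refine ZCut.XZ_le fun p hp => ?_
    exact (mem_normalizer_iff.1 (hMW (hPM hp)) z).1 (MinSimple.VModule.zc_le_zl _ _ hz)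
  have key : ∀ p ∈ P, ∀ x ∈ (S : Subgroup G) ⊓ centralizer (zl (S : Subgroup G) (MZ (S : Subgroup G)) : Set G),
      p * x * p⁻¹ ∈ (S : Subgroup G) ⊓ centralizer (zl (S : Subgroup G) (MZ (S : Subgroup G)) : Set G) := by
    intro p hp x hx
    refine ⟨?_, ?_⟩
    · have h1 : x ∈ o2 P := ZCut.cent_le_o2 hz hP ⟨hx.1, centralizer_le hXW hx.2⟩
      exact hP.1.isLoc.o2_le S ((mem_normalizer_iff.1 (MinSimple.VModule.le_normalizer_o2 P hp) x).1 h1)
    · refine mem_centralizer_iff.2 fun v hv => ?_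
      have h2 := (mem_normalizer_iff''.1 (hMW (hPM hp)) v).1 hv
      have h3 := mem_centralizer_iff.1 hx.2 _ h2
      have e1 : v * (p * x * p⁻¹) = p * ((p⁻¹ * v * p) * x) * p⁻¹ := by group
      have e2 : p * x * p⁻¹ * v = p * (x * (p⁻¹ * v * p)) * p⁻¹ := by group
      rw [e1, e2, h3]
  intro p hp
  rw [mem_normalizer_iff]
  intro x
  refine ⟨key p hp x, fun hx => ?_⟩
  have h1 := key p⁻¹ (P.inv_mem hp) _ hx
  have e : p⁻¹ * (p * x * p⁻¹) * p⁻¹⁻¹ = x := by group
  rwa [e] at h1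

/-- **Some `A ≤ S` is an offender on `W`.** -/
theorem Sm.ffMod [Finite G] {S : Sylow 2 G} (h : Sm S) : FFMod (S : Subgroup G) (MZ (S : Subgroup G)) := by
  by_contra hn
  have hG := h.ctx
  have hm := h.data.noff
  have hne : zc (S : Subgroup G) ≠ ⊥ := MinSimple.Basic.zc_ne_bot S.isPGroup' (hG.sylow_ne_bot S)
  have hMW := MinSimple.VModule.le_normalizer_zl (S : Subgroup G) (MZ (S : Subgroup G))
  have hSW : (S : Subgroup G) ≤ normalizer (zl (S : Subgroup G) (MZ (S : Subgroup G)) : Set G) :=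
    (S_le_MZ hG h.full).trans hMW
  have hN : NN (S : Subgroup G) (zl (S : Subgroup G) (MZ (S : Subgroup G))) :=
    { le := le_of_le_normalizer S (zl_MZ_isPGroup hG hm) hSW
      norm := hSW
      comm := zl_MZ_comm hG hm
      sq := zl_MZ_sq hG.char2 hm
      nff := fun A hA ho => hn ⟨A, hA, ho⟩ }
  have hI : RZ.Inv (S : Subgroup G) (zl (S : Subgroup G) (MZ (S : Subgroup G))) :=
    { nn := hN
      ys := hMW
      gen := MinSimple.VModule.zl_le ((le_inf (MinSimple.VModule.zc_le_zl _ _) le_rfl).trans (RZ.Z_le _ _))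
        (RZ.le_norm_V _ _) }
  have h1 := hI.le_RR
  rw [h.rr] at h1
  exact hne (eq_bot_iff.2 ((MinSimple.VModule.zc_le_zl _ _).trans h1))

/-- **The transvection.** -/
theorem tv_of [Finite G] {S P W : Subgroup G} {z u c : G} (hL : Ln S P z u c) (hPW : zl S P ≤ W)
    (hW : W ≤ centralizer (W : Set G)) {A : Subgroup G} (hA : A ≤ S) (hoff : OffM W A)
    (hne : ¬ A ≤ centralizer (zl S P : Set G))
    (hAc : A ⊓ centralizer (zl S P : Set G) ≤ centralizer (W : Set G)) :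
    ∃ t ∈ S, Tv W z t ∧ t * u * t⁻¹ = u * z := by
  -- `C_A(u) = C_A(V_P)`
  have hcu : ∀ b ∈ A, b * u * b⁻¹ = u → b ∈ centralizer (zl S P : Set G) := by
    intro b hb hbu
    have hbz := hL.zs (hA hb)
    have hbc := hL.cs (hA hb)
    have hbu' : b * u = u * b := by
      calc b * u = (b * u * b⁻¹) * b := by group
        _ = u * b := by rw [hbu]
    rw [mem_centralizer_iff]
    intro x hx
    obtain ⟨y, hy, hxy⟩ := hL.all x hx
    have hby : b * y = y * b := by
      rcases hy with rfl | rfl | rfl | rfl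
      · simp
      · exact hbz
      · exact hbu'
      · calc b * (u * z) = (b * u) * z := by group
          _ = u * (b * z) := by rw [hbu']; group
          _ = u * z * b := by rw [hbz]; group
    rcases hxy with rfl | rfl
    · exact hby.symm
    · calc y * c * b = y * (c * b) := by group
        _ = (y * b) * c := by rw [← hbc]; group
        _ = b * (y * c) := by rw [← hby]; group
  obtain ⟨t, htA, ht⟩ := SetLike.not_le_iff_exists.1 hne
  have htu : t * u * t⁻¹ = u * z := (hL.us t (hA htA)).resolve_left fun h1 => ht (hcu t htA h1)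
  have htz := hL.zs (hA htA)
  -- `|A| ≤ 2 |C_A(W)|`
  have hA2 : Nat.card A ≤ 2 * Nat.card ↥(A ⊓ centralizer (W : Set G)) := by
    have h1 : (A : Set G) ⊆ ((A ⊓ centralizer (W : Set G) : Subgroup G) : Set G) ∪
        (fun x => t * x) '' ((A ⊓ centralizer (W : Set G) : Subgroup G) : Set G) := by
      intro b hb
      rcases hL.us b (hA hb) with e | e
      · exact Or.inl ⟨hb, hAc ⟨hb, hcu b hb e⟩⟩
      · right
        have hm : t⁻¹ * b ∈ A := mul_mem (inv_mem htA) hb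
        refine ⟨t⁻¹ * b, ⟨hm, hAc ⟨hm, hcu _ hm ?_⟩⟩, by simp⟩
        have e2 : t⁻¹ * (u * z) * t = u := by rw [← htu]; group
        calc t⁻¹ * b * u * (t⁻¹ * b)⁻¹ = t⁻¹ * (b * u * b⁻¹) * t := by group
          _ = u := by rw [e, e2]
    have h2 := Set.ncard_le_ncard h1 (Set.toFinite _)
    have h3 := Set.ncard_union_le ((A ⊓ centralizer (W : Set G) : Subgroup G) : Set G)
      ((fun x => t * x) '' ((A ⊓ centralizer (W : Set G) : Subgroup G) : Set G))
    have h4 := Set.ncard_image_le (f := fun x => t * x)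
      (Set.toFinite ((A ⊓ centralizer (W : Set G) : Subgroup G) : Set G))
    have e1 : Nat.card A = (A : Set G).ncard := rfl
    have e2 : Nat.card ↥(A ⊓ centralizer (W : Set G)) =
      ((A ⊓ centralizer (W : Set G) : Subgroup G) : Set G).ncard := rfl
    omega
  -- `|W| ≤ 2 |C_W(A)|`
  have hW2 : Nat.card W ≤ 2 * Nat.card ↥(W ⊓ centralizer (A : Set G)) := by
    have h1 := hoff.le
    have p1 : 0 < Nat.card ↥(A ⊓ centralizer (W : Set G)) := Nat.card_pos
    have h2 : Nat.card W * Nat.card ↥(A ⊓ centralizer (W : Set G)) ≤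
        (2 * Nat.card ↥(W ⊓ centralizer (A : Set G))) * Nat.card ↥(A ⊓ centralizer (W : Set G)) := by
      calc _ ≤ Nat.card A * Nat.card ↥(W ⊓ centralizer (A : Set G)) := h1
        _ ≤ (2 * Nat.card ↥(A ⊓ centralizer (W : Set G))) * Nat.card ↥(W ⊓ centralizer (A : Set G)) :=
          Nat.mul_le_mul_right _ hA2
        _ = _ := by ring
    exact Nat.le_of_mul_le_mul_right h2 p1
  have huW : u ∈ W := hPW hL.uV
  have hindex : ∀ w ∈ W, w ∈ centralizer (A : Set G) ∨ u⁻¹ * w ∈ centralizer (A : Set G) := by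
    intro w hw
    by_contra hcon
    push Not at hcon
    -- three cosets `D, uD, wD` of `D = C_W(A)` in `W`
    set D : Subgroup G := W ⊓ centralizer (A : Set G) with hD
    have huD : u ∉ D := fun h1 => by
      have h2 := mem_centralizer_iff.1 (mem_inf.1 h1).2 t htA
      have h3 : t * u * t⁻¹ = u := by rw [h2]; group
      rw [h3] at htu
      exact hL.z1 (by simpa using htu.symm)
    have hwD : w ∉ D := fun h1 => hcon.1 (mem_inf.1 h1).2
    have huw : u⁻¹ * w ∉ D := fun h1 => hcon.2 (mem_inf.1 h1).2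
    have hDW : D ≤ W := inf_le_left
    have d1 : Disjoint (D : Set G) ((fun x => u * x) '' (D : Set G)) := by
      rw [Set.disjoint_left]
      rintro _ h1 ⟨y, hy, rfl⟩
      exact huD ((Subgroup.mul_mem_cancel_right D hy).1 h1)
    have d2 : Disjoint ((D : Set G) ∪ ((fun x => u * x) '' (D : Set G))) ((fun x => w * x) '' (D : Set G)) := by
      rw [Set.disjoint_left]
      rintro _ h1 ⟨y, hy, rfl⟩
      rcases h1 with h1 | ⟨y', hy', e⟩
      · exact hwD ((Subgroup.mul_mem_cancel_right D hy).1 h1)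
      · apply huw
        have e' : u * y' = w * y := e
        have : u⁻¹ * w = y' * y⁻¹ := by
          calc u⁻¹ * w = u⁻¹ * (w * y) * y⁻¹ := by group
            _ = y' * y⁻¹ := by rw [← e']; group
        rw [this]
        exact mul_mem hy' (inv_mem hy)
    have hsub : ((D : Set G) ∪ ((fun x => u * x) '' (D : Set G))) ∪ ((fun x => w * x) '' (D : Set G)) ⊆
        (W : Set G) := by
      rintro _ ((h1 | ⟨y, hy, rfl⟩) | ⟨y, hy, rfl⟩)
      · exact hDW h1
      · exact mul_mem huW (hDW hy)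
      · exact mul_mem hw (hDW hy)
    have h2 := Set.ncard_le_ncard hsub (Set.toFinite _)
    rw [Set.ncard_union_eq d2 (Set.toFinite _) (Set.toFinite _),
      Set.ncard_union_eq d1 (Set.toFinite _) (Set.toFinite _),
      Set.ncard_image_of_injective _ (mul_right_injective u),
      Set.ncard_image_of_injective _ (mul_right_injective w)] at h2
    have e1 : Nat.card W = (W : Set G).ncard := rfl
    have e2 : Nat.card ↥D = (D : Set G).ncard := rfl
    have p1 : 0 < Nat.card ↥D := Nat.card_pos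
    omega
  refine ⟨t, hA htA, fun w hw => ?_, htu⟩
  rcases hindex w hw with e | e
  · left
    have h1 := mem_centralizer_iff.1 e t htA
    rw [h1]; group
  · right
    have h1 := mem_centralizer_iff.1 e t htA
    have hzW : z ∈ W := by
      have h2 : u * z ∈ W := by
        rw [← htu]
        have h3 : t * u * t⁻¹ ∈ zl S P := by
          rw [htu]
          exact mul_mem hL.uV (MinSimple.VModule.zc_le_zl _ _ hL.zS)
        exact hPW h3
      have h4 := mul_mem (inv_mem huW) h2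
      rwa [inv_mul_cancel_left] at h4
    have hwz := mem_centralizer_iff.1 (hW hw) z hzW
    have huz := hL.uz
    calc t * w * t⁻¹ = (t * u * t⁻¹) * (t * (u⁻¹ * w) * t⁻¹) := by group
      _ = (u * z) * ((u⁻¹ * w) * t * t⁻¹) := by rw [htu, h1]
      _ = (z * u) * (u⁻¹ * w) := by rw [huz]; group
      _ = z * w := by group
      _ = w * z := hwz

/-- **Side 1**, from the lines. -/
theorem Sm.side_of [Finite G] {S : Sylow 2 G} (h : Sm S)
    (hl : ∀ P, IsParS (S : Subgroup G) P → ∃ z u c, Ln (S : Subgroup G) P z u c) :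
    ∃ P₀ v₁ v₂ a t, Sd S P₀ v₁ v₂ a t := by
  have hG := h.ctx
  have hm := h.data.noff
  have hMW := MinSimple.VModule.le_normalizer_zl (S : Subgroup G) (MZ (S : Subgroup G))
  obtain ⟨A₀, hA₀, hoff₀⟩ := h.ffMod
  have hSM := S_le_MZ hG h.full
  obtain ⟨hno, P, hP, hPM, A, hA, hoffW, hoffP, hAc, -⟩ :=
    VF.one FFBr.ffthmM hG.char2 S (isLoc_MZ hG h.full hm) (sSup_le fun _ hP => le_sSup ⟨hP, le_MZ hP⟩)
      ⟨A₀, hA₀.trans hSM, hoff₀⟩
  obtain ⟨v₁, a, v₂, hL⟩ := hl P hP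
  have hPW : zl (S : Subgroup G) P ≤ zl (S : Subgroup G) (MZ (S : Subgroup G)) :=
    MinSimple.VModule.zl_le (MinSimple.VModule.zc_le_zl _ _) (hPM.trans hMW)
  have hWc := zl_MZ_comm hG hm
  obtain ⟨t, ht, htv, hta⟩ := tv_of hL hPW hWc hA hoffW hoffP.ne hAc
  obtain ⟨p, hp, hpa⟩ := hL.tr
  have hsq : ∀ w ∈ zl (S : Subgroup G) (MZ (S : Subgroup G)), w * w = 1 := fun w hw => by
    rw [← pow_two]; exact zl_MZ_sq hG.char2 hm w hw
  have hD : TOne.Dat (MZ (S : Subgroup G)) (zl (S : Subgroup G) (MZ (S : Subgroup G))) v₁ a t p :=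
    { comm := fun v hv w hw => (mem_centralizer_iff.1 (hWc hw) v hv)
      sq := hsq
      nor := fun c hc w hw => (mem_normalizer_iff.1 (hMW hc) w).1 hw
      no := hno
      mr := MinSimple.VModule.zc_le_zl _ _ hL.zS
      mu := hPW hL.uV
      ht := hSM ht
      tv := htv
      tu := hta
      hp := hPM hp
      pr := hpa
      pr' := by
        rcases hL.orb p⁻¹ (inv_mem hp) with e | e | e
        · exfalso
          rw [inv_inv] at e
          apply hL.uz_ne
          rw [← hpa]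
          nth_rewrite 1 [← e]; group
        · left; rwa [inv_inv] at e
        · right; rw [inv_inv] at e; rw [e, hL.uz]
      ru := hL.uz_ne.symm
      u1 := hL.u1 }
  refine ⟨P, v₁, v₂, a, t, ⟨h, hP, hL, ht, htv, hta, hno, fun x hx hxt => ?_⟩⟩
  rcases hD.tone hx hxt with e | e
  · left
    rw [mem_centralizer_iff]
    intro w hw
    have := e w hw
    calc w * x = (x * w * x⁻¹) * x := by rw [this]
      _ = x * w := by group
  · right
    rw [mem_centralizer_iff]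
    intro w hw
    have h1 := e w hw
    have h2 : t * w = (x * w * x⁻¹) * t := by rw [h1]; group
    calc w * (x⁻¹ * t) = x⁻¹ * ((x * w * x⁻¹) * t) := by group
      _ = x⁻¹ * t * w := by rw [← h2]; group

end Cfsg.Agent.Omega.NOThreeL.RRed

end

-- merged: Cfsg.Agent.Mrg.Omega.NOThreeL.RRed.BlkG1
section

section


/-!
# NO-3L, box R, the block theorem, (G1) of #23492 (helper704), text: helper245

`S ≤ L`, `L` 2-local, generated by the members of `P*(S)` in `L`; `U = zl S L` (`L = MZ S`: `U = V* = Wd S`).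

* `exact_of` : exactness, `U = V C_U(A)`;
* `GOne S L P A` : `P ∈ P*(S)`, `P ≤ L`; no subgroup of `L` over-offends on `U`; `A ≤ S` is an offender on `U` and on
  `V_P`, `C_A(V_P) ≤ C_A(U)`, `U = V_P C_U(A)`; the conclusion of the FF theorem for `P`;
* `exists_gOne` : existence, if `L` has an offender on `U`;
* `ffMod_of` : box R: some `A ≤ S` is an offender on `V*` (one `P ∈ F_z` with `P ≰ N_G(V^!(S))` suffices);
* `g1` : `GOne S (MZ S) P A` in box R;
* `Two2 S P` : `P` is of type `q = 2` or `S_n`; `GOne.tv` : then some `t ∈ A` is a transvection on `U`, its centre is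
  in `V_P`;
* `tv_or` : the case split (a transvection on `U`, or some `P` of type `q ≥ 4`);
* `gOne_of_opt` : `GOne S L R A` for every `R` whose line is moved by an optimal `A ≤ S`.
-/

set_option autoImplicit false
set_option linter.unusedSectionVars false

namespace Cfsg.Agent.Omega.NOThreeL.RRed

open Subgroup Cfsg Cfsg.Agent.ZN Cfsg.Agent.Omega.MinPar Cfsg.Agent.Omega.Frame Cfsg.Agent.Omega.FrameNOFF
open Cfsg.Agent.Omega.Node.NO3L Cfsg.Agent.Omega.NOThreeL.Basic Cfsg.Agent.Omega.NOThreeL.RTree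
open Cfsg.Agent.Omega.NOThreeL.Merge (MZ S_le_MZ isLoc_MZ zl_MZ_comm zl_MZ_isPGroup)
open Cfsg.Agent.Omega.NOThreeL.ZCut (FZ)
open Cfsg.Agent.Omega.NO3b.Bang (bang NN)
open Cfsg.Agent.Omega.NO3S (FFMod)
open Cfsg.Agent.Omega.FFThm (ElemM OffM NoOverM ConclM NatKM SymKM NatK SymK ActsSL ActsSym)
open Cfsg.Agent.Omega.FrameFF (cv)
open Cfsg.Agent.Omega.HOne.Main (vx SplitPar)
open Cfsg.Agent.ZN.CaseTwo (syl_of_sylow)
open Cfsg.Agent.Omega.NatPair (ap)
open Cfsg.Agent.Lib.SL2Mat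

universe u

variable {G : Type u} [Group G]

/-! ### Exactness -/

/-- **Exactness**: `A` offends on `U`, not over-offends on `V ≤ U`, `C_A(V) ≤ C_A(U)`: `U = V C_U(A)`. -/
theorem exact_of [Finite G] {U V A : Subgroup G} (hU : U ≤ centralizer (U : Set G)) (hVU : V ≤ U)
    (hoff : Nat.card U * Nat.card ↥(A ⊓ centralizer (U : Set G)) ≤
      Nat.card A * Nat.card ↥(U ⊓ centralizer (A : Set G)))
    (hno : Nat.card A * Nat.card ↥(V ⊓ centralizer (A : Set G)) ≤
      Nat.card V * Nat.card ↥(A ⊓ centralizer (V : Set G)))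
    (hAc : A ⊓ centralizer (V : Set G) ≤ centralizer (U : Set G)) :
    U = V ⊔ (U ⊓ centralizer (A : Set G)) := by
  have e1 : A ⊓ centralizer (V : Set G) = A ⊓ centralizer (U : Set G) :=
    le_antisymm (le_inf inf_le_left hAc) (inf_le_inf_left _ (centralizer_le hVU))
  have e2 : V ⊓ (U ⊓ centralizer (A : Set G)) = V ⊓ centralizer (A : Set G) := by
    rw [← inf_assoc, inf_eq_left.2 hVU]
  have h1 := Star.card_sup_mul hU hVU (inf_le_left : U ⊓ centralizer (A : Set G) ≤ U)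
  rw [e2] at h1
  rw [e1] at hno
  set m := Nat.card ↥(V ⊔ (U ⊓ centralizer (A : Set G)))
  set w := Nat.card ↥(V ⊓ centralizer (A : Set G))
  set c := Nat.card ↥(A ⊓ centralizer (U : Set G))
  set n := Nat.card ↥(U ⊓ centralizer (A : Set G))
  have pw : 0 < w := Nat.card_pos
  have pc : 0 < c := Nat.card_pos
  have h2 : Nat.card U * (c * w) ≤ m * (c * w) := by
    calc Nat.card U * (c * w) = (Nat.card U * c) * w := by ring
      _ ≤ (Nat.card A * n) * w := Nat.mul_le_mul_right _ hoff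
      _ = (Nat.card A * w) * n := by ring
      _ ≤ (Nat.card V * c) * n := Nat.mul_le_mul_right _ hno
      _ = (m * w) * c := by rw [h1]; ring
      _ = m * (c * w) := by ring
  exact (Subgroup.eq_of_le_of_card_ge (sup_le hVU inf_le_left)
    (Nat.le_of_mul_le_mul_right h2 (Nat.mul_pos pc pw))).symm

/-! ### (G1) for a pair `(L, U)` -/

/-- **(G1)** for `(L, zl S L)`. -/
structure GOne [Finite G] (S : Sylow 2 G) (L P A : Subgroup G) : Prop where
  par : IsParS (S : Subgroup G) P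
  PL : P ≤ L
  AS : A ≤ (S : Subgroup G)
  comm : zl (S : Subgroup G) L ≤ centralizer (zl (S : Subgroup G) L : Set G)
  no : NoOverM (zl (S : Subgroup G) L) L
  offU : OffM (zl (S : Subgroup G) L) A
  offP : OffM (zl (S : Subgroup G) P) A
  cent : A ⊓ centralizer (zl (S : Subgroup G) P : Set G) ≤ centralizer (zl (S : Subgroup G) L : Set G)
  concl : ConclM (S : Subgroup G) P
  ex : zl (S : Subgroup G) L = zl (S : Subgroup G) P ⊔ (zl (S : Subgroup G) L ⊓ centralizer (A : Set G))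

section fin

variable [Finite G] {S : Sylow 2 G} {L P A : Subgroup G}

/-- **(G1)**: existence. -/
theorem exists_gOne (hc : IsCharacteristicTwoType G) (hL : IsLoc (S : Subgroup G) L)
    (hgen : L ≤ sSup {P | IsParS (S : Subgroup G) P ∧ P ≤ L})
    (hoff : ∃ A ≤ L, OffM (zl (S : Subgroup G) L) A) : ∃ P A, GOne S L P A := by
  obtain ⟨hno, P, hP, hPL, A, hA, hoffU, hoffP, hAc, hcon⟩ := VF.one FFBr.ffthmM hc S hL hgen hoff
  have hVU : zl (S : Subgroup G) P ≤ zl (S : Subgroup G) L := Star.zl_mono _ hPL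
  have hcomm : zl (S : Subgroup G) L ≤ centralizer (zl (S : Subgroup G) L : Set G) := by
    intro x hx
    rw [mem_centralizer_iff]
    intro y hy
    exact MinSimple.VModule.zc_comm _ _ (hL.zl_le S hc hy) _ (hL.zl_le S hc hx)
  have hnoP := (FFBr.ffthmM G (S : Subgroup G) P (syl_of_sylow S hP.le) hP.toIsMinPar
    (hP.isLoc.char2 S hc) ⟨A, hA.trans hP.le, hoffP⟩).1
  refine ⟨P, A, hP, hPL, hA, hcomm, hno, hoffU, hoffP, hAc, hcon, ?_⟩
  exact exact_of hcomm hVU hoffU.le (hnoP A (hA.trans hP.le) hoffP.toElemM) hAc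

namespace GOne

variable (h : GOne S L P A)
include h

theorem VU : zl (S : Subgroup G) P ≤ zl (S : Subgroup G) L := Star.zl_mono _ h.PL

theorem dec {u : G} (hu : u ∈ zl (S : Subgroup G) L) :
    ∃ v ∈ zl (S : Subgroup G) P, ∃ w ∈ zl (S : Subgroup G) L ⊓ centralizer (A : Set G), u = v * w := by
  rw [h.ex] at hu
  have hn : (zl (S : Subgroup G) L ⊓ centralizer (A : Set G) : Subgroup G) ≤
      normalizer (zl (S : Subgroup G) P : Set G) :=
    inf_le_left.trans (h.comm.trans ((centralizer_le h.VU).trans (centralizer_le_normalizer _)))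
  have hu' : u ∈ ((zl (S : Subgroup G) P ⊔ (zl (S : Subgroup G) L ⊓ centralizer (A : Set G)) : Subgroup G) :
      Set G) := hu
  rw [coe_mul_of_right_le_normalizer_left _ _ hn] at hu'
  obtain ⟨v, hv, w, hw, e⟩ := hu'
  exact ⟨v, hv, w, hw, e.symm⟩

/-- `[U, a] = [V_P, a]` for `a ∈ A` -/
theorem comm_eq {u : G} (hu : u ∈ zl (S : Subgroup G) L) :
    ∃ v ∈ zl (S : Subgroup G) P, ∀ a ∈ A, a * u * a⁻¹ * u⁻¹ = a * v * a⁻¹ * v⁻¹ := by
  obtain ⟨v, hv, w, hw, rfl⟩ := h.dec hu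
  refine ⟨v, hv, fun a ha => ?_⟩
  have h1 : a * w = w * a := mem_centralizer_iff.1 hw.2 a ha
  calc a * (v * w) * a⁻¹ * (v * w)⁻¹ = a * v * a⁻¹ * (a * w) * a⁻¹ * w⁻¹ * v⁻¹ := by group
    _ = a * v * a⁻¹ * v⁻¹ := by rw [h1]; group

/-- a transvection on `V_P` in `A` is a transvection on `U` -/
theorem tv_of_tv {c t : G} (ht : t ∈ A) (hc : c ∈ zl (S : Subgroup G) P) (htv : Tv (zl (S : Subgroup G) P) c t) :
    Tv (zl (S : Subgroup G) L) c t := by
  intro u hu
  obtain ⟨v, hv, w, hw, rfl⟩ := h.dec hu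
  have h1 : t * w = w * t := mem_centralizer_iff.1 hw.2 t ht
  have e : t * (v * w) * t⁻¹ = t * v * t⁻¹ * w := by
    calc t * (v * w) * t⁻¹ = t * v * t⁻¹ * (t * w) * t⁻¹ := by group
      _ = _ := by rw [h1]; group
  rcases htv v hv with h2 | h2
  · left; rw [e, h2]
  · right
    rw [e, h2, mul_assoc, mul_assoc]
    congr 1
    exact mem_centralizer_iff.1 (h.comm hw.1) c (h.VU hc)

theorem not_cent {t : G} (ht : t ∉ centralizer (zl (S : Subgroup G) P : Set G)) :
    t ∉ centralizer (zl (S : Subgroup G) L : Set G) := fun h1 => ht (centralizer_le h.VU h1)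

theorem SP : (S : Subgroup G) ≤ P := h.par.le

theorem SL : (S : Subgroup G) ≤ L := h.par.le.trans h.PL

end GOne

end fin

/-! ### Transvections on `V_P` -/

/-- `V = N D`, `N ∩ D = 1`, `a` normalises `N`, centralises `D`, moves the coordinates of `n ∈ N` by `0` or `e c`. -/
theorem tv_of_split {V N D : Subgroup G} {X : Type*} [AddGroup X] (e : G → X) {a c : G}
    (hc : c ∈ N) (hdec : ∀ v ∈ V, ∃ n ∈ N, ∃ d ∈ D, v = n * d)
    (hinj : ∀ n ∈ N, e n = 0 → n = 1) (hmul : ∀ v ∈ N, ∀ w ∈ N, e (v * w) = e v + e w)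
    (hcomm : ∀ d ∈ D, c * d = d * c)
    (haN : ∀ n ∈ N, a * n * a⁻¹ ∈ N) (haD : ∀ d ∈ D, a * d = d * a)
    (hact : ∀ n ∈ N, e (a * n * a⁻¹) = e n ∨ e (a * n * a⁻¹) = e n + e c) : Tv V c a := by
  have h1 : e 1 = 0 := by
    have := hmul 1 (one_mem _) 1 (one_mem _)
    rw [one_mul] at this
    simpa using this
  have hi : ∀ n ∈ N, e n⁻¹ = - e n := by
    intro n hn
    have h2 := hmul n hn n⁻¹ (inv_mem hn)
    rw [mul_inv_cancel, h1] at h2
    exact (neg_eq_of_add_eq_zero_right h2.symm).symm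
  have heq : ∀ x ∈ N, ∀ y ∈ N, e x = e y → x = y := by
    intro x hx y hy hxy
    have h2 : e (x * y⁻¹) = 0 := by rw [hmul x hx _ (inv_mem hy), hi y hy, hxy, add_neg_cancel]
    exact mul_inv_eq_one.1 (hinj _ (mul_mem hx (inv_mem hy)) h2)
  intro v hv
  obtain ⟨n, hn, d, hd, rfl⟩ := hdec v hv
  have e1 : a * (n * d) * a⁻¹ = a * n * a⁻¹ * d := by
    calc a * (n * d) * a⁻¹ = a * n * a⁻¹ * (a * d) * a⁻¹ := by group
      _ = _ := by rw [haD d hd]; group
  rcases hact n hn with h2 | h2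
  · left
    rw [e1, heq _ (haN n hn) _ hn h2]
  · right
    rw [← hmul n hn c hc] at h2
    rw [e1, heq _ (haN n hn) _ (mul_mem hn hc) h2, mul_assoc, hcomm d hd, mul_assoc]

section nat

variable [Finite G] {F : Type} [Field F] [CharP F 2] {S : Sylow 2 G} {P A : Subgroup G} {k : ℕ}

theorem two_of_card (hF : Nat.card F = 2) (x : F) : x = 0 ∨ x = 1 := by
  have hfin : Finite F := Nat.finite_of_card_ne_zero (by rw [hF]; norm_num)
  have h2 := Nat.card_eq_two_iff' (0 : F)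
  obtain ⟨y, hy, huniq⟩ := h2.1 hF
  by_cases h0 : x = 0
  · exact Or.inl h0
  · right
    rw [huniq x h0, huniq 1 one_ne_zero]

/-- **`q = 2`**: an offender `A ≤ S` on `V_P` contains a transvection on `V_P`. -/
theorem tv_nat (hG : IsCharacteristicTwoType G) (hP : IsParS (S : Subgroup G) P)
    (M : NatKM F (S : Subgroup G) P (zl (S : Subgroup G) P) (cv (S : Subgroup G) P) k) (hk : 0 < k)
    (hF : Nat.card F = 2) (hA : A ≤ (S : Subgroup G)) (hoff : OffM (zl (S : Subgroup G) P) A) :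
    ∃ t ∈ A, ∃ c ∈ zl (S : Subgroup G) P, c ≠ 1 ∧ Tv (zl (S : Subgroup G) P) c t ∧
      t ∉ centralizer (zl (S : Subgroup G) P : Set G) := by
  classical
  have hs : SplitPar (S : Subgroup G) P := IId.Cv.splitPar_two hG S hP M.toNatK hk hF
  have hSP := hP.le
  have hDc : ∀ p ∈ P, ∀ d ∈ cv (S : Subgroup G) P, p * d = d * p := fun p hp d hd =>
    (mem_centralizer_iff.1 (IId.Cv.le_centralizer_cv hG S hP M.toNatK hs hp) d hd).symm
  have hinj : ∀ n ∈ vx (S : Subgroup G) P, M.e n = 0 → n = 1 := by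
    intro n hn h0
    have h1 : n ∈ vx (S : Subgroup G) P ⊓ cv (S : Subgroup G) P :=
      ⟨hn, (M.ker n (HOne.vx_le _ _ hn)).1 h0⟩
    rwa [hs, mem_bot] at h1
  have hmul : ∀ v ∈ vx (S : Subgroup G) P, ∀ w ∈ vx (S : Subgroup G) P, M.e (v * w) = M.e v + M.e w :=
    fun v hv w hw => M.mul v (HOne.vx_le _ _ hv) w (HOne.vx_le _ _ hw)
  obtain ⟨I, hI1, hI2⟩ := M.offM A hA hoff
  -- `I ≠ ∅`
  obtain ⟨i, hi⟩ : ∃ i, i ∈ I := by
    by_contra hcon
    push Not at hcon
    apply hoff.ne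
    intro a ha
    obtain ⟨b, hb, hact⟩ := hI1 a ha
    have hb0 : b = 0 := funext fun j => hb j (hcon j)
    have haP := hSP (hA ha)
    rw [mem_centralizer_iff]
    intro v hv
    obtain ⟨n, hn, d, hd, rfl⟩ := IId.Cv.exists_mul M.toNatK hv
    have h1 : M.e (a * n * a⁻¹) = M.e n := by
      funext j
      rw [hact.1 n (HOne.vx_le _ _ hn) j, hb0]
      refine VF.Nat.ext2' ?_ ?_
      · rw [VF.Nat.ap_up_0]; simp
      · rw [VF.Nat.ap_up_1]
    have h2 : a * n * a⁻¹ * n⁻¹ = 1 := by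
      have hn' := IId.Cv.natK M.toNatK hs fun s hs' d hd => hDc s (hSP hs') d hd
      have h3 : a * n * a⁻¹ ∈ vx (S : Subgroup G) P :=
        (mem_normalizer_iff.1 (HOne.le_normalizer_vx _ _ haP) n).1 hn
      refine hinj _ (mul_mem h3 (inv_mem hn)) ?_
      have h4 : M.e (a * n * a⁻¹ * n⁻¹) + M.e n = M.e n := by
        rw [← hmul _ (mul_mem h3 (inv_mem hn)) n hn, inv_mul_cancel_right, h1]
      simpa only [_root_.add_eq_right] using h4
    have h3 : a * n = n * a := by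
      have := mul_inv_eq_one.1 h2
      rwa [mul_inv_eq_iff_eq_mul] at this
    rw [← mul_assoc, h3, mul_assoc, mul_assoc, hDc a haP d hd]
  obtain ⟨t, ht, hact⟩ := hI2 (Pi.single i 1) (fun j hj => Pi.single_eq_of_ne (fun e => hj (by rw [e]; exact hi)) _)
  have htP := hSP (hA ht)
  obtain ⟨c₀, hc₀, hec₀⟩ := M.surj (Pi.single i ![1, 0])
  obtain ⟨c, hc, d₀, hd₀, rfl⟩ := IId.Cv.exists_mul M.toNatK hc₀
  have hec : M.e c = Pi.single i ![1, 0] := by
    rw [M.mul c (HOne.vx_le _ _ hc) d₀ (HOne.cv_le _ _ hd₀), (M.ker d₀ (HOne.cv_le _ _ hd₀)).2 hd₀,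
      add_zero] at hec₀
    exact hec₀
  have hVc : ∀ x ∈ zl (S : Subgroup G) P, ∀ y ∈ zl (S : Subgroup G) P, x * y = y * x := fun x hx y hy =>
    MinSimple.VModule.zc_comm _ _ (hP.isLoc.zl_le S hG hx) _ (hP.isLoc.zl_le S hG hy)
  refine ⟨t, ht, c, HOne.vx_le _ _ hc, ?_, ?_, ?_⟩
  · rintro rfl
    have h1 : M.e 1 = 0 := by
      have := hmul 1 (one_mem _) 1 (one_mem _)
      rw [one_mul] at this
      simpa using this
    rw [h1] at hec
    have h2 := congrFun (congrFun hec i) 0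
    simp at h2
  · refine tv_of_split (N := vx (S : Subgroup G) P) (D := cv (S : Subgroup G) P) M.e hc
      (fun v hv => IId.Cv.exists_mul M.toNatK hv) hinj hmul
      (fun d hd => hVc c (HOne.vx_le _ _ hc) d (HOne.cv_le _ _ hd))
      (fun n hn => (mem_normalizer_iff.1 (HOne.le_normalizer_vx _ _ htP) n).1 hn)
      (fun d hd => hDc t htP d hd) ?_
    intro n hn
    have hnV := HOne.vx_le _ _ hn
    rcases two_of_card hF (M.e n i 1) with h0 | h1
    · left
      funext j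
      rw [hact.1 n hnV j]
      refine VF.Nat.ext2' ?_ ?_
      · rw [VF.Nat.ap_up_0]
        by_cases hj : j = i
        · subst hj; rw [h0, mul_zero, add_zero]
        · rw [Pi.single_eq_of_ne hj, zero_mul, add_zero]
      · rw [VF.Nat.ap_up_1]
    · right
      rw [hec]
      funext j
      rw [hact.1 n hnV j, Pi.add_apply]
      refine VF.Nat.ext2' ?_ ?_
      · rw [VF.Nat.ap_up_0, Pi.add_apply]
        by_cases hj : j = i
        · subst hj; rw [h1, Pi.single_eq_same, Pi.single_eq_same]; simp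
        · rw [Pi.single_eq_of_ne hj, Pi.single_eq_of_ne hj, zero_mul]; rfl
      · rw [VF.Nat.ap_up_1, Pi.add_apply]
        by_cases hj : j = i
        · subst hj; rw [Pi.single_eq_same]; simp
        · rw [Pi.single_eq_of_ne hj]; simp
  · intro h0
    obtain ⟨v, hv, hev⟩ := M.surj (Pi.single i ![0, 1])
    have h1 : t * v * t⁻¹ = v := by
      rw [← mem_centralizer_iff.1 h0 v hv]; group
    have h2 := hact.1 v hv i
    rw [h1] at h2
    have h3 := congrFun h2 0
    rw [VF.Nat.ap_up_0, hev] at h3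
    simp at h3

end nat

section sym

variable [Finite G] {S : Sylow 2 G} {P A : Subgroup G} {k m : ℕ}

theorem zmod_eq_or (a b : ZMod 2) : a = b ∨ a = b + 1 := by
  revert a b; decide

theorem swp_of_eq {X : Type*} [DecidableEq X] (f : X → ZMod 2) {x y : X} (h : f x = f y) (z : X) :
    f (Equiv.swap x y z) = f z := by
  rcases eq_or_ne z x with rfl | hx
  · rw [Equiv.swap_apply_left, h]
  · rcases eq_or_ne z y with rfl | hy
    · rw [Equiv.swap_apply_right, h]
    · rw [Equiv.swap_apply_of_ne_of_ne hx hy]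

theorem swp_of_ne {X : Type*} [DecidableEq X] (f : X → ZMod 2) {x y : X} (hxy : x ≠ y) (h : f x ≠ f y) (z : X) :
    f (Equiv.swap x y z) = f z + ((Pi.single x 1 : X → ZMod 2) z + (Pi.single y 1 : X → ZMod 2) z) := by
  have h1 : f x = f y + 1 := (zmod_eq_or _ _).resolve_left h
  have h2 : f y = f x + 1 := (zmod_eq_or _ _).resolve_left (Ne.symm h)
  rcases eq_or_ne z x with rfl | hx
  · rw [Equiv.swap_apply_left, Pi.single_eq_same, Pi.single_eq_of_ne hxy, add_zero, h2]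
  · rcases eq_or_ne z y with rfl | hy
    · rw [Equiv.swap_apply_right, Pi.single_eq_same, Pi.single_eq_of_ne hx, zero_add, h1]
    · rw [Equiv.swap_apply_of_ne_of_ne hx hy, Pi.single_eq_of_ne hx, Pi.single_eq_of_ne hy, add_zero, add_zero]

/-- **`S_n`**: an offender `A ≤ S` on `V_P` contains a transvection on `V_P`. -/
theorem tv_sym (hG : IsCharacteristicTwoType G) (hP : IsParS (S : Subgroup G) P)
    (M : SymKM (S : Subgroup G) P (zl (S : Subgroup G) P) (cv (S : Subgroup G) P) k m) (hk : 0 < k)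
    (hm : 2 ≤ m) (hA : A ≤ (S : Subgroup G)) (hoff : OffM (zl (S : Subgroup G) P) A) :
    ∃ t ∈ A, ∃ c ∈ zl (S : Subgroup G) P, c ≠ 1 ∧ Tv (zl (S : Subgroup G) P) c t ∧
      t ∉ centralizer (zl (S : Subgroup G) P : Set G) := by
  classical
  obtain ⟨hDc, N, hNV, hsup, hinf, hNn⟩ := IId.SymWrD.exists_compl M.toSymK hk (by omega) (syl_of_sylow S hP.le)
    (hP.isLoc.char2 S hG)
  have hSP := hP.le
  have hVc : ∀ x ∈ zl (S : Subgroup G) P, ∀ y ∈ zl (S : Subgroup G) P, x * y = y * x := fun x hx y hy =>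
    MinSimple.VModule.zc_comm _ _ (hP.isLoc.zl_le S hG hx) _ (hP.isLoc.zl_le S hG hy)
  have hDV : cv (S : Subgroup G) P ≤ zl (S : Subgroup G) P := inf_le_left
  have hdec : ∀ v ∈ zl (S : Subgroup G) P, ∃ n ∈ N, ∃ d ∈ cv (S : Subgroup G) P, v = n * d := by
    intro v hv
    rw [← hsup] at hv
    exact F4.Split.mem_sup_comm (fun x hx y hy => hVc x (hNV hx) y (hDV hy)) hv
  have hinj : ∀ n ∈ N, M.e n = 0 → n = 1 := by
    intro n hn h0
    have h1 : n ∈ N ⊓ cv (S : Subgroup G) P := ⟨hn, (M.ker n (hNV hn)).1 h0⟩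
    rwa [hinf, mem_bot] at h1
  have hmul : ∀ v ∈ N, ∀ w ∈ N, M.e (v * w) = M.e v + M.e w := fun v hv w hw => M.mul v (hNV hv) w (hNV hw)
  obtain ⟨-, hof⟩ := M.offM A hA hoff
  obtain ⟨a, ha, hane⟩ := SetLike.not_le_iff_exists.1 hoff.ne
  obtain ⟨τ, hτ, hτ2⟩ := hof a ha
  obtain ⟨i, x, hix⟩ : ∃ i x, τ i x ≠ x := by
    by_contra hcon
    push Not at hcon
    apply hane
    have haP := hSP (hA ha)
    rw [mem_centralizer_iff]
    intro v hv
    obtain ⟨n, hn, d, hd, rfl⟩ := hdec v hv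
    have h1 : M.e (a * n * a⁻¹) = M.e n := by
      funext j z
      have := hτ n (hNV hn) j z
      rwa [hcon j z] at this
    have h3 : a * n * a⁻¹ ∈ N := (mem_normalizer_iff.1 (hNn haP) n).1 hn
    have h2 : a * n * a⁻¹ * n⁻¹ = 1 := by
      refine hinj _ (mul_mem h3 (inv_mem hn)) ?_
      have h4 : M.e (a * n * a⁻¹ * n⁻¹) + M.e n = M.e n := by
        rw [← hmul _ (mul_mem h3 (inv_mem hn)) n hn, inv_mul_cancel_right, h1]
      simpa only [_root_.add_eq_right] using h4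
    have h4 : a * n = n * a := by
      have := mul_inv_eq_one.1 h2
      rwa [mul_inv_eq_iff_eq_mul] at this
    rw [← mul_assoc, h4, mul_assoc, mul_assoc, hDc a haP d hd]
  obtain ⟨-, t, ht, hact⟩ := hτ2 i x hix
  set y := τ i x with hy
  have hxy : x ≠ y := fun e => hix e.symm
  have htP := hSP (hA ht)
  have act_i : ∀ v ∈ zl (S : Subgroup G) P, ∀ z, M.e (t * v * t⁻¹) i z = M.e v i (Equiv.swap x y z) := by
    intro v hv z
    have h1 := hact v hv i (Equiv.swap x y z)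
    rwa [Function.update_self, Equiv.swap_apply_self] at h1
  have act_j : ∀ v ∈ zl (S : Subgroup G) P, ∀ j, j ≠ i → ∀ z, M.e (t * v * t⁻¹) j z = M.e v j z := by
    intro v hv j hj z
    have h1 := hact v hv j z
    rwa [Function.update_of_ne hj] at h1
  obtain ⟨c₀, hc₀, hec₀⟩ := M.surj (Pi.single i (Pi.single x 1 + Pi.single y 1)) (by
    intro j
    by_cases hj : j = i
    · subst hj
      rw [Pi.single_eq_same]
      simp only [Pi.add_apply, Finset.sum_add_distrib]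
      rw [Finset.sum_pi_single', Finset.sum_pi_single']
      simp only [_root_.Finset.mem_univ, ↓ _root_.reduceIte]
      decide
    · rw [Pi.single_eq_of_ne hj]
      simp)
  obtain ⟨c, hc, d₀, hd₀, rfl⟩ := hdec c₀ hc₀
  have hec : M.e c = Pi.single i (Pi.single x 1 + Pi.single y 1) := by
    rw [M.mul c (hNV hc) d₀ (hDV hd₀), (M.ker d₀ (hDV hd₀)).2 hd₀, add_zero] at hec₀
    exact hec₀
  refine ⟨t, ht, c, hNV hc, ?_, ?_, ?_⟩
  · rintro rfl
    have h1 : M.e 1 = 0 := by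
      have := hmul 1 (one_mem _) 1 (one_mem _)
      rw [one_mul] at this
      simpa using this
    rw [h1] at hec
    have h2 := congrFun (congrFun hec i) x
    rw [Pi.single_eq_same, Pi.add_apply, Pi.single_eq_same, Pi.single_eq_of_ne hxy, add_zero] at h2
    exact zero_ne_one h2
  · refine tv_of_split (N := N) (D := cv (S : Subgroup G) P) M.e hc hdec hinj hmul
      (fun d hd => hVc c (hNV hc) d (hDV hd))
      (fun n hn => (mem_normalizer_iff.1 (hNn htP) n).1 hn) (fun d hd => hDc t htP d hd) ?_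
    intro n hn
    have hnV := hNV hn
    by_cases h0 : M.e n i x = M.e n i y
    · left
      funext j z
      by_cases hj : j = i
      · subst hj; rw [act_i n hnV, swp_of_eq (M.e n j) h0]
      · rw [act_j n hnV j hj]
    · right
      rw [hec]
      funext j z
      by_cases hj : j = i
      · subst hj
        rw [act_i n hnV, swp_of_ne (M.e n j) hxy h0, Pi.add_apply, Pi.add_apply, Pi.single_eq_same, Pi.add_apply]
      · rw [act_j n hnV j hj, Pi.add_apply, Pi.add_apply, Pi.single_eq_of_ne hj]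
        simp
  · intro h0
    -- a third point
    obtain ⟨w, hw⟩ : ∃ w, w ∉ ({x, y} : Finset (Fin (2 ^ m + 1))) := by
      by_contra hcon
      push Not at hcon
      have h1 : (Finset.univ : Finset (Fin (2 ^ m + 1))) ⊆ {x, y} := fun w _ => hcon w
      have h2 := Finset.card_le_card h1
      have h3 : ({x, y} : Finset (Fin (2 ^ m + 1))).card ≤ 2 := Finset.card_le_two
      have h4 : 2 ^ 2 ≤ 2 ^ m := Nat.pow_le_pow_right (by norm_num) hm
      rw [Finset.card_univ, Fintype.card_fin] at h2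
      omega
    rw [Finset.mem_insert, Finset.mem_singleton, not_or] at hw
    obtain ⟨v, hv, hev⟩ := M.surj (Pi.single i (Pi.single x 1 + Pi.single w 1)) (by
      intro j
      by_cases hj : j = i
      · subst hj
        rw [Pi.single_eq_same]
        simp only [Pi.add_apply, Finset.sum_add_distrib]
        rw [Finset.sum_pi_single', Finset.sum_pi_single']
        simp only [_root_.Finset.mem_univ, ↓ _root_.reduceIte]
        decide
      · rw [Pi.single_eq_of_ne hj]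
        simp)
    have h1 : t * v * t⁻¹ = v := by
      rw [← mem_centralizer_iff.1 h0 v hv]; group
    have h2 := act_i v hv y
    rw [h1, Equiv.swap_apply_right, hev, Pi.single_eq_same, Pi.add_apply, Pi.add_apply,
      Pi.single_eq_of_ne hxy.symm, Pi.single_eq_same, Pi.single_eq_of_ne (Ne.symm hw.2),
      Pi.single_eq_of_ne (Ne.symm hw.1)] at h2
    exact absurd h2 (by decide)

end sym

/-! ### Shape `q = 2` or `S_n` -/

/-- `P` is of type `q = 2` or `S_n`. -/
def Two2 [Finite G] (S : Sylow 2 G) (P : Subgroup G) : Prop :=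
  (∃ (F : Type) (_ : Field F) (_ : CharP F 2) (k : ℕ), Nat.card F = 2 ∧ 0 < k ∧
    Nonempty (NatKM F (S : Subgroup G) P (zl (S : Subgroup G) P) (cv (S : Subgroup G) P) k)) ∨
  ∃ k m : ℕ, 0 < k ∧ 2 ≤ m ∧
    Nonempty (SymKM (S : Subgroup G) P (zl (S : Subgroup G) P) (cv (S : Subgroup G) P) k m)

/-- `P` is natural, `q ≥ 4` -/
def Big4 [Finite G] (S : Sylow 2 G) (P : Subgroup G) : Prop :=
  ∃ (F : Type) (_ : Field F) (_ : Finite F) (_ : CharP F 2) (k : ℕ), 4 ≤ Nat.card F ∧ 0 < k ∧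
    Nonempty (NatKM F (S : Subgroup G) P (zl (S : Subgroup G) P) (cv (S : Subgroup G) P) k)

section fin

variable [Finite G] {S : Sylow 2 G} {L P A : Subgroup G}

theorem two2_or (h : ConclM (S : Subgroup G) P) : Two2 S P ∨ Big4 S P := by
  rcases h with ⟨F, _, _, _, k, hk, hM⟩ | ⟨k, m, hk, hm, hM⟩
  · by_cases h4 : 4 ≤ Nat.card F
    · exact Or.inr ⟨F, inferInstance, inferInstance, inferInstance, k, h4, hk, hM⟩
    · left; left
      refine ⟨F, inferInstance, inferInstance, k, ?_, hk, hM⟩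
      have hf : Fact (Nat.Prime 2) := ⟨Nat.prime_two⟩
      have hA : IsPGroup 2 (Multiplicative F) := by
        intro x
        refine ⟨1, ?_⟩
        have : (2 : ℕ) • (Multiplicative.toAdd x) = 0 := by
          rw [two_nsmul]; exact CharTwo.add_self_eq_zero _
        rw [pow_one]
        exact congrArg Multiplicative.ofAdd this
      obtain ⟨n, hn⟩ := IsPGroup.iff_card.1 hA
      have hn' : Nat.card F = 2 ^ n := hn
      have h1 : 1 < Nat.card F := Finite.one_lt_card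
      have h2 : n < 2 := by
        by_contra hcon
        push Not at hcon
        have : 2 ^ 2 ≤ 2 ^ n := Nat.pow_le_pow_right (by norm_num) hcon
        omega
      have h3 : n ≠ 0 := by
        rintro rfl
        rw [hn', pow_zero] at h1
        omega
      have h4 : n = 1 := by omega
      rw [hn', h4, pow_one]
  · exact Or.inl (Or.inr ⟨k, m, hk, hm, hM⟩)

/-- an offender `A ≤ S` on `V_P` contains a transvection on `V_P` -/
theorem tv_par (hG : IsCharacteristicTwoType G) (hP : IsParS (S : Subgroup G) P) (h2 : Two2 S P)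
    (hA : A ≤ (S : Subgroup G)) (hoff : OffM (zl (S : Subgroup G) P) A) :
    ∃ t ∈ A, ∃ c ∈ zl (S : Subgroup G) P, c ≠ 1 ∧ Tv (zl (S : Subgroup G) P) c t ∧
      t ∉ centralizer (zl (S : Subgroup G) P : Set G) := by
  rcases h2 with ⟨F, _, _, k, hF, hk, ⟨M⟩⟩ | ⟨k, m, hk, hm, ⟨M⟩⟩
  · exact tv_nat hG hP M hk hF hA hoff
  · exact tv_sym hG hP M hk hm hA hoff

/-- **The transvection** on `U = zl S L`. -/
theorem GOne.tv (hG : IsCharacteristicTwoType G) (h : GOne S L P A) (h2 : Two2 S P) :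
    ∃ t ∈ A, ∃ c ∈ zl (S : Subgroup G) P, c ≠ 1 ∧ Tv (zl (S : Subgroup G) L) c t ∧
      t ∉ centralizer (zl (S : Subgroup G) L : Set G) := by
  obtain ⟨t, ht, c, hc, hc1, htv, hn⟩ := tv_par hG h.par h2 h.AS h.offP
  exact ⟨t, ht, c, hc, hc1, h.tv_of_tv ht hc htv, h.not_cent hn⟩

/-- **The case split**: a transvection on `U = zl S L` in `S`, or a `P` of type `q ≥ 4`. -/
theorem tv_or (hc : IsCharacteristicTwoType G) (hL : IsLoc (S : Subgroup G) L)
    (hgen : L ≤ sSup {P | IsParS (S : Subgroup G) P ∧ P ≤ L})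
    (hoff : ∃ A ≤ L, OffM (zl (S : Subgroup G) L) A) :
    (∃ t ∈ (S : Subgroup G), ∃ c ∈ zl (S : Subgroup G) L, c ≠ 1 ∧ Tv (zl (S : Subgroup G) L) c t ∧
      t ∉ centralizer (zl (S : Subgroup G) L : Set G)) ∨ ∃ P A, GOne S L P A ∧ Big4 S P := by
  obtain ⟨P, A, h⟩ := exists_gOne hc hL hgen hoff
  rcases two2_or h.concl with h2 | h4
  · left
    obtain ⟨t, ht, c, hc', hc1, htv, hn⟩ := h.tv hc h2
    exact ⟨t, h.AS ht, c, h.VU hc', hc1, htv, hn⟩
  · exact Or.inr ⟨P, A, h, h4⟩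

/-! ### Box R -/

/-- **Some `A ≤ S` is an offender on `V*`.** -/
theorem ffMod_of (B : RB S) (hrc : ∃ z ∈ zc (S : Subgroup G), ∃ P ∈ FZ (S : Subgroup G) z,
    ¬ P ≤ normalizer (bang (S : Subgroup G) : Set G)) : FFMod (S : Subgroup G) (MZ (S : Subgroup G)) := by
  by_contra hn
  have hG := B.ctx
  have hm := B.data.noff
  obtain ⟨z, hz, P, hP, hPn⟩ := hrc
  have hSW : (S : Subgroup G) ≤ normalizer (zl (S : Subgroup G) (MZ (S : Subgroup G)) : Set G) :=
    (S_le_MZ hG B.full).trans (MinSimple.VModule.le_normalizer_zl _ _)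
  have hN : NN (S : Subgroup G) (zl (S : Subgroup G) (MZ (S : Subgroup G))) :=
    { le := le_of_le_normalizer S (zl_MZ_isPGroup hG hm) hSW
      norm := hSW
      comm := zl_MZ_comm hG hm
      sq := zl_MZ_sq hG.char2 hm
      nff := fun A hA ho => hn ⟨A, hA, ho⟩ }
  exact hPn (NO3b.Bang.le_normalizer_bang_of_cent hN (le_norm_cs hz hP))

/-- **(G1)**, `L = MZ S`, `U = V* = Wd S`. -/
theorem g1_of (B : RB S) (hrc : ∃ z ∈ zc (S : Subgroup G), ∃ P ∈ FZ (S : Subgroup G) z,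
    ¬ P ≤ normalizer (bang (S : Subgroup G) : Set G)) : ∃ P A, GOne S (MZ (S : Subgroup G)) P A := by
  obtain ⟨A₀, hA₀, hoff₀⟩ := ffMod_of B hrc
  exact exists_gOne B.ctx.char2 (isLoc_MZ B.ctx B.full B.data.noff)
    (sSup_le fun _ hP => le_sSup ⟨hP, Merge.le_MZ hP⟩) ⟨A₀, hA₀.trans (S_le_MZ B.ctx B.full), hoff₀⟩

/-- the hypothesis of `g1_of` from (RC') -/
theorem rc_ex (B : RB S) (hrc : ∀ z ∈ zc (S : Subgroup G), z ≠ 1 →
    ∃ P ∈ FZ (S : Subgroup G) z, ¬ P ≤ normalizer (bang (S : Subgroup G) : Set G)) :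
    ∃ z ∈ zc (S : Subgroup G), ∃ P ∈ FZ (S : Subgroup G) z,
      ¬ P ≤ normalizer (bang (S : Subgroup G) : Set G) := by
  have hne : zc (S : Subgroup G) ≠ ⊥ := MinSimple.Basic.zc_ne_bot S.isPGroup' (B.ctx.sylow_ne_bot S)
  obtain ⟨⟨z, hz⟩, hz1'⟩ := (Subgroup.ne_bot_iff_exists_ne_one).1 hne
  obtain ⟨P, hP, hPn⟩ := hrc z hz fun h3 => hz1' (Subtype.ext h3)
  exact ⟨z, hz, P, hP, hPn⟩

/-- **(G1)** in box R. -/
theorem g1 (B : RB S) (hrc : ∀ z ∈ zc (S : Subgroup G), z ≠ 1 →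
    ∃ P ∈ FZ (S : Subgroup G) z, ¬ P ≤ normalizer (bang (S : Subgroup G) : Set G)) :
    ∃ P A, GOne S (MZ (S : Subgroup G)) P A := g1_of B (rc_ex B hrc)

end fin

end Cfsg.Agent.Omega.NOThreeL.RRed

end

section


/-!
# NO-3L, box R, input (D) of the class module theorem (#24537, helper241), text: helper245

`V = zl S L`, `GOne S L P A` (BlkG1).

* `cover_nat`, `cover_sym` : a `P`-invariant `W ≤ V_P` is in `C_{V_P}(O²(P))` or covers `V_P / C_{V_P}(O²(P))`;
* `cent_nat`, `cent_sym` : an offender `A ≤ S` on `V_P` which centralises `v` modulo `C_{V_P}(O²(P))` centralises `v`;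
* **`GOne.dich`** : for every `P`-invariant `U ≤ V`: `[U, A] = 1` or `V = U C_V(A)`;
* `GOne.mv` : `A` moves `⟨z^L⟩` for `z ∈ Z` moved by `P`;
* `Mx V A` : `A` is a minimal exact offender; `gOne_of_mx`, **`Mx.dich`** : for every `L`-invariant `U ≤ V`:
  `[U, A] = 1` or `V = U C_V(A)`.
-/

set_option autoImplicit false
set_option linter.unusedSectionVars false

namespace Cfsg.Agent.Omega.NOThreeL.RRed

open Subgroup Pointwise Cfsg Cfsg.Agent.ZN Cfsg.Agent.Omega.MinPar Cfsg.Agent.Omega.Frame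
open Cfsg.Agent.Omega.FrameNOFF
open Cfsg.Agent.Omega.FFThm (ElemM OffM NoOverM ConclM NatKM SymKM NatK SymK ActsSL ActsSym)
open Cfsg.Agent.Omega.FrameFF (cv)
open Cfsg.Agent.ZN.ChoiceBase (cj)
open Cfsg.Agent.ZN.CaseTwo (syl_of_sylow)
open Cfsg.Agent.Omega.NatPair (ap exists_ap)
open Cfsg.Agent.Lib.SL2Mat

universe u

variable {G : Type u} [Group G]

/-- `|K| = |L| |X|` for a homomorphism of `K` onto `X` with kernel `L`. -/
theorem card_map {X : Type*} [AddGroup X] {K L : Subgroup G} (hLK : L ≤ K) (f : G → X)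
    (hf : ∀ v ∈ K, ∀ w ∈ K, f (v * w) = f v + f w) (hs : ∀ c, ∃ v ∈ K, f v = c)
    (hk : ∀ v ∈ K, f v = 0 ↔ v ∈ L) : Nat.card K = Nat.card L * Nat.card X := by
  let φ : K →* Multiplicative X := MonoidHom.mk' (fun v => Multiplicative.ofAdd (f v)) (by
    rintro ⟨v, hv⟩ ⟨w, hw⟩
    exact congrArg Multiplicative.ofAdd (hf v hv w hw))
  have hφ : Function.Surjective φ := by
    intro c
    obtain ⟨v, hv, h⟩ := hs (Multiplicative.toAdd c)
    exact ⟨⟨v, hv⟩, congrArg Multiplicative.ofAdd h⟩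
  have h1 : Nat.card φ.ker * Nat.card φ.range = Nat.card K := by
    rw [← Subgroup.index_ker, Subgroup.card_mul_index]
  have h2 : Nat.card φ.range = Nat.card X := by
    rw [MonoidHom.range_eq_top.2 hφ, Subgroup.card_top]
    rfl
  have h3 : Nat.card φ.ker = Nat.card L := by
    refine Nat.card_congr ⟨fun v => ⟨v.1.1, (hk v.1.1 v.1.2).1 ?_⟩, fun z => ⟨⟨z.1, hLK z.2⟩, ?_⟩, fun _ => rfl,
      fun _ => rfl⟩
    · exact congrArg Multiplicative.toAdd (MonoidHom.mem_ker.1 v.2)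
    · exact MonoidHom.mem_ker.2 (congrArg Multiplicative.ofAdd ((hk z.1 (hLK z.2)).2 z.2))
  rw [← h1, h2, h3]

/-- the image of `W` under an additive map -/
def img {X : Type*} [AddGroup X] (W : Subgroup G) (e : G → X)
    (hmul : ∀ v ∈ W, ∀ w ∈ W, e (v * w) = e v + e w) : AddSubgroup X where
  carrier := {x | ∃ w ∈ W, e w = x}
  zero_mem' := by
    refine ⟨1, one_mem _, ?_⟩
    have := hmul 1 (one_mem _) 1 (one_mem _)
    rw [one_mul] at this
    simpa using this
  add_mem' := by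
    rintro _ _ ⟨v, hv, rfl⟩ ⟨w, hw, rfl⟩
    exact ⟨v * w, mul_mem hv hw, hmul v hv w hw⟩
  neg_mem' := by
    rintro _ ⟨v, hv, rfl⟩
    refine ⟨v⁻¹, inv_mem hv, ?_⟩
    have h0 : e 1 = 0 := by
      have := hmul 1 (one_mem _) 1 (one_mem _)
      rw [one_mul] at this
      simpa using this
    have h2 := hmul v hv v⁻¹ (inv_mem hv)
    rw [mul_inv_cancel, h0] at h2
    exact (neg_eq_of_add_eq_zero_right h2.symm).symm

theorem mem_img {X : Type*} [AddGroup X] {W : Subgroup G} {e : G → X}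
    {hmul : ∀ v ∈ W, ∀ w ∈ W, e (v * w) = e v + e w} {x : X} : x ∈ img W e hmul ↔ ∃ w ∈ W, e w = x := Iff.rfl

theorem conj_div {W : Subgroup G} {P : Subgroup G} (hPW : P ≤ normalizer (W : Set G)) {g w : G} (hg : g ∈ P)
    (hw : w ∈ W) : g * w * g⁻¹ ∈ W := (mem_normalizer_iff.1 (hPW hg) w).1 hw

/-! ### Natural modules -/

section nat

variable {F : Type} [Field F] {T P V D W : Subgroup G} {k : ℕ}

theorem e_sub_nat (M : NatK F T P V D k) (hW : W ≤ V) {v w : G} (hv : v ∈ W) (hw : w ∈ W) :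
    M.e (v * w⁻¹) = M.e v - M.e w := by
  have h1 := M.mul (v * w⁻¹) (hW (mul_mem hv (inv_mem hw))) w (hW hw)
  rw [inv_mul_cancel_right] at h1
  rw [h1, add_sub_cancel_right]

/-- **A `P`-invariant `W ≤ V`, `W ≰ D`, covers `V / D`.** -/
theorem cover_nat (M : NatK F T P V D k) (hTP : T ≤ P) (hW : W ≤ V) (hPW : P ≤ normalizer (W : Set G))
    (hD : ¬ W ≤ D) (x : Fin k → Fin 2 → F) : ∃ w ∈ W, M.e w = x := by
  classical
  have hmul : ∀ v ∈ W, ∀ w ∈ W, M.e (v * w) = M.e v + M.e w := fun v hv w hw => M.mul v (hW hv) w (hW hw)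
  set E := img W M.e hmul with hE
  -- one block
  have key : ∀ j, (∃ w ∈ W, M.e w j ≠ 0) → ∀ y : Fin 2 → F, (Pi.single j y : Fin k → Fin 2 → F) ∈ E := by
    rintro j ⟨w, hw, hwj⟩ y
    by_cases hy : y = 0
    · rw [hy, Pi.single_zero]; exact zero_mem _
    -- a vector supported on `j`
    obtain ⟨w', hw', x', hx', hew'⟩ : ∃ w' ∈ W, ∃ x' : Fin 2 → F, x' ≠ 0 ∧
        M.e w' = (Pi.single j x' : Fin k → Fin 2 → F) := by
      obtain ⟨y₀, hy₀, hne⟩ : ∃ y₀ : Fin 2 → F, y₀ ≠ 0 ∧ y₀ ≠ M.e w j := by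
        by_cases h1 : M.e w j = ![1, 0]
        · refine ⟨![0, 1], fun h => ?_, fun h => ?_⟩
          · exact one_ne_zero (congrFun h 1)
          · rw [h1] at h
            exact zero_ne_one (congrFun h 0)
        · exact ⟨![1, 0], fun h => one_ne_zero (congrFun h 0), fun h => h1 h.symm⟩
      obtain ⟨B, hB⟩ := exists_ap hwj hy₀
      obtain ⟨g, hg, hact⟩ := M.lift (Function.update 1 j B)
      refine ⟨g * w * g⁻¹ * w⁻¹, mul_mem (conj_div hPW hg hw) (inv_mem hw), y₀ - M.e w j, sub_ne_zero.2 hne, ?_⟩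
      rw [e_sub_nat M hW (conj_div hPW hg hw) hw]
      funext i
      rw [Pi.sub_apply, hact.1 w (hW hw) i]
      by_cases hi : i = j
      · subst hi
        rw [Function.update_self, hB, Pi.single_eq_same]
      · rw [Function.update_of_ne hi, Pi.one_apply, NatPair.ap_one, sub_self, Pi.single_eq_of_ne hi]
    obtain ⟨B, hB⟩ := exists_ap hx' hy
    obtain ⟨g, hg, hact⟩ := M.lift (Function.update 1 j B)
    refine ⟨g * w' * g⁻¹, conj_div hPW hg hw', ?_⟩
    funext i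
    rw [hact.1 w' (hW hw') i, hew']
    by_cases hi : i = j
    · subst hi
      rw [Function.update_self, Pi.single_eq_same, Pi.single_eq_same, hB]
    · rw [Function.update_of_ne hi, Pi.one_apply, NatPair.ap_one, Pi.single_eq_of_ne hi, Pi.single_eq_of_ne hi]
  -- all blocks
  obtain ⟨w, hw, hwD⟩ := SetLike.not_le_iff_exists.1 hD
  have hw0 : M.e w ≠ 0 := fun h => hwD ((M.ker w (hW hw)).1 h)
  obtain ⟨i, hi⟩ := Function.ne_iff.1 hw0
  have hall : ∀ j, ∃ w ∈ W, M.e w j ≠ 0 := by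
    intro j
    obtain ⟨t, ht, h⟩ := M.trans i j
    exact ⟨t * w * t⁻¹, conj_div hPW (hTP ht) hw, fun h0 => hi ((h w (hW hw)).1 h0)⟩
  have h1 : x ∈ E := by
    rw [← Finset.univ_sum_single x]
    exact sum_mem fun j _ => key j (hall j) (x j)
  exact h1

end nat

section natS

variable [Finite G] {F : Type} [Field F] [Finite F] [CharP F 2] {S : Sylow 2 G} {P A : Subgroup G} {k : ℕ}

/-- **An offender which centralises `v` modulo `D` centralises `v`.** -/
theorem cent_nat (hG : IsCharacteristicTwoType G) (hP : IsParS (S : Subgroup G) P)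
    (M : NatKM F (S : Subgroup G) P (zl (S : Subgroup G) P) (cv (S : Subgroup G) P) k) (hk : 0 < k)
    (hA : A ≤ (S : Subgroup G)) (hoff : OffM (zl (S : Subgroup G) P) A) {v : G}
    (hv : v ∈ zl (S : Subgroup G) P) (h : ∀ a ∈ A, M.e (a * v * a⁻¹) = M.e v) : ∀ a ∈ A, a * v = v * a := by
  classical
  have hSP := hP.le
  have hn : P ≤ normalizer (zl (S : Subgroup G) P : Set G) := MinSimple.VModule.le_normalizer_zl _ _
  obtain ⟨I, hI1, hI2⟩ := M.offM A hA hoff
  have hA1 : ∀ i : I, ∃ w ∈ zl (S : Subgroup G) P, M.e w = Pi.single (i : Fin k) ![0, 1] := fun i => M.surj _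
  choose w hw hew using hA1
  -- the parameters of `a`
  set g : G → (I → F) := fun a i => M.e (a * w i * a⁻¹) (i : Fin k) 0 with hg
  have hgb : ∀ (a : G) (b : Fin k → F), (ActsSL M.e (zl (S : Subgroup G) P) (cv (S : Subgroup G) P) a
      fun i => up (b i)) → g a = fun i : I => b i := by
    intro a b hb
    funext i
    change M.e (a * w i * a⁻¹) (i : Fin k) 0 = b i
    rw [hb.1 (w i) (hw i), VF.Nat.ap_up_0, hew, Pi.single_eq_same]
    simp
  have hgm : ∀ a ∈ A, ∀ a' ∈ A, g (a * a') = g a + g a' := by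
    intro a ha a' ha'
    obtain ⟨b, -, hb⟩ := hI1 a ha
    obtain ⟨b', -, hb'⟩ := hI1 a' ha'
    have h4 : ActsSL M.e (zl (S : Subgroup G) P) (cv (S : Subgroup G) P) (a * a') fun i => up ((b + b') i) := by
      refine ⟨fun v hv j => ?_, fun d hd => ?_⟩
      · have e : a * a' * v * (a * a')⁻¹ = a * (a' * v * a'⁻¹) * a⁻¹ := by group
        change _ = ap (up (b j + b' j)) (M.e v j)
        rw [e, hb.1 _ (conj_div hn (hSP (hA ha')) hv), hb'.1 v hv, ← NatPair.ap_mul, up_mul]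
      · rw [mul_assoc, hb'.2 d hd, ← mul_assoc, hb.2 d hd, mul_assoc]
    rw [hgb _ _ h4, hgb a b hb, hgb a' b' hb']
    rfl
  have hg0 : ∀ a ∈ A, g a = 0 ↔ a ∈ A ⊓ centralizer (zl (S : Subgroup G) P : Set G) := by
    intro a ha
    obtain ⟨b, hb0, hb⟩ := hI1 a ha
    rw [hgb a b hb]
    constructor
    · intro h0
      have hbz : b = 0 := by
        funext i
        by_cases hi : i ∈ I
        · exact congrFun h0 ⟨i, hi⟩
        · exact hb0 i hi
      refine ⟨ha, mem_centralizer_iff.2 fun v hv => ?_⟩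
      have hker : a ∈ IId.Cv.kern M.toNatK := by
        refine ⟨hSP (hA ha), fun v hv => ?_⟩
        funext i
        rw [hb.1 v hv i, hbz]
        refine VF.Nat.ext2' ?_ ?_
        · rw [VF.Nat.ap_up_0]; simp
        · rw [VF.Nat.ap_up_1]
      exact (IId.Cv.comm_of_quot hG S hP M.toNatK hk (hA ha) hker v hv).symm
    · rintro ⟨-, h1⟩
      funext i
      have h2 := hb.1 (w i) (hw i) i
      have h3 : a * w i * a⁻¹ = w i := by
        rw [← mem_centralizer_iff.1 h1 (w i) (hw i), mul_inv_cancel_right]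
      rw [h3] at h2
      have h4 := congrFun h2 0
      rw [VF.Nat.ap_up_0, hew, Pi.single_eq_same] at h4
      simp at h4
      exact h4.symm
  have hcA : Nat.card A = Nat.card ↥(A ⊓ centralizer (zl (S : Subgroup G) P : Set G)) * Nat.card (I → F) := by
    refine card_map inf_le_left g hgm ?_ hg0
    intro c
    obtain ⟨a, ha, hb⟩ := hI2 (fun i => if hi : i ∈ I then c ⟨i, hi⟩ else 0) (fun i hi => by rw [dif_neg hi])
    refine ⟨a, ha, ?_⟩
    rw [hgb a _ hb]
    funext i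
    simp
  -- the vectors
  let KA : Subgroup G :=
    { carrier := {v | v ∈ zl (S : Subgroup G) P ∧ ∀ i : I, M.e v (i : Fin k) 1 = 0}
      one_mem' := ⟨one_mem _, fun i => by
        rw [(M.ker 1 (one_mem _)).2 (one_mem _)]; rfl⟩
      mul_mem' := by
        rintro x y ⟨hx, hx'⟩ ⟨hy, hy'⟩
        refine ⟨mul_mem hx hy, fun i => ?_⟩
        rw [M.mul x hx y hy, Pi.add_apply, Pi.add_apply, hx', hy', add_zero]
      inv_mem' := by
        rintro x ⟨hx, hx'⟩
        refine ⟨inv_mem hx, fun i => ?_⟩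
        have h1 := M.mul x hx x⁻¹ (inv_mem hx)
        rw [mul_inv_cancel, (M.ker 1 (one_mem _)).2 (one_mem _)] at h1
        have h2 := congrFun (congrFun h1 (i : Fin k)) 1
        rw [Pi.add_apply, Pi.add_apply, hx', zero_add] at h2
        exact h2.symm }
  have hKV : KA ≤ zl (S : Subgroup G) P := fun x hx => hx.1
  have hcV : Nat.card (zl (S : Subgroup G) P) = Nat.card KA * Nat.card (I → F) := by
    refine card_map hKV (fun v i => M.e v (i : Fin k) 1) ?_ ?_ ?_
    · intro v hv w hw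
      funext i
      rw [M.mul v hv w hw]
      rfl
    · intro c
      obtain ⟨v, hv, he⟩ := M.surj fun i => if hi : i ∈ I then ![0, c ⟨i, hi⟩] else 0
      refine ⟨v, hv, ?_⟩
      funext i
      rw [he]
      simp
    · intro v hv
      constructor
      · intro h0
        exact ⟨hv, fun i => congrFun h0 i⟩
      · rintro ⟨-, h0⟩
        funext i
        exact h0 i
  have hmem : ∀ v ∈ zl (S : Subgroup G) P, (∀ a ∈ A, M.e (a * v * a⁻¹) = M.e v) → v ∈ KA := by
    intro v hv h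
    refine ⟨hv, fun i => ?_⟩
    obtain ⟨a, ha, hb⟩ := hI2 (Pi.single (i : Fin k) 1)
      (fun j hj => Pi.single_eq_of_ne (fun e => hj (by rw [e]; exact i.2)) _)
    have h1 := hb.1 v hv i
    rw [h a ha] at h1
    have h2 := congrFun h1 0
    rw [VF.Nat.ap_up_0, Pi.single_eq_same, one_mul] at h2
    exact left_eq_add.1 h2
  have hCK : zl (S : Subgroup G) P ⊓ centralizer (A : Set G) ≤ KA := by
    intro v hv
    refine hmem v hv.1 fun a ha => ?_
    rw [mem_centralizer_iff.1 hv.2 a ha, mul_inv_cancel_right]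
  have hle := hoff.le
  rw [hcA, hcV] at hle
  have p1 : 0 < Nat.card ↥(A ⊓ centralizer (zl (S : Subgroup G) P : Set G)) := Nat.card_pos
  have p2 : 0 < Nat.card (I → F) := Nat.card_pos
  have hKc : Nat.card KA ≤ Nat.card ↥(zl (S : Subgroup G) P ⊓ centralizer (A : Set G)) := by
    have h2 : (Nat.card ↥(A ⊓ centralizer (zl (S : Subgroup G) P : Set G)) * Nat.card (I → F)) * Nat.card KA ≤
        (Nat.card ↥(A ⊓ centralizer (zl (S : Subgroup G) P : Set G)) * Nat.card (I → F)) *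
          Nat.card ↥(zl (S : Subgroup G) P ⊓ centralizer (A : Set G)) := by
      calc _ = Nat.card KA * Nat.card (I → F) *
          Nat.card ↥(A ⊓ centralizer (zl (S : Subgroup G) P : Set G)) := by ring
        _ ≤ _ := hle
    exact Nat.le_of_mul_le_mul_left h2 (Nat.mul_pos p1 p2)
  have heq := Subgroup.eq_of_le_of_card_ge hCK hKc
  have hvK := hmem v hv h
  rw [← heq] at hvK
  intro a ha
  exact mem_centralizer_iff.1 hvK.2 a ha

end natS

/-! ### Even-subset modules -/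

section sym

variable {T P V D W : Subgroup G} {k m : ℕ}

theorem e_sub_sym (M : SymK T P V D k m) (hW : W ≤ V) {v w : G} (hv : v ∈ W) (hw : w ∈ W) :
    M.e (v * w⁻¹) = M.e v - M.e w := by
  have h1 := M.mul (v * w⁻¹) (hW (mul_mem hv (inv_mem hw))) w (hW hw)
  rw [inv_mul_cancel_right] at h1
  rw [h1, add_sub_cancel_right]

/-- **A `P`-invariant `W ≤ V`, `W ≰ D`, covers `V / D`.** -/
theorem cover_sym (M : SymK T P V D k m) (hTP : T ≤ P) (hm : 1 ≤ m) (hW : W ≤ V)
    (hPW : P ≤ normalizer (W : Set G)) (hD : ¬ W ≤ D) {v : G} (hv : v ∈ V) : ∃ w ∈ W, M.e w = M.e v := by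
  classical
  have hmul : ∀ v ∈ W, ∀ w ∈ W, M.e (v * w) = M.e v + M.e w := fun v hv w hw => M.mul v (hW hv) w (hW hw)
  set E := img W M.e hmul with hE
  -- one block
  have key : ∀ j, (∃ w ∈ W, M.e w j ≠ 0) → ∀ x y, x ≠ y →
      (Pi.single j (Pi.single x 1 + Pi.single y 1) : Fin k → Fin (2 ^ m + 1) → ZMod 2) ∈ E := by
    rintro j ⟨w, hw, hwj⟩ x y hxy
    -- the vector of a transposition
    obtain ⟨w', hw', x₁, y₁, hne₁, hew'⟩ : ∃ w' ∈ W, ∃ x₁ y₁, x₁ ≠ y₁ ∧
        M.e w' = (Pi.single j (Pi.single x₁ 1 + Pi.single y₁ 1) : Fin k → Fin (2 ^ m + 1) → ZMod 2) := by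
      obtain ⟨x₁, y₁, h1⟩ : ∃ x₁ y₁, M.e w j x₁ ≠ M.e w j y₁ := by
        by_contra hcon
        push Not at hcon
        have h2 : ∀ x, M.e w j x = M.e w j 0 := fun x => hcon x 0
        have h3 := M.even w (hW hw) j
        rw [Finset.sum_congr rfl fun x _ => h2 x, Finset.sum_const, Finset.card_univ, Fintype.card_fin,
          nsmul_eq_mul] at h3
        have h4 : ((2 ^ m + 1 : ℕ) : ZMod 2) = 1 := by
          have h5 : ((2 : ℕ) : ZMod 2) = 0 := by decide
          rw [Nat.cast_add, Nat.cast_pow, h5, zero_pow (by omega), Nat.cast_one, zero_add]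
        rw [h4, one_mul] at h3
        apply hwj
        funext x
        rw [h2 x, h3]; rfl
      have hne : x₁ ≠ y₁ := fun e => h1 (by rw [e])
      obtain ⟨g, hg, hact, -⟩ := M.lift (Function.update 1 j (Equiv.swap x₁ y₁))
      refine ⟨g * w * g⁻¹ * w⁻¹, mul_mem (conj_div hPW hg hw) (inv_mem hw), x₁, y₁, hne, ?_⟩
      rw [e_sub_sym M hW (conj_div hPW hg hw) hw]
      funext i z
      rw [Pi.sub_apply, Pi.sub_apply]
      by_cases hi : i = j
      · subst hi
        have h2 := hact w (hW hw) i (Equiv.swap x₁ y₁ z)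
        rw [Function.update_self, Equiv.swap_apply_self] at h2
        have h3 : M.e (g * w * g⁻¹) i z = M.e w i (Equiv.swap x₁ y₁ z) := h2
        rw [h3, swp_of_ne (M.e w i) hne h1, Pi.single_eq_same, Pi.add_apply, add_sub_cancel_left]
      · have h2 := hact w (hW hw) i z
        rw [Function.update_of_ne hi] at h2
        have h3 : M.e (g * w * g⁻¹) i z = M.e w i z := h2
        rw [h3, sub_self, Pi.single_eq_of_ne hi]; rfl
    -- move it
    obtain ⟨π, hπ1, hπ2⟩ : ∃ π : Equiv.Perm (Fin (2 ^ m + 1)), π x₁ = x ∧ π y₁ = y := by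
      refine ⟨Equiv.swap (Equiv.swap x₁ x y₁) y * Equiv.swap x₁ x, ?_, ?_⟩
      · rw [Equiv.Perm.mul_apply, Equiv.swap_apply_left]
        refine Equiv.swap_apply_of_ne_of_ne (fun e => ?_) hxy
        have h2 : Equiv.swap x₁ x x₁ = Equiv.swap x₁ x y₁ := by rw [Equiv.swap_apply_left]; exact e
        exact hne₁ ((Equiv.swap x₁ x).injective h2)
      · rw [Equiv.Perm.mul_apply, Equiv.swap_apply_left]
    obtain ⟨g, hg, hact, -⟩ := M.lift (Function.update 1 j π)
    refine ⟨g * w' * g⁻¹, conj_div hPW hg hw', ?_⟩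
    funext i z
    by_cases hi : i = j
    · subst hi
      have h2 := hact w' (hW hw') i (π.symm z)
      rw [Function.update_self, Equiv.apply_symm_apply] at h2
      have h3 : M.e (g * w' * g⁻¹) i z = M.e w' i (π.symm z) := h2
      rw [h3, hew', Pi.single_eq_same, Pi.single_eq_same, Pi.add_apply, Pi.add_apply]
      have e1 : (Pi.single x₁ 1 : Fin (2 ^ m + 1) → ZMod 2) (π.symm z) = (Pi.single x 1 : _ → ZMod 2) z := by
        by_cases hz : z = x
        · rw [hz, Pi.single_eq_same, ← hπ1, Equiv.symm_apply_apply, Pi.single_eq_same]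
        · rw [Pi.single_eq_of_ne hz, Pi.single_eq_of_ne]
          intro e
          exact hz (by rw [← hπ1, ← e, Equiv.apply_symm_apply])
      have e2 : (Pi.single y₁ 1 : Fin (2 ^ m + 1) → ZMod 2) (π.symm z) = (Pi.single y 1 : _ → ZMod 2) z := by
        by_cases hz : z = y
        · rw [hz, Pi.single_eq_same, ← hπ2, Equiv.symm_apply_apply, Pi.single_eq_same]
        · rw [Pi.single_eq_of_ne hz, Pi.single_eq_of_ne]
          intro e
          exact hz (by rw [← hπ2, ← e, Equiv.apply_symm_apply])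
      rw [e1, e2]
    · have h2 := hact w' (hW hw') i z
      rw [Function.update_of_ne hi] at h2
      have h3 : M.e (g * w' * g⁻¹) i z = M.e w' i z := h2
      rw [h3, hew', Pi.single_eq_of_ne hi, Pi.single_eq_of_ne hi]
  -- all blocks
  obtain ⟨w, hw, hwD⟩ := SetLike.not_le_iff_exists.1 hD
  have hw0 : M.e w ≠ 0 := fun h => hwD ((M.ker w (hW hw)).1 h)
  obtain ⟨i, hi⟩ := Function.ne_iff.1 hw0
  have hall : ∀ j, ∃ w ∈ W, M.e w j ≠ 0 := by
    intro j
    obtain ⟨t, ht, σ, τ, hact, hσ⟩ := M.trans i j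
    refine ⟨t * w * t⁻¹, conj_div hPW (hTP ht) hw, fun h0 => hi ?_⟩
    funext x
    have h2 := hact w (hW hw) i x
    rw [hσ, h0] at h2
    exact h2.symm
  -- all vectors
  have hblk : ∀ j, ∀ y : Fin (2 ^ m + 1) → ZMod 2, ∑ x, y x = 0 →
      (Pi.single j y : Fin k → Fin (2 ^ m + 1) → ZMod 2) ∈ E := by
    intro j y hy
    have h1 : (Pi.single j y : Fin k → Fin (2 ^ m + 1) → ZMod 2) =
        ∑ x, (Pi.single j (y x • (Pi.single x 1 + Pi.single 0 1 : Fin (2 ^ m + 1) → ZMod 2)) :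
          Fin k → Fin (2 ^ m + 1) → ZMod 2) := by
      have h2 : y = ∑ x, y x • (Pi.single x 1 + Pi.single 0 1 : Fin (2 ^ m + 1) → ZMod 2) := by
        funext z
        rw [Finset.sum_apply]
        simp only [Pi.smul_apply, Pi.add_apply, smul_eq_mul, mul_add, Finset.sum_add_distrib]
        rw [← Finset.sum_mul, hy, zero_mul, add_zero]
        rw [Finset.sum_eq_single z]
        · rw [Pi.single_eq_same, mul_one]
        · intro b _ hb
          rw [Pi.single_eq_of_ne (Ne.symm hb), mul_zero]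
        · intro h; exact absurd (Finset.mem_univ z) h
      conv_lhs => rw [h2]
      funext i
      by_cases hi : i = j
      · subst hi
        rw [Pi.single_eq_same, Finset.sum_apply]
        refine Finset.sum_congr rfl fun x _ => ?_
        rw [Pi.single_eq_same]
      · rw [Pi.single_eq_of_ne hi, Finset.sum_apply]
        symm
        exact Finset.sum_eq_zero fun x _ => by rw [Pi.single_eq_of_ne hi]
    rw [h1]
    refine sum_mem fun x _ => ?_
    rcases zmod_eq_or (y x) 0 with h0 | h0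
    · rw [h0, zero_smul, Pi.single_zero]; exact zero_mem _
    · rw [h0, zero_add, one_smul]
      by_cases hx : x = 0
      · have h2 : (Pi.single x 1 + Pi.single 0 1 : Fin (2 ^ m + 1) → ZMod 2) = 0 := by
          rw [hx]
          funext z
          exact CharTwo.add_self_eq_zero _
        rw [h2, Pi.single_zero]; exact zero_mem _
      · exact key j (hall j) x 0 hx
  have h1 : M.e v ∈ E := by
    rw [← Finset.univ_sum_single (M.e v)]
    exact sum_mem fun j _ => hblk j _ (M.even v hv j)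
  exact h1

end sym

section symS

variable [Finite G] {S : Sylow 2 G} {P A : Subgroup G} {k m : ℕ}

/-- **An offender which centralises `v` modulo `D` centralises `v`.** -/
theorem cent_sym (hG : IsCharacteristicTwoType G) (hP : IsParS (S : Subgroup G) P)
    (M : SymKM (S : Subgroup G) P (zl (S : Subgroup G) P) (cv (S : Subgroup G) P) k m) (hk : 0 < k)
    (hm : 2 ≤ m) {v : G} (hv : v ∈ zl (S : Subgroup G) P) {a : G} (ha : a ∈ P)
    (h : M.e (a * v * a⁻¹) = M.e v) : a * v = v * a := by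
  obtain ⟨hDc, N, hNV, hsup, hinf, hNn⟩ := IId.SymWrD.exists_compl M.toSymK hk (by omega) (syl_of_sylow S hP.le)
    (hP.isLoc.char2 S hG)
  have hVc : ∀ x ∈ zl (S : Subgroup G) P, ∀ y ∈ zl (S : Subgroup G) P, x * y = y * x := fun x hx y hy =>
    MinSimple.VModule.zc_comm _ _ (hP.isLoc.zl_le S hG hx) _ (hP.isLoc.zl_le S hG hy)
  have hDV : cv (S : Subgroup G) P ≤ zl (S : Subgroup G) P := inf_le_left
  rw [← hsup] at hv
  obtain ⟨n, hn, d, hd, rfl⟩ := F4.Split.mem_sup_comm (fun x hx y hy => hVc x (hNV hx) y (hDV hy)) hv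
  have h3 : a * n * a⁻¹ ∈ N := (mem_normalizer_iff.1 (hNn ha) n).1 hn
  have e1 : a * (n * d) * a⁻¹ = a * n * a⁻¹ * d := by
    calc a * (n * d) * a⁻¹ = a * n * a⁻¹ * (a * d) * a⁻¹ := by group
      _ = _ := by rw [hDc a ha d hd]; group
  have e0 : M.e d = 0 := (M.ker d (hDV hd)).2 hd
  rw [e1, M.mul _ (hNV h3) d (hDV hd), M.mul n (hNV hn) d (hDV hd), e0, add_zero, add_zero] at h
  have h5 : a * n * a⁻¹ * n⁻¹ = 1 := by
    have h6 : M.e (a * n * a⁻¹ * n⁻¹) = 0 := by
      rw [e_sub_sym M.toSymK hNV h3 hn, h, sub_self]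
    have h7 : a * n * a⁻¹ * n⁻¹ ∈ N ⊓ cv (S : Subgroup G) P :=
      mem_inf.2 ⟨mul_mem h3 (inv_mem hn), (M.ker _ (hNV (mul_mem h3 (inv_mem hn)))).1 h6⟩
    rwa [hinf, mem_bot] at h7
  have h4 : a * n = n * a := by
    have := mul_inv_eq_one.1 h5
    rwa [mul_inv_eq_iff_eq_mul] at this
  rw [← mul_assoc, h4, mul_assoc, mul_assoc, hDc a ha d hd]

end symS

/-! ### (D) -/

section fin

variable [Finite G] {S : Sylow 2 G} {L P A : Subgroup G}

/-- `W ≤ V_P` normalised by `P`: `V_P = W C_{V_P}(A)`, or the `v ∈ V_P` with `[v, A] ≤ W` are centralised by `A`. -/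
theorem par_dich (hG : IsCharacteristicTwoType G) (hP : IsParS (S : Subgroup G) P) (hc : ConclM (S : Subgroup G) P)
    (hA : A ≤ (S : Subgroup G)) (hoff : OffM (zl (S : Subgroup G) P) A) {W : Subgroup G}
    (hW : W ≤ zl (S : Subgroup G) P) (hPW : P ≤ normalizer (W : Set G)) :
    zl (S : Subgroup G) P ≤ W ⊔ (zl (S : Subgroup G) P ⊓ centralizer (A : Set G)) ∨
      ∀ v ∈ zl (S : Subgroup G) P, (∀ a ∈ A, a * v * a⁻¹ * v⁻¹ ∈ W) → ∀ a ∈ A, a * v = v * a := by
  have hSP := hP.le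
  have hn : P ≤ normalizer (zl (S : Subgroup G) P : Set G) := MinSimple.VModule.le_normalizer_zl _ _
  have hDV : cv (S : Subgroup G) P ≤ zl (S : Subgroup G) P := inf_le_left
  -- from a covering `W` to the first alternative
  have fin : (∀ a ∈ A, ∀ d ∈ cv (S : Subgroup G) P, a * d = d * a) →
      (∀ v ∈ zl (S : Subgroup G) P, ∃ w ∈ W, w⁻¹ * v ∈ cv (S : Subgroup G) P) →
      zl (S : Subgroup G) P ≤ W ⊔ (zl (S : Subgroup G) P ⊓ centralizer (A : Set G)) := by
    intro hDc hcov v hv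
    obtain ⟨w, hw, hd⟩ := hcov v hv
    have e : v = w * (w⁻¹ * v) := by group
    rw [e]
    refine mul_mem_sup hw ⟨hDV hd, mem_centralizer_iff.2 fun a ha => hDc a ha _ hd⟩
  rcases hc with ⟨F, _, _, _, k, hk, ⟨M⟩⟩ | ⟨k, m, hk, hm, ⟨M⟩⟩
  · by_cases hWD : W ≤ cv (S : Subgroup G) P
    · right
      intro v hv h
      refine cent_nat hG hP M hk hA hoff hv fun a ha => ?_
      have h1 : a * v * a⁻¹ ∈ zl (S : Subgroup G) P := conj_div hn (hSP (hA ha)) hv
      have h2 := (M.ker _ (hDV (hWD (h a ha)))).2 (hWD (h a ha))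
      rw [e_sub_nat M.toNatK le_rfl h1 hv] at h2
      exact sub_eq_zero.1 h2
    · left
      obtain ⟨I, hI1, -⟩ := M.offM A hA hoff
      refine fin (fun a ha d hd => ?_) fun v hv => ?_
      · obtain ⟨b, -, hb⟩ := hI1 a ha
        exact hb.2 d hd
      · obtain ⟨w, hw, he⟩ := cover_nat M.toNatK hSP hW hPW hWD (M.e v)
        refine ⟨w, hw, (M.ker _ (mul_mem (inv_mem (hW hw)) hv)).1 ?_⟩
        have h1 := M.mul w (hW hw) (w⁻¹ * v) (mul_mem (inv_mem (hW hw)) hv)
        rw [mul_inv_cancel_left, he] at h1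
        exact left_eq_add.1 h1
  · by_cases hWD : W ≤ cv (S : Subgroup G) P
    · right
      intro v hv h a ha
      refine cent_sym hG hP M hk hm hv (hSP (hA ha)) ?_
      have h1 : a * v * a⁻¹ ∈ zl (S : Subgroup G) P := conj_div hn (hSP (hA ha)) hv
      have h2 := (M.ker _ (hDV (hWD (h a ha)))).2 (hWD (h a ha))
      rw [e_sub_sym M.toSymK le_rfl h1 hv] at h2
      exact sub_eq_zero.1 h2
    · left
      refine fin (M.offM A hA hoff).1 fun v hv => ?_
      obtain ⟨w, hw, he⟩ := cover_sym M.toSymK hSP (by omega) hW hPW hWD hv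
      refine ⟨w, hw, (M.ker _ (mul_mem (inv_mem (hW hw)) hv)).1 ?_⟩
      have h1 := M.mul w (hW hw) (w⁻¹ * v) (mul_mem (inv_mem (hW hw)) hv)
      rw [mul_inv_cancel_left, he] at h1
      exact left_eq_add.1 h1

/-- `W ≤ V_P` normalised by `P`, `[W, O²(P)] ≠ 1`: `V_P = W C_{V_P}(A)`. -/
theorem par_cover (hP : IsParS (S : Subgroup G) P)
    (hc : ConclM (S : Subgroup G) P) (hA : A ≤ (S : Subgroup G)) (hoff : OffM (zl (S : Subgroup G) P) A)
    {W : Subgroup G} (hW : W ≤ zl (S : Subgroup G) P) (hPW : P ≤ normalizer (W : Set G))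
    (hWD : ¬ W ≤ cv (S : Subgroup G) P) :
    zl (S : Subgroup G) P ≤ W ⊔ (zl (S : Subgroup G) P ⊓ centralizer (A : Set G)) := by
  have hSP := hP.le
  have hDV : cv (S : Subgroup G) P ≤ zl (S : Subgroup G) P := inf_le_left
  have fin : (∀ a ∈ A, ∀ d ∈ cv (S : Subgroup G) P, a * d = d * a) →
      (∀ v ∈ zl (S : Subgroup G) P, ∃ w ∈ W, w⁻¹ * v ∈ cv (S : Subgroup G) P) →
      zl (S : Subgroup G) P ≤ W ⊔ (zl (S : Subgroup G) P ⊓ centralizer (A : Set G)) := by
    intro hDc hcov v hv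
    obtain ⟨w, hw, hd⟩ := hcov v hv
    have e : v = w * (w⁻¹ * v) := by group
    rw [e]
    refine mul_mem_sup hw ⟨hDV hd, mem_centralizer_iff.2 fun a ha => hDc a ha _ hd⟩
  rcases hc with ⟨F, _, _, _, k, hk, ⟨M⟩⟩ | ⟨k, m, hk, hm, ⟨M⟩⟩
  · obtain ⟨I, hI1, -⟩ := M.offM A hA hoff
    refine fin (fun a ha d hd => ?_) fun v hv => ?_
    · obtain ⟨b, -, hb⟩ := hI1 a ha
      exact hb.2 d hd
    · obtain ⟨w, hw, he⟩ := cover_nat M.toNatK hSP hW hPW hWD (M.e v)
      refine ⟨w, hw, (M.ker _ (mul_mem (inv_mem (hW hw)) hv)).1 ?_⟩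
      have h1 := M.mul w (hW hw) (w⁻¹ * v) (mul_mem (inv_mem (hW hw)) hv)
      rw [mul_inv_cancel_left, he] at h1
      exact left_eq_add.1 h1
  · refine fin (M.offM A hA hoff).1 fun v hv => ?_
    obtain ⟨w, hw, he⟩ := cover_sym M.toSymK hSP (by omega) hW hPW hWD hv
    refine ⟨w, hw, (M.ker _ (mul_mem (inv_mem (hW hw)) hv)).1 ?_⟩
    have h1 := M.mul w (hW hw) (w⁻¹ * v) (mul_mem (inv_mem (hW hw)) hv)
    rw [mul_inv_cancel_left, he] at h1
    exact left_eq_add.1 h1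

/-- `z ∈ Z` moved by `P` is moved by `O²(P)` -/
theorem not_mem_cv {z : G} (hP : (S : Subgroup G) ≤ P) (hz : z ∈ zc (S : Subgroup G))
    (hzP : ¬ P ≤ centralizer ({z} : Set G)) : z ∉ cv (S : Subgroup G) P := by
  intro h
  apply hzP
  conv_lhs => rw [← NoFF.LinesPlug.oddGen_sup hP (MinSimple.Basic.not_dvd_relIndex S hP)]
  refine sup_le (fun y hy => ?_) (fun y hy => ?_)
  · rw [mem_centralizer_singleton_iff]
    exact mem_centralizer_iff.1 h.2 y hy
  · rw [mem_centralizer_singleton_iff]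
    exact (MinSimple.VModule.mem_zc.1 hz).2.1 y hy

/-- **`z ∈ Z` moved by `P`: `A` moves `⟨z^L⟩`.** -/
theorem GOne.mv (h : GOne S L P A) {z : G} (hz : z ∈ zc (S : Subgroup G))
    (hzP : ¬ P ≤ centralizer ({z} : Set G)) : ¬ A ≤ centralizer (NoFF.Basic.V (zpowers z) L : Set G) := by
  intro hA
  set U : Subgroup G := NoFF.Basic.V (zpowers z) L with hU
  have hn : P ≤ normalizer (zl (S : Subgroup G) P : Set G) := MinSimple.VModule.le_normalizer_zl _ _
  have hzU : z ∈ U := by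
    have h1 : MulAut.conj (1 : G) • zpowers z ≤ U := NoFF.Basic.Z_le_V (one_mem L)
    rw [map_one, one_smul] at h1
    exact h1 (mem_zpowers z)
  have hLU : L ≤ normalizer (U : Set G) := by
    have key : ∀ g ∈ L, ∀ x ∈ U, g * x * g⁻¹ ∈ U := by
      intro g hg
      have h1 : U ≤ U.comap (MulAut.conj g).toMonoidHom := by
        refine NoFF.Basic.V_le fun p hp x hx => ?_
        rw [mem_comap]
        have h2 : MulAut.conj (g * p) • zpowers z ≤ U := NoFF.Basic.Z_le_V (mul_mem hg hp)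
        apply h2
        obtain ⟨y, hy, rfl⟩ := hx
        exact ⟨y, hy, by simp [mul_assoc]⟩
      exact fun x hx => h1 hx
    intro g hg
    rw [mem_normalizer_iff]
    refine fun x => ⟨key g hg x, fun hx => ?_⟩
    have h1 := key g⁻¹ (inv_mem hg) _ hx
    have e : g⁻¹ * (g * x * g⁻¹) * g⁻¹⁻¹ = x := by group
    rwa [e] at h1
  have hPW : P ≤ normalizer ((U ⊓ zl (S : Subgroup G) P : Subgroup G) : Set G) :=
    (le_inf (h.PL.trans hLU) hn).trans (Subgroup.inf_normalizer_le_normalizer_inf)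
  have hWD : ¬ U ⊓ zl (S : Subgroup G) P ≤ cv (S : Subgroup G) P := fun h1 =>
    not_mem_cv h.SP hz hzP (h1 ⟨hzU, MinSimple.VModule.zc_le_zl _ _ hz⟩)
  have h1 := par_cover h.par h.concl h.AS h.offP inf_le_right hPW hWD
  apply h.offP.ne
  rw [le_centralizer_iff]
  refine h1.trans (sup_le ?_ inf_le_right)
  exact inf_le_left.trans (le_centralizer_iff.1 hA)

/-- **(D)**: `U ≤ V` normalised by `P`: `[U, A] = 1` or `V = U C_V(A)`. -/
theorem GOne.dich (hG : IsCharacteristicTwoType G) (h : GOne S L P A) {U : Subgroup G}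
    (hUV : U ≤ zl (S : Subgroup G) L) (hPU : P ≤ normalizer (U : Set G)) :
    U ≤ centralizer (A : Set G) ∨
      zl (S : Subgroup G) L = U ⊔ (zl (S : Subgroup G) L ⊓ centralizer (A : Set G)) := by
  have hn : P ≤ normalizer (zl (S : Subgroup G) P : Set G) := MinSimple.VModule.le_normalizer_zl _ _
  have hPW : P ≤ normalizer ((U ⊓ zl (S : Subgroup G) P : Subgroup G) : Set G) :=
    (le_inf hPU hn).trans (Subgroup.inf_normalizer_le_normalizer_inf)
  rcases par_dich hG h.par h.concl h.AS h.offP (inf_le_right : U ⊓ zl (S : Subgroup G) P ≤ _) hPW with h1 | h1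
  · right
    apply le_antisymm
    · conv_lhs => rw [h.ex]
      refine sup_le (h1.trans (sup_le ?_ ?_)) le_sup_right
      · exact inf_le_left.trans le_sup_left
      · exact (inf_le_inf_right _ h.VU).trans le_sup_right
    · exact sup_le hUV inf_le_left
  · left
    intro u hu
    obtain ⟨v, hv, w, hw, rfl⟩ := h.dec (hUV hu)
    have hvA : ∀ a ∈ A, a * v = v * a := by
      refine h1 v hv fun a ha => ?_
      have haP := h.SP (h.AS ha)
      have haw : a * w = w * a := mem_centralizer_iff.1 hw.2 a ha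
      have e : a * (v * w) * a⁻¹ * (v * w)⁻¹ = a * v * a⁻¹ * v⁻¹ := by
        calc a * (v * w) * a⁻¹ * (v * w)⁻¹ = a * v * a⁻¹ * (a * w) * a⁻¹ * w⁻¹ * v⁻¹ := by group
          _ = a * v * a⁻¹ * v⁻¹ := by rw [haw]; group
      refine mem_inf.2 ⟨?_, mul_mem (conj_div hn haP hv) (inv_mem hv)⟩
      rw [← e]
      exact mul_mem (conj_div hPU haP hu) (inv_mem hu)
    rw [mem_centralizer_iff]
    intro a ha
    have haw : a * w = w * a := mem_centralizer_iff.1 hw.2 a ha
    rw [← mul_assoc, hvA a ha, mul_assoc, haw, mul_assoc]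

end fin

/-! ### Minimal exact offenders -/

/-- `A` is a minimal exact offender on `V`. -/
structure Mx (V A : Subgroup G) : Prop extends ElemM V A where
  pg : IsPGroup 2 A
  ne : ¬ A ≤ centralizer (V : Set G)
  exact : Nat.card V * Nat.card ↥(A ⊓ centralizer (V : Set G)) =
    Nat.card A * Nat.card ↥(V ⊓ centralizer (A : Set G))
  min : ∀ B ≤ A, Nat.card V * Nat.card ↥(B ⊓ centralizer (V : Set G)) =
    Nat.card B * Nat.card ↥(V ⊓ centralizer (B : Set G)) → A ⊓ centralizer (V : Set G) ≤ B →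
      B ≤ centralizer (V : Set G) ∨ B = A

theorem Mx.off {V A : Subgroup G} (h : Mx V A) : OffM V A := ⟨h.toElemM, h.ne, h.exact.le⟩

section mx

variable [Finite G] {S : Sylow 2 G} {L P A : Subgroup G}

/-- a minimal exact offender is conjugate to one in `S` with a `P` -/
theorem gOne_of_mx (hc : IsCharacteristicTwoType G) (hL : IsLoc (S : Subgroup G) L)
    (hgen : L ≤ sSup {P | IsParS (S : Subgroup G) P ∧ P ≤ L}) (hAL : A ≤ L)
    (h : Mx (zl (S : Subgroup G) L) A) : ∃ m ∈ L, ∃ P, GOne S L P (cj m A) := by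
  have hno := (exists_gOne hc hL hgen ⟨A, hAL, h.off⟩).choose_spec.choose_spec.no
  have hcomm := (exists_gOne hc hL hgen ⟨A, hAL, h.off⟩).choose_spec.choose_spec.comm
  have hLV : L ≤ normalizer (zl (S : Subgroup G) L : Set G) := MinSimple.VModule.le_normalizer_zl _ _
  obtain ⟨m, hm, P, hP, hPL, hmS, hmP⟩ := VF.gallery hc S hL hgen hAL h.pg h.ne
  have hmV := hLV hm
  have hcj := VF.fM_cj (A := A) hmV
  refine ⟨m, hm, P, ?_⟩
  have hVU : zl (S : Subgroup G) P ≤ zl (S : Subgroup G) L := Star.zl_mono _ hPL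
  set V : Subgroup G := zl (S : Subgroup G) L with hV
  set W : Subgroup G := zl (S : Subgroup G) P with hW
  set B : Subgroup G := cj m A with hB
  have hCVW : centralizer (V : Set G) ≤ centralizer (W : Set G) := centralizer_le hVU
  have hBE : ElemM V B := VF.elemM_cj hmV h.toElemM
  have hBW : ElemM W B := ⟨fun a ha => hCVW (hBE.sq a ha), fun a ha b hb => hCVW (hBE.comm a ha b hb)⟩
  have hBne : ¬ B ≤ centralizer (V : Set G) := fun h1 => hmP (h1.trans hCVW)
  have hfA : VF.fM V A = Nat.card V := by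
    have h1 := VF.fM_mul V A
    rw [← h.exact] at h1
    exact Nat.eq_of_mul_eq_mul_right Nat.card_pos h1
  have hfB : VF.fM V B = Nat.card V := hcj.1.trans hfA
  have hPFF : (∃ A ≤ P, OffM W A) → NoOverM W P ∧ ConclM (S : Subgroup G) P := fun h =>
    FFBr.ffthmM G (S : Subgroup G) P (syl_of_sylow S hP.le) hP.toIsMinPar (hP.isLoc.char2 S hc) h
  have hBP := hmS.trans hP.le
  have hnoW : Nat.card B * Nat.card ↥(W ⊓ centralizer (B : Set G)) ≤
      Nat.card W * Nat.card ↥(B ⊓ centralizer (W : Set G)) := by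
    by_contra hcon
    have hoffW : OffM W B := ⟨hBW, hmP, (not_le.1 hcon).le⟩
    exact hcon ((hPFF ⟨B, hBP, hoffW⟩).1 B hBP hBW)
  have hle := VF.fM_le hVU hnoW
  -- `C_B(W)` centralises `V`
  have hB1 : B ⊓ centralizer (W : Set G) ≤ centralizer (V : Set G) := by
    set B₁ := B ⊓ centralizer (W : Set G) with hB₁
    have hBL : B₁ ≤ L := (inf_le_left.trans hBP).trans hPL
    have hB₁E : ElemM V B₁ := VF.elemM_mono hBE inf_le_left
    have h2 : VF.fM V B₁ ≤ Nat.card V := VF.fM_le_iff.2 (hno B₁ hBL hB₁E)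
    have h3 : VF.fM V B₁ = Nat.card V := le_antisymm h2 (hfB ▸ hle)
    -- back to `A`
    have hmi : m⁻¹ ∈ normalizer (V : Set G) := inv_mem hmV
    have h4 : VF.fM V (cj m⁻¹ B₁) = Nat.card V := (VF.fM_cj hmi).1.trans h3
    have h5 : Nat.card V * Nat.card ↥(cj m⁻¹ B₁ ⊓ centralizer (V : Set G)) =
        Nat.card ↥(cj m⁻¹ B₁) * Nat.card ↥(V ⊓ centralizer (cj m⁻¹ B₁ : Set G)) := by
      have h6 := VF.fM_mul V (cj m⁻¹ B₁)
      rw [h4] at h6
      exact h6
    have h6 : cj m⁻¹ B₁ ≤ A := by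
      have h7 : cj m⁻¹ B₁ ≤ cj m⁻¹ B := ChoiceBase.cj_mono _ inf_le_left
      rwa [hB, ChoiceBase.cj_inv_cj] at h7
    have h7 : A ⊓ centralizer (V : Set G) ≤ cj m⁻¹ B₁ := by
      have h8 : cj m (A ⊓ centralizer (V : Set G)) ≤ B₁ := by
        rw [ChoiceBase.cj_inf, ChoiceBase.cj_centralizer, ChoiceBase.cj_eq_of_mem_normalizer hmV]
        exact le_inf inf_le_left (inf_le_right.trans hCVW)
      have h9 := ChoiceBase.cj_mono m⁻¹ h8
      rwa [ChoiceBase.cj_inv_cj] at h9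
    rcases h.min _ h6 h5 h7 with h8 | h8
    · have h9 := ChoiceBase.cj_mono m h8
      rwa [ChoiceBase.cj_cj_inv, ChoiceBase.cj_centralizer, ChoiceBase.cj_eq_of_mem_normalizer hmV] at h9
    · exfalso
      apply hmP
      have h9 : B₁ = B := by rw [hB, ← h8, ChoiceBase.cj_cj_inv]
      rw [← h9]
      exact inf_le_right
  have hoffV : OffM V B := ⟨hBE, hBne, VF.le_fM_iff.1 hfB.ge⟩
  have hexV := exact_of hcomm hVU hoffV.le hnoW hB1
  have hoffW : OffM W B := by
    refine ⟨hBW, hmP, ?_⟩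
    -- `|W| |C_B(W)| ≤ |B| |C_W(B)|`
    have e1 : B ⊓ centralizer (W : Set G) = B ⊓ centralizer (V : Set G) :=
      le_antisymm (le_inf inf_le_left hB1) (inf_le_inf_left _ hCVW)
    have e2 : W ⊓ (V ⊓ centralizer (B : Set G)) = W ⊓ centralizer (B : Set G) := by
      rw [← inf_assoc, inf_eq_left.2 hVU]
    have h1 := Star.card_sup_mul hcomm hVU (inf_le_left : V ⊓ centralizer (B : Set G) ≤ V)
    rw [← hexV, e2] at h1
    rw [e1]
    have h2 := hoffV.le
    have p1 : 0 < Nat.card ↥(V ⊓ centralizer (B : Set G)) := Nat.card_pos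
    refine Nat.le_of_mul_le_mul_right ?_ p1
    calc Nat.card W * Nat.card ↥(B ⊓ centralizer (V : Set G)) * Nat.card ↥(V ⊓ centralizer (B : Set G))
        = (Nat.card W * Nat.card ↥(V ⊓ centralizer (B : Set G))) * Nat.card ↥(B ⊓ centralizer (V : Set G)) := by
          ring
      _ = (Nat.card V * Nat.card ↥(B ⊓ centralizer (V : Set G))) * Nat.card ↥(W ⊓ centralizer (B : Set G)) := by
          rw [← h1]; ring
      _ ≤ (Nat.card B * Nat.card ↥(V ⊓ centralizer (B : Set G))) * Nat.card ↥(W ⊓ centralizer (B : Set G)) :=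
          Nat.mul_le_mul_right _ h2
      _ = _ := by ring
  exact ⟨hP, hPL, hmS, hcomm, hno, hoffV, hoffW, hB1, (hPFF ⟨B, hBP, hoffW⟩).2, hexV⟩

/-- **(D)** for all minimal exact offenders: `U ≤ V` normalised by `L`: `[U, A] = 1` or `V = U C_V(A)`. -/
theorem Mx.dich (hc : IsCharacteristicTwoType G) (hL : IsLoc (S : Subgroup G) L)
    (hgen : L ≤ sSup {P | IsParS (S : Subgroup G) P ∧ P ≤ L}) (hAL : A ≤ L)
    (h : Mx (zl (S : Subgroup G) L) A) {U : Subgroup G} (hUV : U ≤ zl (S : Subgroup G) L)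
    (hLU : L ≤ normalizer (U : Set G)) :
    U ≤ centralizer (A : Set G) ∨
      zl (S : Subgroup G) L = U ⊔ (zl (S : Subgroup G) L ⊓ centralizer (A : Set G)) := by
  obtain ⟨m, hm, P, hg⟩ := gOne_of_mx hc hL hgen hAL h
  have hLV : L ≤ normalizer (zl (S : Subgroup G) L : Set G) := MinSimple.VModule.le_normalizer_zl _ _
  have hmU : m⁻¹ ∈ normalizer (U : Set G) := inv_mem (hLU hm)
  have hmV : m⁻¹ ∈ normalizer (zl (S : Subgroup G) L : Set G) := inv_mem (hLV hm)
  have e1 : cj m⁻¹ (centralizer (cj m A : Set G)) = centralizer (A : Set G) := by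
    rw [ChoiceBase.cj_centralizer, ChoiceBase.cj_inv_cj]
  rcases hg.dich hc hUV (hg.PL.trans hLU) with h1 | h1
  · left
    have h2 := ChoiceBase.cj_mono m⁻¹ h1
    rwa [ChoiceBase.cj_eq_of_mem_normalizer hmU, e1] at h2
  · right
    have h2 := congrArg (cj m⁻¹) h1
    have e2 : ∀ X Y : Subgroup G, cj m⁻¹ (X ⊔ Y) = cj m⁻¹ X ⊔ cj m⁻¹ Y := fun X Y => Subgroup.map_sup _ _ _
    rwa [e2, ChoiceBase.cj_inf, ChoiceBase.cj_eq_of_mem_normalizer hmU,
      ChoiceBase.cj_eq_of_mem_normalizer hmV, e1] at h2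

end mx

end Cfsg.Agent.Omega.NOThreeL.RRed

end

end
end
end

-- part: Mrg/Omega/NOThreeL/RRed/ClassMx
section
prune_inst 0xc00000000000000000180000200000400a000100002300111000080000c2940000008601b0000a00101224440038000000c400100000000000000000011800800000000200400000200000008804000000000000000000000000000000041000200000000
set_option linter.all false
open scoped Cfsg.Agent.FastGrp

section


/-!
# NO-3L, box R: minimal exact offenders (#24537, #24733), text: helper245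

`V = zl S L`.

* `exists_mx` : an exact offender contains a minimal exact one;
* `exact_split` : `A ≤ S` exact on `V`, moving `V_P`, `F = C_A(V_P)`: `F` is exact (or trivial) on `V`, `A` is an exact
  offender on `V_P`, `C_V(F) = V_P C_V(A)`;
* **`GOne.exists_mx`** : `GOne S L P A` implies `GOne S L P B` for a minimal exact `B ≤ A`;
* `odd_le_ncl`, `odd_cent` : `A ≤ S`, `A ≰ O₂(P)`: `O²(P) ≤ ⟨A^P⟩`, `O²(P)` centralises `C_V(⟨A^L⟩)`.
-/

set_option autoImplicit false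
set_option linter.unusedSectionVars false

namespace Cfsg.Agent.Omega.NOThreeL.RRed

open Subgroup Pointwise Cfsg Cfsg.Agent.ZN Cfsg.Agent.Omega.MinPar Cfsg.Agent.Omega.Frame
open Cfsg.Agent.Omega.FrameNOFF
open Cfsg.Agent.Omega.FFThm (ElemM OffM NoOverM ConclM)
open Cfsg.Agent.ZN.ChoiceBase (cj)
open Cfsg.Agent.ZN.CaseTwo (syl_of_sylow)
open Cfsg.Agent.MinSimple.VModule (oddGen)

universe u

variable {G : Type u} [Group G]

/-- `A` is exact on `V`. -/
def Exa (V A : Subgroup G) : Prop :=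
  Nat.card V * Nat.card ↥(A ⊓ centralizer (V : Set G)) = Nat.card A * Nat.card ↥(V ⊓ centralizer (A : Set G))

/-- **An exact offender contains a minimal exact one.** -/
theorem exists_mx [Finite G] {V A : Subgroup G} (hE : ElemM V A) (hp : IsPGroup 2 A)
    (hne : ¬ A ≤ centralizer (V : Set G)) (hex : Exa V A) :
    ∃ B ≤ A, A ⊓ centralizer (V : Set G) ≤ B ∧ Mx V B := by
  obtain ⟨B, ⟨hBA, hAB, hBn, hBe⟩, hmin⟩ := Set.exists_min_image
    {B : Subgroup G | B ≤ A ∧ A ⊓ centralizer (V : Set G) ≤ B ∧ ¬ B ≤ centralizer (V : Set G) ∧ Exa V B}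
    (fun B => Nat.card B) (Set.toFinite _) ⟨A, le_rfl, inf_le_left, hne, hex⟩
  refine ⟨B, hBA, hAB, ⟨VF.elemM_mono hE hBA, hp.to_le hBA, hBn, hBe, fun C hC hCe hCc => ?_⟩⟩
  by_cases hCn : C ≤ centralizer (V : Set G)
  · exact Or.inl hCn
  · right
    have h1 : A ⊓ centralizer (V : Set G) ≤ C := (le_inf hAB inf_le_right).trans hCc
    have h2 := hmin C ⟨hC.trans hBA, h1, hCn, hCe⟩
    exact Subgroup.eq_of_le_of_card_ge hC h2

section fin

variable [Finite G] {S : Sylow 2 G} {L P A : Subgroup G}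

/-- **`F = C_A(V_P)`, `A` exact on `V`.** -/
theorem exact_split (hc : IsCharacteristicTwoType G) (hP : IsParS (S : Subgroup G) P) (hPL : P ≤ L)
    (hno : NoOverM (zl (S : Subgroup G) L) L)
    (hcomm : zl (S : Subgroup G) L ≤ centralizer (zl (S : Subgroup G) L : Set G))
    (hA : A ≤ (S : Subgroup G)) (hE : ElemM (zl (S : Subgroup G) L) A)
    (hex : Exa (zl (S : Subgroup G) L) A) (hne : ¬ A ≤ centralizer (zl (S : Subgroup G) P : Set G)) :
    Exa (zl (S : Subgroup G) L) (A ⊓ centralizer (zl (S : Subgroup G) P : Set G)) ∧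
      Exa (zl (S : Subgroup G) P) A ∧ OffM (zl (S : Subgroup G) P) A ∧ ConclM (S : Subgroup G) P ∧
      zl (S : Subgroup G) L ⊓ centralizer ((A ⊓ centralizer (zl (S : Subgroup G) P : Set G) : Subgroup G) : Set G) =
        zl (S : Subgroup G) P ⊔ (zl (S : Subgroup G) L ⊓ centralizer (A : Set G)) := by
  have hVU : zl (S : Subgroup G) P ≤ zl (S : Subgroup G) L := Star.zl_mono _ hPL
  set V : Subgroup G := zl (S : Subgroup G) L with hV
  set W : Subgroup G := zl (S : Subgroup G) P with hW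
  set F : Subgroup G := A ⊓ centralizer (W : Set G) with hF
  have hCVW : centralizer (V : Set G) ≤ centralizer (W : Set G) := centralizer_le hVU
  have hAP := hA.trans hP.le
  have hAW : ElemM W A := ⟨fun a ha => hCVW (hE.sq a ha), fun a ha b hb => hCVW (hE.comm a ha b hb)⟩
  have hPFF : (∃ A ≤ P, OffM W A) → NoOverM W P ∧ ConclM (S : Subgroup G) P := fun h =>
    FFBr.ffthmM G (S : Subgroup G) P (syl_of_sylow S hP.le) hP.toIsMinPar (hP.isLoc.char2 S hc) h
  have hnoW : Nat.card A * Nat.card ↥(W ⊓ centralizer (A : Set G)) ≤ Nat.card W * Nat.card F := by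
    by_contra hcon
    have hoffW : OffM W A := ⟨hAW, hne, (not_le.1 hcon).le⟩
    exact hcon ((hPFF ⟨A, hAP, hoffW⟩).1 A hAP hAW)
  have hFV : F ⊓ centralizer (V : Set G) = A ⊓ centralizer (V : Set G) := by
    rw [hF, inf_assoc, inf_eq_right.2 hCVW]
  have hFno := hno F ((inf_le_left.trans hAP).trans hPL) (VF.elemM_mono hE inf_le_left)
  rw [hFV] at hFno
  have e2 : W ⊓ (V ⊓ centralizer (A : Set G)) = W ⊓ centralizer (A : Set G) := by
    rw [← inf_assoc, inf_eq_left.2 hVU]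
  have h1 := Star.card_sup_mul hcomm hVU (inf_le_left : V ⊓ centralizer (A : Set G) ≤ V)
  rw [e2] at h1
  have hsup : W ⊔ (V ⊓ centralizer (A : Set G)) ≤ V ⊓ centralizer (F : Set G) := by
    refine sup_le (le_inf hVU ?_) (le_inf inf_le_left (inf_le_right.trans (centralizer_le inf_le_left)))
    exact le_centralizer_iff.1 inf_le_right
  have h2 := Subgroup.card_le_of_le hsup
  have hex' : Nat.card V * Nat.card ↥(A ⊓ centralizer (V : Set G)) =
    Nat.card A * Nat.card ↥(V ⊓ centralizer (A : Set G)) := hex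
  -- numbers
  set m := Nat.card ↥(W ⊔ (V ⊓ centralizer (A : Set G)))
  set w := Nat.card ↥(W ⊓ centralizer (A : Set G))
  set c := Nat.card ↥(A ⊓ centralizer (V : Set G))
  set n := Nat.card ↥(V ⊓ centralizer (A : Set G))
  set nF := Nat.card ↥(V ⊓ centralizer (F : Set G))
  set f := Nat.card F
  set a := Nat.card A
  set v := Nat.card V
  set W' := Nat.card W
  have pw : 0 < w := Nat.card_pos
  have pc : 0 < c := Nat.card_pos
  have pn : 0 < n := Nat.card_pos
  have pf : 0 < f := Nat.card_pos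
  have pm : 0 < m := Nat.card_pos
  -- `f nF ≤ v c = a n`, `a w ≤ W' f`, `m w = W' n`, `m ≤ nF`
  have i1 : f * m ≤ a * n := by
    calc f * m ≤ f * nF := Nat.mul_le_mul_left _ h2
      _ ≤ v * c := hFno
      _ = a * n := hex'
  have i2 : (a * n) * w ≤ (f * m) * w := by
    calc (a * n) * w = (a * w) * n := by ring
      _ ≤ (W' * f) * n := Nat.mul_le_mul_right _ hnoW
      _ = f * (m * w) := by rw [h1]; ring
      _ = (f * m) * w := by ring
  have i3 : f * m = a * n := le_antisymm i1 (Nat.le_of_mul_le_mul_right i2 pw)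
  have i4 : f * nF = a * n := le_antisymm (hFno.trans hex'.le) (i3 ▸ Nat.mul_le_mul_left _ h2)
  have i5 : m = nF := Nat.eq_of_mul_eq_mul_left pf (i3.trans i4.symm)
  have i6 : W' * f = a * w := by
    have : (W' * f) * n = (a * w) * n := by
      calc (W' * f) * n = f * (m * w) := by rw [h1]; ring
        _ = (f * m) * w := by ring
        _ = (a * n) * w := by rw [i3]
        _ = (a * w) * n := by ring
    exact Nat.eq_of_mul_eq_mul_right pn this
  have hoffW : OffM W A := ⟨hAW, hne, i6.le⟩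
  refine ⟨?_, i6, hoffW, (hPFF ⟨A, hAP, hoffW⟩).2, (Subgroup.eq_of_le_of_card_ge hsup i5.ge).symm⟩
  unfold Exa
  rw [hFV]
  exact hex'.trans i4.symm

/-- **`GOne S L P A` gives `GOne S L P B` with `B ≤ A` minimal exact.** -/
theorem GOne.exists_mx (hc : IsCharacteristicTwoType G) (h : GOne S L P A) :
    ∃ B ≤ A, A ⊓ centralizer (zl (S : Subgroup G) L : Set G) ≤ B ∧ Mx (zl (S : Subgroup G) L) B ∧
      GOne S L P B := by
  have hAL : A ≤ L := h.AS.trans h.SL
  have hex : Exa (zl (S : Subgroup G) L) A :=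
    le_antisymm h.offU.le (h.no A hAL h.offU.toElemM)
  obtain ⟨B, hBA, hAB, hB⟩ := RRed.exists_mx h.offU.toElemM (S.isPGroup'.to_le h.AS) h.offU.ne hex
  have hBn : ¬ B ≤ centralizer (zl (S : Subgroup G) P : Set G) := fun h1 =>
    hB.ne fun x hx => h.cent ⟨hBA hx, h1 hx⟩
  obtain ⟨-, -, h2, h3, h4⟩ := exact_split hc h.par h.PL h.no h.comm (hBA.trans h.AS) hB.toElemM hB.exact hBn
  have h5 : B ⊓ centralizer (zl (S : Subgroup G) P : Set G) ≤ centralizer (zl (S : Subgroup G) L : Set G) :=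
    (inf_le_inf_right _ hBA).trans h.cent
  refine ⟨B, hBA, hAB, hB, h.par, h.PL, hBA.trans h.AS, h.comm, h.no, hB.off, h2, h5, h3, ?_⟩
  rw [← h4]
  exact (inf_eq_left.2 (le_centralizer_iff.1 h5)).symm

/-- `A ≤ S`, `A ≰ O₂(P)`: `O²(P) ≤ ⟨A^P⟩`. -/
theorem odd_le_ncl (hP : IsParS (S : Subgroup G) P) (hA : A ≤ (S : Subgroup G)) (hAn : ¬ A ≤ o2 P) :
    oddGen P ≤ NoFF.Basic.V A P := by
  have hSP := hP.le
  have hAV : A ≤ NoFF.Basic.V A P := by
    have h1 : MulAut.conj (1 : G) • A ≤ NoFF.Basic.V A P := NoFF.Basic.Z_le_V (one_mem P)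
    rwa [map_one, one_smul] at h1
  have hVP : NoFF.Basic.V A P ≤ P := by
    refine NoFF.Basic.V_le fun p hp x hx => ?_
    obtain ⟨y, hy, rfl⟩ := hx
    change p * y * p⁻¹ ∈ P
    exact mul_mem (mul_mem hp (hSP (hA hy))) (inv_mem hp)
  have hn : P ≤ normalizer (NoFF.Basic.V A P : Set G) := by
    have key : ∀ g ∈ P, ∀ x ∈ NoFF.Basic.V A P, g * x * g⁻¹ ∈ NoFF.Basic.V A P := by
      intro g hg
      have h1 : NoFF.Basic.V A P ≤ (NoFF.Basic.V A P).comap (MulAut.conj g).toMonoidHom := by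
        refine NoFF.Basic.V_le fun p hp x hx => ?_
        rw [mem_comap]
        have h2 : MulAut.conj (g * p) • A ≤ NoFF.Basic.V A P := NoFF.Basic.Z_le_V (mul_mem hg hp)
        apply h2
        obtain ⟨y, hy, rfl⟩ := hx
        exact ⟨y, hy, by simp [mul_assoc]⟩
      exact fun x hx => h1 hx
    intro g hg
    rw [mem_normalizer_iff]
    refine fun x => ⟨key g hg x, fun hx => ?_⟩
    have h1 := key g⁻¹ (inv_mem hg) _ hx
    have e : g⁻¹ * (g * x * g⁻¹) * g⁻¹⁻¹ = x := by group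
    rwa [e] at h1
  have hsup : P ≤ NoFF.Basic.V A P ⊔ (S : Subgroup G) := by
    rcases hP.toIsPar.sup_eq_or_inf_le S hVP hn with h1 | h1
    · rw [sup_comm] at h1
      exact (sup_comm (NoFF.Basic.V A P) (S : Subgroup G) ▸ h1).ge
    · exact absurd ((le_inf hA hAV).trans h1) hAn
  rw [MinSimple.VModule.oddGen_def, closure_le]
  rintro g ⟨hg, ho⟩
  exact IId.Cv.mem_of_odd hn hSP hsup S.isPGroup' hg ho

/-- `A ≤ S`, `A ≰ O₂(P)`, `P ≤ L`: `O²(P)` centralises `C_G(⟨A^L⟩)`. -/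
theorem odd_cent (hP : IsParS (S : Subgroup G) P) (hPL : P ≤ L) (hA : A ≤ (S : Subgroup G)) (hAn : ¬ A ≤ o2 P) :
    centralizer (NoFF.Basic.V A L : Set G) ≤ centralizer (oddGen P : Set G) := by
  refine centralizer_le ((odd_le_ncl hP hA hAn).trans ?_)
  exact NoFF.Basic.V_le fun p hp => NoFF.Basic.Z_le_V (hPL hp)

end fin

end Cfsg.Agent.Omega.NOThreeL.RRed

end

section


/-!
# NO-3L, box R: the definitions of `E₁`, `Z₁`, `R₁`, `B₁` (#25243)

`V* = ⟨Z^Y⟩`, `Y = YS S = MZ S = ⟨P*(S)⟩`. An ATOM is a minimal exact offender (`Mx V* A`, ClassD) in `S`.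

* `J1 S` : generated by the atoms `A ≤ S` on `V*`;
* `E1 S = ⟨J1^Y⟩`;
* `E1S S` : `C_Z(E₁) = 1`; `E1Fr` : the same as a frame;
* `Z1 S = C_Z(E₁)`, `R1 S = ⟨Z1^Y⟩`, `B1 S = [V*, E₁]`.
-/

set_option autoImplicit false
set_option linter.unusedSectionVars false

namespace Cfsg.Agent.Omega.NOThreeL.RRed.EOne

open Subgroup Cfsg Cfsg.Agent.Omega.MinPar Cfsg.Agent.Omega.Frame Cfsg.Agent.Omega.FrameNOFF
open Cfsg.Agent.ZN (o2 zc zl jj)
open Cfsg.Agent.ZN.ChoiceBase hiding mem_zc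
open Cfsg.Agent.Omega.NOThreeL.Star (YS)
open Cfsg.Agent.Omega.NOThreeL.Merge (MZ)
open Cfsg.Agent.Omega.NOThreeL.RRed (Mx)

universe u

variable {G : Type u} [Group G]

/-- generated by the atoms of `S` on `V*` -/
def J1 (S : Subgroup G) : Subgroup G := sSup {A | A ≤ S ∧ Mx (zl S (YS S)) A}

/-- `E₁ = ⟨J1^Y⟩` -/
def E1 (S : Subgroup G) : Subgroup G := NoFF.Basic.V (J1 S) (YS S)

/-- `C_Z(E₁) = 1` -/
def E1S (S : Subgroup G) : Prop := zc S ⊓ centralizer (E1 S : Set G) = ⊥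

/-- `C_Z(E₁) = 1`, as a frame -/
abbrev E1Fr : ∀ (G : Type u) [Group G] [Finite G], Sylow 2 G → Prop := fun G _ _ S => E1S (S : Subgroup G)

/-- `C_Z(E₁)` -/
def Z1 (S : Subgroup G) : Subgroup G := zc S ⊓ centralizer (E1 S : Set G)

/-- `⟨C_Z(E₁)^Y⟩` -/
def R1 (S : Subgroup G) : Subgroup G := NoFF.Basic.V (Z1 S) (YS S)

/-- `[V*, E₁]` -/
def B1 (S : Subgroup G) : Subgroup G := ⁅zl S (YS S), E1 S⁆

theorem mx_le_J1 {S A : Subgroup G} (hA : A ≤ S) (h : Mx (zl S (YS S)) A) : A ≤ J1 S :=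
  le_sSup (show A ∈ {A | A ≤ S ∧ Mx (zl S (YS S)) A} from ⟨hA, h⟩)

theorem J1_le_E1 (S : Subgroup G) : J1 S ≤ E1 S := RZ.Z_le _ _

theorem mx_le_E1 {S A : Subgroup G} (hA : A ≤ S) (h : Mx (zl S (YS S)) A) : A ≤ E1 S :=
  (mx_le_J1 hA h).trans (J1_le_E1 S)

theorem YS_le_norm_E1 (S : Subgroup G) : YS S ≤ normalizer (E1 S : Set G) := RZ.le_norm_V _ _

/-- `E₁ ≤ D` if `D` is normalised by `Y` and contains the atoms -/
theorem E1_le_of {S D : Subgroup G} (hD : YS S ≤ normalizer (D : Set G))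
    (h : ∀ A : Subgroup G, A ≤ S → Mx (zl S (YS S)) A → A ≤ D) : E1 S ≤ D :=
  RZ.V_le_of (sSup_le fun A hA => h A hA.1 hA.2) hD

theorem Z1_le (S : Subgroup G) : Z1 S ≤ zc S := inf_le_left

theorem Z1_le_R1 (S : Subgroup G) : Z1 S ≤ R1 S := RZ.Z_le _ _

theorem YS_le_norm_R1 (S : Subgroup G) : YS S ≤ normalizer (R1 S : Set G) := RZ.le_norm_V _ _

end Cfsg.Agent.Omega.NOThreeL.RRed.EOne

end

section


/-!
# Box R, #25243: every `A ∈ 𝒜(O₂(C_G(Z)))` centralises `R₀` (helper930)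

`V = B × R`, `B`, `R` invariant under `L`.
* `card_cent` : `|C_V(A)| = |C_B(A)| |C_R(A)|`;
* **`le_cent`** : an offender `A` on `V` which is no over-offender on `B` centralises `R`, if the minimal exact offenders
  in `A` do;
* **`hA`** : `V = zl S L ≤ O₂(C_G(Z))`, `Z = (Z ∩ B)(Z ∩ R)`, `B = ⟨(Z ∩ B)^{C_L(Z ∩ R)}⟩`, the minimal exact offenders of
  `S` centralise `R`: every `A ∈ 𝒜(O₂(C_G(Z)))` centralises `R` (`MLK` for `C_L(Z ∩ R)` on `B`).
-/

set_option autoImplicit false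
set_option linter.unusedSectionVars false

namespace Cfsg.Agent.Omega.NOThreeL.RRed.BestR

open Subgroup Cfsg Cfsg.Agent.ZN Cfsg.Agent.ZN.ChoiceBase Cfsg.Agent.Omega.MinPar
open Cfsg.Agent.Omega.FFThm (ElemM OffM NoOverM off_of_AA relIndex_le_iff)
open Cfsg.Agent.Omega.NOThreeL.RRed (Mx Exa)
open Cfsg.Agent.Omega.ML.Final (MLK)
open Cfsg.Agent.MinSimple.VModule (o2_isPGroup o2_le)
open scoped Pointwise

universe u

variable {G : Type u} [Group G]

section abs

variable {V B R A L : Subgroup G}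

/-- `C_V(A) = C_B(A) C_R(A)` -/
theorem cent_split (hVc : V ≤ centralizer (V : Set G)) (hs : B ⊔ R = V) (hi : B ⊓ R = ⊥)
    (nB : A ≤ normalizer (B : Set G)) (nR : A ≤ normalizer (R : Set G)) :
    V ⊓ centralizer (A : Set G) = (B ⊓ centralizer (A : Set G)) ⊔ (R ⊓ centralizer (A : Set G)) := by
  have hBV : B ≤ V := hs ▸ le_sup_left
  have hRV : R ≤ V := hs ▸ le_sup_right
  apply le_antisymm
  · rintro x ⟨hx, hxA⟩
    have hx' : x ∈ B ⊔ R := by rw [hs]; exact hx
    have hn : B ≤ normalizer (R : Set G) :=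
      hBV.trans (hVc.trans ((centralizer_le hRV).trans (centralizer_le_normalizer _)))
    have h1 : x ∈ ((B ⊔ R : Subgroup G) : Set G) := hx'
    rw [coe_mul_of_left_le_normalizer_right _ _ hn] at h1
    obtain ⟨b, hb, r, hr, e⟩ := h1
    have e' : b * r = x := e
    have key : ∀ a ∈ A, a * b * a⁻¹ = b ∧ a * r * a⁻¹ = r := by
      intro a ha
      have hab : a * b * a⁻¹ ∈ B := (mem_normalizer_iff.1 (nB ha) b).1 hb
      have har : a * r * a⁻¹ ∈ R := (mem_normalizer_iff.1 (nR ha) r).1 hr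
      have h2 : a * x = x * a := mem_centralizer_iff.1 hxA a ha
      have h3 : (a * b * a⁻¹) * (a * r * a⁻¹) = b * r := by
        have : (a * b * a⁻¹) * (a * r * a⁻¹) = a * (b * r) * a⁻¹ := by group
        rw [this, e', h2]; group
      have h4 : b⁻¹ * (a * b * a⁻¹) = r * (a * r * a⁻¹)⁻¹ := by
        rw [eq_mul_inv_iff_mul_eq, mul_assoc, h3]; group
      have h5 : b⁻¹ * (a * b * a⁻¹) ∈ B ⊓ R := by
        refine mem_inf.2 ⟨mul_mem (inv_mem hb) hab, ?_⟩
        rw [h4]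
        exact mul_mem hr (inv_mem har)
      have h6 := h5
      rw [hi, mem_bot] at h6
      refine ⟨(inv_mul_eq_one.1 h6).symm, ?_⟩
      rw [h6] at h4
      exact (mul_inv_eq_one.1 h4.symm).symm
    rw [← e']
    refine mul_mem (mem_sup_left ⟨hb, ?_⟩) (mem_sup_right ⟨hr, ?_⟩)
    · refine mem_centralizer_iff.2 ?_
      intro a ha
      have := (key a ha).1
      calc a * b = (a * b * a⁻¹) * a := by group
        _ = b * a := by rw [this]
    · refine mem_centralizer_iff.2 ?_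
      intro a ha
      have := (key a ha).2
      calc a * r = (a * r * a⁻¹) * a := by group
        _ = r * a := by rw [this]
  · exact sup_le (inf_le_inf_right _ hBV) (inf_le_inf_right _ hRV)

/-- `|C_V(A)| = |C_B(A)| |C_R(A)|` -/
theorem card_cent [Finite G] (hVc : V ≤ centralizer (V : Set G)) (hs : B ⊔ R = V) (hi : B ⊓ R = ⊥)
    (nB : A ≤ normalizer (B : Set G)) (nR : A ≤ normalizer (R : Set G)) :
    Nat.card ↥(V ⊓ centralizer (A : Set G)) =
      Nat.card ↥(B ⊓ centralizer (A : Set G)) * Nat.card ↥(R ⊓ centralizer (A : Set G)) := by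
  have hBV : B ≤ V := hs ▸ le_sup_left
  have hRV : R ≤ V := hs ▸ le_sup_right
  have h1 := Star.card_sup_mul hVc ((inf_le_left : B ⊓ centralizer (A : Set G) ≤ B).trans hBV)
    ((inf_le_left : R ⊓ centralizer (A : Set G) ≤ R).trans hRV)
  have h2 : (B ⊓ centralizer (A : Set G)) ⊓ (R ⊓ centralizer (A : Set G)) = ⊥ := by
    rw [eq_bot_iff, ← hi]
    exact inf_le_inf inf_le_left inf_le_left
  rw [h2, card_bot, mul_one, ← cent_split hVc hs hi nB nR] at h1
  exact h1

theorem card_mul [Finite G] (hVc : V ≤ centralizer (V : Set G)) (hs : B ⊔ R = V) (hi : B ⊓ R = ⊥) :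
    Nat.card V = Nat.card B * Nat.card R := by
  have h1 := Star.card_sup_mul hVc (hs ▸ le_sup_left : B ≤ V) (hs ▸ le_sup_right : R ≤ V)
  rwa [hi, card_bot, mul_one, hs] at h1

/-- **(BA)** -/
theorem le_cent [Finite G] (hVc : V ≤ centralizer (V : Set G)) (hs : B ⊔ R = V) (hi : B ⊓ R = ⊥)
    (nB : A ≤ normalizer (B : Set G)) (nR : A ≤ normalizer (R : Set G)) (pg : IsPGroup 2 A) (hE : ElemM V A)
    (off : Nat.card V * Nat.card ↥(A ⊓ centralizer (V : Set G)) ≤
      Nat.card A * Nat.card ↥(V ⊓ centralizer (A : Set G)))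
    (noB : Nat.card A * Nat.card ↥(B ⊓ centralizer (A : Set G)) ≤
      Nat.card B * Nat.card ↥(A ⊓ centralizer (B : Set G)))
    (no : NoOverM V L) (AL : A ≤ L) (hat : ∀ X ≤ A, Mx V X → X ≤ centralizer (R : Set G)) :
    A ≤ centralizer (R : Set G) := by
  have hBV : B ≤ V := hs ▸ le_sup_left
  have hRV : R ≤ V := hs ▸ le_sup_right
  set A₂ : Subgroup G := A ⊓ centralizer (B : Set G) with hA₂
  have hle : A₂ ≤ A := inf_le_left
  have hcV : A₂ ⊓ centralizer (V : Set G) = A ⊓ centralizer (V : Set G) := by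
    rw [hA₂, inf_assoc, inf_eq_right.2 (centralizer_le hBV)]
  have hE₂ : ElemM V A₂ := VF.elemM_mono hE hle
  have h1 := card_cent hVc hs hi nB nR
  have h2 := card_cent (A := A₂) hVc hs hi (hle.trans nB) (hle.trans nR)
  have h3 := card_mul hVc hs hi
  have hBA : B ⊓ centralizer (A₂ : Set G) = B :=
    inf_eq_left.2 (le_centralizer_iff.1 (inf_le_right : A₂ ≤ centralizer (B : Set G)))
  rw [hBA] at h2
  have h4 : Nat.card ↥(R ⊓ centralizer (A : Set G)) ≤ Nat.card ↥(R ⊓ centralizer (A₂ : Set G)) :=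
    Subgroup.card_le_of_le (inf_le_inf_left _ (centralizer_le hle))
  have h5 := no A₂ (hle.trans AL) hE₂
  rw [hcV, h2, h3] at h5
  rw [h1, h3] at off
  set bb := Nat.card B
  set rr := Nat.card R
  set a := Nat.card A
  set a2 := Nat.card A₂
  set cV := Nat.card ↥(A ⊓ centralizer (V : Set G))
  set bA := Nat.card ↥(B ⊓ centralizer (A : Set G))
  set rA := Nat.card ↥(R ⊓ centralizer (A : Set G))
  set rA2 := Nat.card ↥(R ⊓ centralizer (A₂ : Set G))
  have pb : 0 < bb := Nat.card_pos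
  have pc : 0 < cV := Nat.card_pos
  -- `rr cV ≤ a2 rA`
  have k1 : rr * cV ≤ a2 * rA := by
    refine Nat.le_of_mul_le_mul_left ?_ pb
    calc bb * (rr * cV) = bb * rr * cV := by ring
      _ ≤ a * (bA * rA) := off
      _ = (a * bA) * rA := by ring
      _ ≤ (bb * a2) * rA := Nat.mul_le_mul_right _ noB
      _ = bb * (a2 * rA) := by ring
  by_cases hC : A₂ ≤ centralizer (V : Set G)
  · have k2 : a2 = cV := by
      change Nat.card A₂ = Nat.card ↥(A ⊓ centralizer (V : Set G))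
      rw [← hcV, inf_eq_left.2 hC]
    rw [k2, mul_comm] at k1
    have k3 : rr ≤ rA := Nat.le_of_mul_le_mul_left k1 pc
    have k4 : R ⊓ centralizer (A : Set G) = R := Subgroup.eq_of_le_of_card_ge inf_le_left k3
    exact le_centralizer_iff.1 (inf_eq_left.1 k4)
  · exfalso
    have hex : Exa V A₂ := by
      unfold Exa
      rw [hcV, h2, h3]
      refine le_antisymm ?_ h5
      calc bb * rr * cV = bb * (rr * cV) := by ring
        _ ≤ bb * (a2 * rA) := Nat.mul_le_mul_left _ k1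
        _ ≤ bb * (a2 * rA2) := Nat.mul_le_mul_left _ (Nat.mul_le_mul_left _ h4)
        _ = a2 * (bb * rA2) := by ring
    obtain ⟨X, hX, -, hXm⟩ := exists_mx hE₂ (pg.to_le hle) hC hex
    apply hXm.ne
    have e1 := hat X (hX.trans hle) hXm
    have e2 : X ≤ centralizer (B : Set G) := hX.trans inf_le_right
    rw [le_centralizer_iff] at e1 e2 ⊢
    rw [← hs]
    exact sup_le e2 e1

end abs

section main

variable [Finite G] {S : Sylow 2 G} {L B R : Subgroup G}

/-- **`hA`** of #25243 -/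
theorem hA (ml : MLK.{u, u}) (SL : (S : Subgroup G) ≤ L) (KG : IsKGroup L)
    (el : IsElementaryAbelian 2 (zl (S : Subgroup G) L))
    (VO : zl (S : Subgroup G) L ≤ o2 (centralizer (zc (S : Subgroup G) : Set G)))
    (hs : B ⊔ R = zl (S : Subgroup G) L) (hi : B ⊓ R = ⊥) (nB : L ≤ normalizer (B : Set G))
    (nR : L ≤ normalizer (R : Set G))
    (hZ : zc (S : Subgroup G) ≤ (zc (S : Subgroup G) ⊓ B) ⊔ (zc (S : Subgroup G) ⊓ R))
    (gB : B ≤ NoFF.Basic.V (zc (S : Subgroup G) ⊓ B) (L ⊓ centralizer ((zc (S : Subgroup G) ⊓ R : Subgroup G) : Set G)))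
    (no : NoOverM (zl (S : Subgroup G) L) L)
    (hat : ∀ X ≤ (S : Subgroup G), Mx (zl (S : Subgroup G) L) X → X ≤ centralizer (R : Set G)) :
    ∀ A ∈ AA (o2 (centralizer (zc (S : Subgroup G) : Set G))), A ≤ centralizer (R : Set G) := by
  intro A hA
  set Z : Subgroup G := zc (S : Subgroup G) with hZd
  set V : Subgroup G := zl (S : Subgroup G) L with hV
  have hRV : R ≤ V := hs ▸ le_sup_right
  have hBV : B ≤ V := hs ▸ le_sup_left
  by_cases hne : A ≤ centralizer (V : Set G)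
  · exact hne.trans (centralizer_le hRV)
  have hCS : Z ≤ centralizer ((S : Subgroup G) : Set G) := fun z hz =>
    mem_centralizer_iff.2 fun s hs => (ChoiceBase.mem_zc.1 hz).2.2 s hs
  have hSC : (S : Subgroup G) ≤ centralizer (Z : Set G) := le_centralizer_iff.1 hCS
  have hOS : o2 (centralizer (Z : Set G)) ≤ (S : Subgroup G) := by
    refine MinSimple.VModule.o2_le_of_sylow S.isPGroup' ?_
    exact MinSimple.Basic.not_dvd_relIndex S hSC
  have hAS : A ≤ (S : Subgroup G) := hA.2.1.trans hOS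
  have hVc : V ≤ centralizer (V : Set G) := by
    intro x hx
    rw [mem_centralizer_iff]
    exact fun y hy => congrArg (fun t : V => (t : G)) (el.1.is_comm.comm ⟨y, hy⟩ ⟨x, hx⟩)
  have hoff := (off_of_AA el VO hA hne).offM
  refine le_cent hVc hs hi ((hAS.trans SL).trans nB) ((hAS.trans SL).trans nR) (S.isPGroup'.to_le hAS)
    hoff.toElemM hoff.le ?_ no (hAS.trans SL) fun X hX => hat X (hX.trans hAS)
  -- (NO) on `B`
  have AC : A ≤ centralizer (Z : Set G) := hAS.trans hSC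
  set H : Subgroup G := L ⊓ centralizer ((Z ⊓ R : Subgroup G) : Set G) with hH
  have SH : (S : Subgroup G) ≤ H := le_inf SL (hSC.trans (centralizer_le inf_le_left))
  have hBH : NoFF.Basic.V (Z ⊓ B) H = B := by
    refine le_antisymm (KL.FlagNO.V_le_of_norm inf_le_right (inf_le_left.trans nB)) gB
  have hX : H ⊓ centralizer ((Z ⊓ B : Subgroup G) : Set G) ≤ centralizer (Z : Set G) := by
    rintro x ⟨hx1, hx2⟩
    have h1 : Z ≤ centralizer ((zpowers x : Subgroup G) : Set G) := by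
      refine hZ.trans (sup_le ?_ ?_)
      · rw [le_centralizer_iff, zpowers_le]; exact hx2
      · rw [le_centralizer_iff, zpowers_le]; exact hx1.2
    rw [le_centralizer_iff, zpowers_le] at h1
    exact h1
  have hsqV : ∀ v ∈ V, v ^ 2 = 1 := fun v hv => el.2 v hv
  have key := KL.FlagNO.flag_no_of (T := (S : Subgroup G)) (H := H) (Z := Z ⊓ B) (B := A) ml S.isPGroup' SH
    (MinSimple.Basic.not_dvd_relIndex S SH) (hSC.trans (centralizer_le inf_le_left)) (KL.FlagNO.kgroup_le KG inf_le_left)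
    (by rw [hBH]; exact fun v hv => hsqV v (hBV hv)) hX hA.2.1 (hAS.trans SH)
    (hAS.trans (hSC.trans (centralizer_le inf_le_left))) (fun a ha => hA.1.2 a ha)
  have h1 := key.1
  rw [hBH] at h1
  have h2 := (relIndex_le_iff (V := A) (A := B) (B := centralizer (A : Set G)) (D := centralizer (B : Set G))).2 h1
  exact h2

end main

end Cfsg.Agent.Omega.NOThreeL.RRed.BestR

end

section


/-!
# NO-3L, box R, one natural block (`WideTree.WOneOne`): the case `T ≤ O₂(P)`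

`V = F²` (coordinates `e`), `T` acts on `V` as the full root group with line `l` (`Rt V T l F e`), `S ≤ N(l)`.

* `Rt.line_conj` : `g ∈ N(V)`, `gTg⁻¹ ≤ S` ⟹ `g` normalises `l`;
* `Rt.acts` : no over-offender in `S` on `V` : the elements of `S` which centralise `l` and `V / l` act as elements of `T`;
* `Rt.mulc` : `g ∈ N(V) ∩ N(l)`, `gTg⁻¹` acts as `T`, `gzg⁻¹ = z` for some `1 ≠ z ∈ l` : `g` acts on `l = F z`
  multiplicatively; `Rt.comm` : two such elements commute on `l`;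
* `Rt.not_fix` : `P ∈ P*(S)`, `T ≤ O₂(P)` : `P` fixes no `z ∈ l#`.
-/

set_option autoImplicit false
set_option linter.unusedSectionVars false

namespace Cfsg.Agent.Omega.NOThreeL.RRed.WOneB

open Subgroup Cfsg Cfsg.Agent.ZN Cfsg.Agent.Omega.MinPar
open Cfsg.Agent.Omega.FFThm (ElemM)

universe u

variable {G : Type u} [Group G]

/-- `V = F²`, `T` acts on `V` as the full root group with line `l`. -/
structure Rt (V T l : Subgroup G) (F : Type) [Field F] (e : G → Fin 2 → F) : Prop where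
  mul : ∀ v ∈ V, ∀ w ∈ V, e (v * w) = e v + e w
  inj : ∀ v ∈ V, e v = 0 → v = 1
  sur : ∀ x : Fin 2 → F, ∃ v ∈ V, e v = x
  line : ∀ v, v ∈ l ↔ v ∈ V ∧ e v 1 = 0
  root : ∀ s ∈ T, ∃ c : F, ∀ v ∈ V, e (s * v * s⁻¹) = ![e v 0 + c * e v 1, e v 1]
  syl : ∀ c : F, ∃ s ∈ T, ∀ v ∈ V, e (s * v * s⁻¹) = ![e v 0 + c * e v 1, e v 1]
  nV : T ≤ normalizer (V : Set G)

theorem cjV {V : Subgroup G} {g v : G} (hg : g ∈ normalizer (V : Set G)) (hv : v ∈ V) : g * v * g⁻¹ ∈ V :=
  (mem_normalizer_iff.1 hg v).1 hv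

theorem cjV' {V : Subgroup G} {g v : G} (hg : g ∈ normalizer (V : Set G)) (hv : v ∈ V) : g⁻¹ * v * g ∈ V := by
  have h1 := cjV (inv_mem hg) hv
  rwa [inv_inv] at h1

namespace Rt

variable {V T l : Subgroup G} {F : Type} [Field F] {e : G → Fin 2 → F} (h : Rt V T l F e)
include h

theorem e_one : e 1 = 0 := by
  have h1 := h.mul 1 (one_mem V) 1 (one_mem V)
  rw [mul_one] at h1
  exact left_eq_add.1 h1

theorem e_inv {v : G} (hv : v ∈ V) : e v⁻¹ = -e v := by
  have h1 := h.mul v hv v⁻¹ (inv_mem hv)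
  rw [mul_inv_cancel, h.e_one] at h1
  exact (neg_eq_of_add_eq_zero_right h1.symm).symm

theorem ext {v w : G} (hv : v ∈ V) (hw : w ∈ V) (he : e v = e w) : v = w := by
  have h1 := h.inj (v * w⁻¹) (mul_mem hv (inv_mem hw)) (by
    rw [h.mul v hv _ (inv_mem hw), h.e_inv hw, he, add_neg_cancel])
  exact mul_inv_eq_one.1 h1

theorem lV : l ≤ V := fun _ hx => ((h.line _).1 hx).1

theorem comm {v w : G} (hv : v ∈ V) (hw : w ∈ V) : v * w = w * v :=
  h.ext (mul_mem hv hw) (mul_mem hw hv) (by rw [h.mul v hv w hw, h.mul w hw v hv, add_comm])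

/-- `[v, T] = l` for `v ∉ l` -/
theorem reach {v x : G} (hv : v ∈ V) (hvl : v ∉ l) (hx : x ∈ l) : ∃ t ∈ T, t * v * t⁻¹ = v * x := by
  have h0 : e v 1 ≠ 0 := fun h1 => hvl ((h.line v).2 ⟨hv, h1⟩)
  obtain ⟨hxV, hx1⟩ := (h.line x).1 hx
  obtain ⟨t, ht, hc⟩ := h.syl (e x 0 / e v 1)
  refine ⟨t, ht, h.ext (cjV (h.nV ht) hv) (mul_mem hv hxV) ?_⟩
  rw [hc v hv, h.mul v hv x hxV]
  funext i
  fin_cases i
  · show e v 0 + e x 0 / e v 1 * e v 1 = e v 0 + e x 0
    rw [div_mul_cancel₀ _ h0]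
  · show e v 1 = e v 1 + e x 1
    rw [hx1, add_zero]

/-- `T` centralises `l` -/
theorem Tl {t x : G} (ht : t ∈ T) (hx : x ∈ l) : t * x * t⁻¹ = x := by
  obtain ⟨hxV, hx1⟩ := (h.line x).1 hx
  obtain ⟨c, hc⟩ := h.root t ht
  refine h.ext (cjV (h.nV ht) hxV) hxV ?_
  rw [hc x hxV]
  funext i
  fin_cases i
  · show e x 0 + c * e x 1 = e x 0
    rw [hx1, mul_zero, add_zero]
  · rfl

/-- `g ∈ N(V)`, `gTg⁻¹ ≤ S ≤ N(l)` : `g⁻¹lg ≤ l`. -/
theorem line_conj [Finite G] {S : Subgroup G} (hSl : S ≤ normalizer (l : Set G)) {g : G} (hg : g ∈ normalizer (V : Set G))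
    (hT : ∀ t ∈ T, g * t * g⁻¹ ∈ S) {v : G} (hv : v ∈ l) : g⁻¹ * v * g ∈ l := by
  by_contra hcon
  have hvV := cjV' hg (h.lV hv)
  have h1 : ∀ y ∈ l, g * y * g⁻¹ ∈ l := by
    intro y hy
    obtain ⟨t, ht, htv⟩ := h.reach hvV hcon hy
    have h2 := (mem_normalizer_iff.1 (hSl (hT t ht)) v).1 hv
    have h3 : g * t * g⁻¹ * v * (g * t * g⁻¹)⁻¹ = v * (g * y * g⁻¹) := by
      calc g * t * g⁻¹ * v * (g * t * g⁻¹)⁻¹ = g * (t * (g⁻¹ * v * g) * t⁻¹) * g⁻¹ := by group
        _ = g * (g⁻¹ * v * g * y) * g⁻¹ := by rw [htv]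
        _ = _ := by group
    rw [h3] at h2
    exact (mul_mem_cancel_left hv).1 h2
  -- `x ↦ gxg⁻¹` is a bijection of `l`
  let f : l → l := fun x => ⟨g * x * g⁻¹, h1 x x.2⟩
  have hf : Function.Injective f := by
    intro x y hxy
    have h2 : g * (x : G) * g⁻¹ = g * (y : G) * g⁻¹ := congrArg Subtype.val hxy
    exact Subtype.ext (mul_left_cancel (mul_right_cancel h2))
  obtain ⟨y, hy⟩ := (Finite.injective_iff_surjective.1 hf) ⟨v, hv⟩
  have h2 : g * (y : G) * g⁻¹ = v := congrArg Subtype.val hy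
  apply hcon
  rw [← h2]
  have h3 : g⁻¹ * (g * (y : G) * g⁻¹) * g = y := by group
  rw [h3]
  exact y.2

end Rt

/-- the elements of `S` which centralise `l` and `V / l` -/
def Hs (S V l : Subgroup G) : Subgroup G where
  carrier := {s | s ∈ S ∧ s ∈ normalizer (V : Set G) ∧ (∀ x ∈ l, s * x * s⁻¹ = x) ∧ ∀ v ∈ V, v⁻¹ * (s * v * s⁻¹) ∈ l}
  one_mem' := ⟨one_mem S, one_mem _, fun x _ => by group, fun v _ => by
    have h1 : v⁻¹ * (1 * v * 1⁻¹) = 1 := by group
    rw [h1]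
    exact one_mem l⟩
  mul_mem' := by
    rintro s t ⟨h1, h2, h3, h4⟩ ⟨k1, k2, k3, k4⟩
    refine ⟨mul_mem h1 k1, mul_mem h2 k2, fun x hx => ?_, fun v hv => ?_⟩
    · calc s * t * x * (s * t)⁻¹ = s * (t * x * t⁻¹) * s⁻¹ := by group
        _ = x := by rw [k3 x hx, h3 x hx]
    · have e1 : v⁻¹ * (s * t * v * (s * t)⁻¹) =
          v⁻¹ * (s * v * s⁻¹) * (s * (v⁻¹ * (t * v * t⁻¹)) * s⁻¹) := by group
      rw [e1]
      refine mul_mem (h4 v hv) ?_
      rw [h3 _ (k4 v hv)]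
      exact k4 v hv
  inv_mem' := by
    rintro s ⟨h1, h2, h3, h4⟩
    have h5 : ∀ x ∈ l, s⁻¹ * x * s⁻¹⁻¹ = x := by
      intro x hx
      calc s⁻¹ * x * s⁻¹⁻¹ = s⁻¹ * (s * x * s⁻¹) * s := by rw [h3 x hx]; group
        _ = x := by group
    refine ⟨inv_mem h1, inv_mem h2, h5, fun v hv => ?_⟩
    have h6 := h4 (s⁻¹ * v * s) (cjV' h2 hv)
    have e1 : v⁻¹ * (s⁻¹ * v * s⁻¹⁻¹) = ((s⁻¹ * v * s)⁻¹ * (s * (s⁻¹ * v * s) * s⁻¹))⁻¹ := by group
    rw [e1]
    exact inv_mem h6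


/-! ### The elements of `Hs` act as elements of `T` -/

section acts

variable {V T l : Subgroup G} {F : Type} [Field F] {e : G → Fin 2 → F} (h : Rt V T l F e)
include h

theorem Rt.T_le_Hs {S : Subgroup G} (hTS : T ≤ S) : T ≤ Hs S V l := by
  intro t ht
  refine ⟨hTS ht, h.nV ht, fun x hx => h.Tl ht hx, fun v hv => ?_⟩
  obtain ⟨c, hc⟩ := h.root t ht
  have h1 := cjV (h.nV ht) hv
  refine (h.line _).2 ⟨mul_mem (inv_mem hv) h1, ?_⟩
  rw [h.mul _ (inv_mem hv) _ h1, Pi.add_apply, h.e_inv hv, Pi.neg_apply, hc v hv]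
  show -e v 1 + e v 1 = 0
  exact neg_add_cancel _

theorem Rt.sq_one [CharP F 2] {x : G} (hx : x ∈ V) : x * x = 1 :=
  h.inj _ (mul_mem hx hx) (by rw [h.mul x hx x hx]; exact CharTwo.add_self_eq_zero _)

theorem Rt.elem [CharP F 2] {S : Subgroup G} : ElemM V (Hs S V l) := by
  have key : ∀ s ∈ Hs S V l, ∀ v ∈ V, ∃ x ∈ l, s * v * s⁻¹ = v * x := fun s hs v hv =>
    ⟨v⁻¹ * (s * v * s⁻¹), hs.2.2.2 v hv, by group⟩
  refine ⟨fun a ha => mem_centralizer_iff.2 fun v hv => ?_, fun a ha b hb => mem_centralizer_iff.2 fun v hv => ?_⟩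
  · obtain ⟨x, hx, hax⟩ := key a ha v hv
    have h1 : a ^ 2 * v * (a ^ 2)⁻¹ = v := by
      calc a ^ 2 * v * (a ^ 2)⁻¹ = a * (a * v * a⁻¹) * a⁻¹ := by rw [sq]; group
        _ = a * (v * x) * a⁻¹ := by rw [hax]
        _ = a * v * a⁻¹ * (a * x * a⁻¹) := by group
        _ = v * (x * x) := by rw [hax, ha.2.2.1 x hx, mul_assoc]
        _ = v := by rw [h.sq_one (h.lV hx), mul_one]
    exact (mul_inv_eq_iff_eq_mul.1 h1).symm
  · have hab : ∀ w ∈ V, a * (b * w * b⁻¹) * a⁻¹ = b * (a * w * a⁻¹) * b⁻¹ := by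
      intro w hw
      obtain ⟨x, hx, hax⟩ := key a ha w hw
      obtain ⟨y, hy, hby⟩ := key b hb w hw
      calc a * (b * w * b⁻¹) * a⁻¹ = a * w * a⁻¹ * (a * y * a⁻¹) := by rw [hby]; group
        _ = w * (x * y) := by rw [hax, ha.2.2.1 y hy, mul_assoc]
        _ = w * (y * x) := by rw [h.comm (h.lV hx) (h.lV hy)]
        _ = b * w * b⁻¹ * (b * x * b⁻¹) := by rw [hby, hb.2.2.1 x hx, mul_assoc]
        _ = _ := by rw [hax]; group
    have hw : a⁻¹ * (b⁻¹ * v * b) * a ∈ V := cjV' ha.2.1 (cjV' hb.2.1 hv)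
    have h1 : a * b * a⁻¹ * b⁻¹ * v * (a * b * a⁻¹ * b⁻¹)⁻¹ = v := by
      calc a * b * a⁻¹ * b⁻¹ * v * (a * b * a⁻¹ * b⁻¹)⁻¹ =
          a * (b * (a⁻¹ * (b⁻¹ * v * b) * a) * b⁻¹) * a⁻¹ := by group
        _ = b * (a * (a⁻¹ * (b⁻¹ * v * b) * a) * a⁻¹) * b⁻¹ := hab _ hw
        _ = v := by group
    exact (mul_inv_eq_iff_eq_mul.1 h1).symm

theorem Rt.card_V : Nat.card V = Nat.card l * Nat.card F :=
  card_map h.lV (fun v => e v 1) (fun v hv w hw => by rw [h.mul v hv w hw]; rfl)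
    (fun c => by
      obtain ⟨v, hv, hc⟩ := h.sur ![0, c]
      exact ⟨v, hv, by rw [hc]; rfl⟩)
    (fun v hv => ⟨fun h1 => (h.line v).2 ⟨hv, h1⟩, fun h1 => ((h.line v).1 h1).2⟩)

/-- **`S` acts on `V`, centralising `l` and `V / l`, as `T`** (no over-offender in `S`). -/
theorem Rt.acts [Finite G] [Finite F] [CharP F 2] {S : Subgroup G}
    (hno : ∀ A ≤ S, ElemM V A → Nat.card A * Nat.card ↥(V ⊓ centralizer (A : Set G)) ≤
      Nat.card V * Nat.card ↥(A ⊓ centralizer (V : Set G)))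
    (hTS : T ≤ S) {s : G} (hs : s ∈ Hs S V l) : ∃ t ∈ T, ∀ v ∈ V, s * v * s⁻¹ = t * v * t⁻¹ := by
  classical
  by_contra hcon
  push Not at hcon
  set H := Hs S V l with hH
  have hHS : H ≤ S := fun x hx => hx.1
  have h1 := hno H hHS h.elem
  have h2 : l ≤ V ⊓ centralizer (H : Set G) := fun x hx => ⟨h.lV hx, mem_centralizer_iff.2 fun a ha =>
    mul_inv_eq_iff_eq_mul.1 (ha.2.2.1 x hx)⟩
  have h3 := card_le_of_le h2
  have pl : 0 < Nat.card l := Nat.card_pos
  have h4 : Nat.card H ≤ Nat.card F * Nat.card ↥(H ⊓ centralizer (V : Set G)) := by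
    refine Nat.le_of_mul_le_mul_right (c := Nat.card l) ?_ pl
    calc Nat.card H * Nat.card l ≤ Nat.card H * Nat.card ↥(V ⊓ centralizer (H : Set G)) := Nat.mul_le_mul_left _ h3
      _ ≤ Nat.card V * Nat.card ↥(H ⊓ centralizer (V : Set G)) := h1
      _ = _ := by rw [h.card_V]; ring
  choose t ht hc using h.syl
  have hTH : T ≤ H := h.T_le_Hs hTS
  -- `H ⊇ (F ∪ {∞}) × C_H(V)`
  let φ : Option F × ↥(H ⊓ centralizer (V : Set G)) → H := fun p =>
    match p with
    | (none, k) => ⟨s * k, mul_mem hs k.2.1⟩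
    | (some c, k) => ⟨t c * k, mul_mem (hTH (ht c)) k.2.1⟩
  have act : ∀ a b : G, ∀ k ∈ centralizer (V : Set G), ∀ k' ∈ centralizer (V : Set G), a * k = b * k' →
      ∀ v ∈ V, a * v * a⁻¹ = b * v * b⁻¹ := by
    intro a b k hk k' hk' hab v hv
    have e1 : k * v * k⁻¹ = v := by rw [← mem_centralizer_iff.1 hk v hv]; group
    have e2 : k' * v * k'⁻¹ = v := by rw [← mem_centralizer_iff.1 hk' v hv]; group
    calc a * v * a⁻¹ = a * (k * v * k⁻¹) * a⁻¹ := by rw [e1]
      _ = (a * k) * v * (a * k)⁻¹ := by group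
      _ = (b * k') * v * (b * k')⁻¹ := by rw [hab]
      _ = b * (k' * v * k'⁻¹) * b⁻¹ := by group
      _ = b * v * b⁻¹ := by rw [e2]
  have hφ : Function.Injective φ := by
    rintro ⟨a | a, k, hk⟩ ⟨b | b, k', hk'⟩ hab
    · have h5 : s * k = s * k' := congrArg Subtype.val hab
      have h6 : k = k' := mul_left_cancel h5
      subst h6
      rfl
    · exfalso
      have h5 : s * k = t b * k' := congrArg Subtype.val hab
      obtain ⟨v, hv, hne⟩ := hcon (t b) (ht b)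
      exact hne (act _ _ k hk.2 k' hk'.2 h5 v hv)
    · exfalso
      have h5 : t a * k = s * k' := congrArg Subtype.val hab
      obtain ⟨v, hv, hne⟩ := hcon (t a) (ht a)
      exact hne (act _ _ k hk.2 k' hk'.2 h5 v hv).symm
    · have h5 : t a * k = t b * k' := congrArg Subtype.val hab
      obtain ⟨w, hw, hw1⟩ := h.sur ![0, 1]
      have h6 := act _ _ k hk.2 k' hk'.2 h5 w hw
      have h7 := congrFun (congrArg e h6) 0
      rw [hc a w hw, hc b w hw, hw1] at h7
      have h8 : a = b := by simpa using h7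
      subst h8
      have h9 : k = k' := mul_left_cancel h5
      subst h9
      rfl
  have h5 := Nat.card_le_card_of_injective φ hφ
  rw [Nat.card_prod, Finite.card_option] at h5
  have pk : 0 < Nat.card ↥(H ⊓ centralizer (V : Set G)) := Nat.card_pos
  have h6 := h5.trans h4
  have h7 := Nat.le_of_mul_le_mul_right h6 pk
  omega

end acts


/-! ### The action on `l` -/

/-- multiplicative maps of a finite field commute -/
theorem mulmap_comm {F : Type} [Field F] [Finite F] {f g : F → F} (hf1 : f 1 = 1) (hfm : ∀ x y, f (x * y) = f x * f y)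
    (hf0 : f 0 = 0) (hg1 : g 1 = 1) (hgm : ∀ x y, g (x * y) = g x * g y) (hg0 : g 0 = 0) (x : F) :
    f (g x) = g (f x) := by
  by_cases hx : x = 0
  · rw [hx, hg0, hf0, hg0]
  let f' : F →* F := { toFun := f, map_one' := hf1, map_mul' := hfm }
  let g' : F →* F := { toFun := g, map_one' := hg1, map_mul' := hgm }
  obtain ⟨m, hm⟩ := (Units.map f').map_cyclic
  obtain ⟨n, hn⟩ := (Units.map g').map_cyclic
  have h1 : Units.map f' (Units.map g' (Units.mk0 x hx)) = Units.map g' (Units.map f' (Units.mk0 x hx)) := by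
    rw [hm, hn, hm (Units.mk0 x hx), hn, ← zpow_mul, ← zpow_mul, mul_comm]
  exact congrArg Units.val h1

/-- `g` normalises `V`, `l` and the action of `T`, and fixes `z`. -/
structure Gd (V T l : Subgroup G) (z g : G) : Prop where
  nV : g ∈ normalizer (V : Set G)
  nl : ∀ x ∈ l, g * x * g⁻¹ ∈ l
  nT : ∀ t ∈ T, ∃ t' ∈ T, ∀ v ∈ V, g * t * g⁻¹ * v * (g * t * g⁻¹)⁻¹ = t' * v * t'⁻¹
  fz : g * z * g⁻¹ = z

section line

variable {V T l : Subgroup G} {F : Type} [Field F] {e : G → Fin 2 → F} (h : Rt V T l F e)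

/-- the element with coordinates `x` -/
noncomputable def Rt.vec (h : Rt V T l F e) (x : Fin 2 → F) : G := (h.sur x).choose

include h

theorem Rt.vec_mem (x : Fin 2 → F) : h.vec x ∈ V := (h.sur x).choose_spec.1

theorem Rt.e_vec (x : Fin 2 → F) : e (h.vec x) = x := (h.sur x).choose_spec.2

theorem Rt.vec_line (x : F) : h.vec ![x, 0] ∈ l := (h.line _).2 ⟨h.vec_mem _, by rw [h.e_vec]; rfl⟩

theorem Rt.eq_vec {x : G} (hx : x ∈ l) : x = h.vec ![e x 0, 0] := by
  refine h.ext (h.lV hx) (h.vec_mem _) ?_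
  rw [h.e_vec]
  funext i
  fin_cases i
  · rfl
  · exact ((h.line x).1 hx).2

theorem Gd.key {z g : G} (hg : Gd V T l z g) (x : F) : ∃ b : F, ∀ y : F,
    e (g * h.vec ![x * y, 0] * g⁻¹) 0 = b * e (g * h.vec ![0, y] * g⁻¹) 1 := by
  obtain ⟨t, ht, hc⟩ := h.syl x
  obtain ⟨t', ht', hact⟩ := hg.nT t ht
  obtain ⟨b, hb⟩ := h.root t' ht'
  refine ⟨b, fun y => ?_⟩
  set w := h.vec ![0, y] with hw
  set u := h.vec ![x * y, 0] with hu
  have hwV : w ∈ V := h.vec_mem _
  have huV : u ∈ V := h.vec_mem _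
  have h1 : t * w * t⁻¹ = w * u := by
    refine h.ext (cjV (h.nV ht) hwV) (mul_mem hwV huV) ?_
    rw [hc w hwV, h.mul w hwV u huV, hw, hu, h.e_vec, h.e_vec]
    funext i
    fin_cases i <;> simp
  have h2 : g * t * g⁻¹ * (g * w * g⁻¹) * (g * t * g⁻¹)⁻¹ = g * w * g⁻¹ * (g * u * g⁻¹) := by
    calc g * t * g⁻¹ * (g * w * g⁻¹) * (g * t * g⁻¹)⁻¹ = g * (t * w * t⁻¹) * g⁻¹ := by group
      _ = _ := by rw [h1]; group
  have hgw := cjV hg.nV hwV
  have hgu := cjV hg.nV huV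
  rw [hact _ hgw] at h2
  have h3 := congrFun (congrArg e h2) 0
  rw [hb _ hgw, h.mul _ hgw _ hgu] at h3
  have h4 : e (g * w * g⁻¹) 0 + b * e (g * w * g⁻¹) 1 = e (g * w * g⁻¹) 0 + e (g * u * g⁻¹) 0 := h3
  exact (add_left_cancel h4).symm

/-- the multiplicative map of `g` -/
noncomputable def Gd.s (h : Rt V T l F e) (z g : G) (x : F) : F :=
  e (g * h.vec ![e z 0 * x, 0] * g⁻¹) 0 / e z 0

theorem Gd.s_one {z g : G} (hz : z ∈ l) (hz1 : z ≠ 1) (hg : Gd V T l z g) : Gd.s h z g 1 = 1 := by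
  have h0 : e z 0 ≠ 0 := fun h1 => hz1 (h.inj z (h.lV hz) (by
    funext i
    fin_cases i
    · exact h1
    · exact ((h.line z).1 hz).2))
  unfold Gd.s
  rw [mul_one, ← h.eq_vec hz, hg.fz, div_self h0]

theorem Gd.s_zero {z g : G} : Gd.s h z g 0 = 0 := by
  unfold Gd.s
  have h1 : h.vec ![e z 0 * 0, 0] = 1 := h.inj _ (h.vec_mem _) (by
    rw [h.e_vec, mul_zero]
    funext i
    fin_cases i <;> rfl)
  have h2 : g * 1 * g⁻¹ = 1 := by group
  rw [h1, h2, h.e_one, Pi.zero_apply, zero_div]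

theorem Gd.s_mul {z g : G} (hz : z ∈ l) (hz1 : z ≠ 1) (hg : Gd V T l z g) (x y : F) :
    Gd.s h z g (x * y) = Gd.s h z g x * Gd.s h z g y := by
  have h0 : e z 0 ≠ 0 := fun h1 => hz1 (h.inj z (h.lV hz) (by
    funext i
    fin_cases i
    · exact h1
    · exact ((h.line z).1 hz).2))
  obtain ⟨b1, hb1⟩ := Gd.key h hg (e z 0 * x)
  obtain ⟨b0, hb0⟩ := Gd.key h hg (e z 0)
  have e1 := hb1 y
  have e2 := hb1 1
  have e3 := hb0 y
  have e4 := hb0 1
  rw [mul_one] at e2 e4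
  rw [← h.eq_vec hz, hg.fz] at e4
  unfold Gd.s
  rw [← mul_assoc, e1, e2, e3]
  field_simp
  rw [e4]
  ring

theorem Gd.act {z g : G} (hz : z ∈ l) (hz1 : z ≠ 1) (hg : Gd V T l z g) (x : F) :
    g * h.vec ![e z 0 * x, 0] * g⁻¹ = h.vec ![e z 0 * Gd.s h z g x, 0] := by
  have h0 : e z 0 ≠ 0 := fun h1 => hz1 (h.inj z (h.lV hz) (by
    funext i
    fin_cases i
    · exact h1
    · exact ((h.line z).1 hz).2))
  rw [h.eq_vec (hg.nl _ (h.vec_line _))]
  congr 2
  unfold Gd.s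
  rw [mul_div_cancel₀ _ h0]

/-- two such elements commute on `l` -/
theorem Gd.comm [Finite F] {z g g' : G} (hz : z ∈ l) (hz1 : z ≠ 1) (hg : Gd V T l z g) (hg' : Gd V T l z g') {x : G}
    (hx : x ∈ l) : g * (g' * x * g'⁻¹) * g⁻¹ = g' * (g * x * g⁻¹) * g'⁻¹ := by
  have h0 : e z 0 ≠ 0 := fun h1 => hz1 (h.inj z (h.lV hz) (by
    funext i
    fin_cases i
    · exact h1
    · exact ((h.line z).1 hz).2))
  have e1 : x = h.vec ![e z 0 * (e x 0 / e z 0), 0] := by
    rw [mul_div_cancel₀ _ h0]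
    exact h.eq_vec hx
  rw [e1, Gd.act h hz hz1 hg', Gd.act h hz hz1 hg, Gd.act h hz hz1 hg, Gd.act h hz hz1 hg',
    mulmap_comm (Gd.s_one h hz hz1 hg) (Gd.s_mul h hz hz1 hg) (Gd.s_zero h) (Gd.s_one h hz hz1 hg')
      (Gd.s_mul h hz hz1 hg') (Gd.s_zero h)]

end line

/-- the elements of `P` which act on `l` as an element of `S` -/
def Ns (S P l : Subgroup G) (hSl : S ≤ normalizer (l : Set G)) : Subgroup G where
  carrier := {g | g ∈ P ∧ ∃ s ∈ S, ∀ x ∈ l, g * x * g⁻¹ = s * x * s⁻¹}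
  one_mem' := ⟨one_mem P, 1, one_mem S, fun _ _ => rfl⟩
  mul_mem' := by
    rintro a b ⟨ha, s, hs, h1⟩ ⟨hb, t, ht, h2⟩
    refine ⟨mul_mem ha hb, s * t, mul_mem hs ht, fun x hx => ?_⟩
    calc a * b * x * (a * b)⁻¹ = a * (b * x * b⁻¹) * a⁻¹ := by group
      _ = a * (t * x * t⁻¹) * a⁻¹ := by rw [h2 x hx]
      _ = s * (t * x * t⁻¹) * s⁻¹ := h1 _ (cjV (hSl ht) hx)
      _ = _ := by group
  inv_mem' := by
    rintro a ⟨ha, s, hs, h1⟩
    refine ⟨inv_mem ha, s⁻¹, inv_mem hs, fun x hx => ?_⟩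
    have h2 := h1 (s⁻¹ * x * s) (cjV' (hSl hs) hx)
    have h3 : s * (s⁻¹ * x * s) * s⁻¹ = x := by group
    rw [h3] at h2
    calc a⁻¹ * x * a⁻¹⁻¹ = a⁻¹ * (a * (s⁻¹ * x * s) * a⁻¹) * a := by rw [h2]; group
      _ = _ := by group

/-- **`P ∈ P*(S)`, `T ≤ O₂(P)`: `P` fixes no `z ∈ l#`.** -/
theorem Rt.not_fix [Finite G] {S : Sylow 2 G} {P V T l : Subgroup G} {F : Type} [Field F] [Finite F] [CharP F 2]
    {e : G → Fin 2 → F} (h : Rt V T l F e) (hP : IsParS (S : Subgroup G) P) (hPV : P ≤ normalizer (V : Set G))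
    (hno : ∀ A ≤ (S : Subgroup G), ElemM V A → Nat.card A * Nat.card ↥(V ⊓ centralizer (A : Set G)) ≤
      Nat.card V * Nat.card ↥(A ⊓ centralizer (V : Set G)))
    (hSl : (S : Subgroup G) ≤ normalizer (l : Set G)) (hTP : T ≤ o2 P) (hZl : zc (S : Subgroup G) ≤ l) {z : G}
    (hz : z ∈ l) (hzP : z ∈ centralizer (P : Set G)) : z = 1 := by
  by_contra hz1
  have hoS : o2 P ≤ (S : Subgroup G) := hP.isLoc.o2_le S
  have hTS : T ≤ (S : Subgroup G) := hTP.trans hoS
  have hpT : ∀ p ∈ P, ∀ t ∈ T, p * t * p⁻¹ ∈ (S : Subgroup G) := fun p hp t ht =>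
    hoS ((mem_normalizer_iff.1 (le_normalizer_o2 P hp) t).1 (hTP ht))
  have hl1 : ∀ p ∈ P, ∀ x ∈ l, p⁻¹ * x * p ∈ l := fun p hp x hx => h.line_conj hSl (hPV hp) (hpT p hp) hx
  have hl2 : ∀ p ∈ P, ∀ x ∈ l, p * x * p⁻¹ ∈ l := fun p hp x hx => by
    have h1 := hl1 p⁻¹ (inv_mem hp) x hx
    rwa [inv_inv] at h1
  -- the elements of `P` are good
  have hgd : ∀ p ∈ P, Gd V T l z p := fun p hp =>
    { nV := hPV hp
      nl := hl2 p hp
      nT := fun t ht => by
        refine h.acts hno hTS (s := p * t * p⁻¹) ⟨hpT p hp t ht, mul_mem (mul_mem (hPV hp) (h.nV ht)) (inv_mem (hPV hp)),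
          fun x hx => ?_, fun v hv => ?_⟩
        · calc p * t * p⁻¹ * x * (p * t * p⁻¹)⁻¹ = p * (t * (p⁻¹ * x * p) * t⁻¹) * p⁻¹ := by group
            _ = p * (p⁻¹ * x * p) * p⁻¹ := by rw [h.Tl ht (hl1 p hp x hx)]
            _ = x := by group
        · have h1 := (h.T_le_Hs hTS ht).2.2.2 (p⁻¹ * v * p) (cjV' (hPV hp) hv)
          have h2 := hl2 p hp _ h1
          have h3 : p * ((p⁻¹ * v * p)⁻¹ * (t * (p⁻¹ * v * p) * t⁻¹)) * p⁻¹ =
              v⁻¹ * (p * t * p⁻¹ * v * (p * t * p⁻¹)⁻¹) := by group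
          rwa [h3] at h2
      fz := by
        rw [mem_centralizer_iff.1 hzP p hp]
        group }
  set N := Ns (S : Subgroup G) P l hSl with hN
  have hSN : (S : Subgroup G) ≤ N := fun s hs => ⟨hP.le hs, s, hs, fun _ _ => rfl⟩
  have hNP : N ≤ P := fun g hg => hg.1
  have hPN1 : ∀ p ∈ P, ∀ g ∈ N, p * g * p⁻¹ ∈ N := by
    rintro p hp g ⟨hgP, s, hs, h1⟩
    refine ⟨mul_mem (mul_mem hp hgP) (inv_mem hp), s, hs, fun x hx => ?_⟩
    calc p * g * p⁻¹ * x * (p * g * p⁻¹)⁻¹ = p * (g * (p⁻¹ * x * p) * g⁻¹) * p⁻¹ := by group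
      _ = g * (p * (p⁻¹ * x * p) * p⁻¹) * g⁻¹ := Gd.comm h hz hz1 (hgd p hp) (hgd g hgP) (hl1 p hp x hx)
      _ = g * x * g⁻¹ := by group
      _ = _ := h1 x hx
  have hPN : P ≤ normalizer (N : Set G) := by
    intro p hp
    rw [mem_normalizer_iff]
    intro g
    refine ⟨hPN1 p hp g, fun hg => ?_⟩
    have h1 := hPN1 p⁻¹ (inv_mem hp) _ hg
    have h2 : p⁻¹ * (p * g * p⁻¹) * p⁻¹⁻¹ = g := by group
    rwa [h2] at h1
  rcases hP.toIsMinPar.sup_eq_or_inf_le S.isPGroup' (MinSimple.Basic.not_dvd_relIndex S hP.le) hNP hPN with h1 | h1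
  · rw [sup_eq_left.2 hSN] at h1
    apply hP.not_zc
    refine le_trans (fun p hp => mem_centralizer_iff.2 fun y hy => ?_) (centralizer_le_normalizer _)
    have hpN : p ∈ N := by rw [h1]; exact hp
    obtain ⟨-, s, hs, h2⟩ := hpN
    have h3 := h2 y (hZl hy)
    have h4 : s * y * s⁻¹ = y := by
      rw [(MinSimple.VModule.mem_zc.1 hy).2.1 s hs]
      group
    rw [h4] at h3
    exact (mul_inv_eq_iff_eq_mul.1 h3).symm
  · rw [inf_eq_left.2 hSN] at h1
    have h2 : (S : Subgroup G) = o2 P := le_antisymm h1 hoS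
    apply hP.toIsMinPar.not_le
    rw [h2]
    exact le_normalizer_o2 P

end Cfsg.Agent.Omega.NOThreeL.RRed.WOneB

end

private theorem dce_7a3b8d9d9af1 : _root_.True := by
  try have : _root_.True := by simp only [_root_.Cfsg.Agent.Omega.NOThreeL.RRed.WOneB.Rt.vec.congr_simp]
  exact _root_.True.intro
end

-- part: Mrg/Omega/NOThreeL/RRed/ClassInst
section
set_option linter.all false
open scoped Cfsg.Agent.FastGrp


/-!
# NO-3L, box R: the instance of the class module theorem (#24537, helper241), text: helper732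

`L` 2-local over `S`, generated by the members of `P*(S)` in `L`; `V = zl S L`; `EE S L` : the minimal exact `A ≤ S`.

* `Mv S L` : every `z ∈ Z#` is moved by some `P` with `GOne S L P A`;
* **`sys_of`** : `Sys S L V (EE S L)`;
* `GOne.mv'` : `A` moves every `P`-invariant `U ∋ z`, `z ∈ Z` moved by `P`;
* `gen_le` : `W_A = ⟨(W_A ∩ Z)^E⟩` for every `E ⊴ L` which contains all `B ∈ EE` with `W_B = W_A`;
* `Mx.conj`, `norm_WW` : `N_G(S) ∩ N_G(L)` permutes the classes;
* **`spl_of`** : box R, exactly two classes `W_A ≠ W_B`: 692's `InstZ.Spl`.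
-/

set_option autoImplicit false
set_option linter.unusedSectionVars false

namespace Cfsg.Agent.Omega.NOThreeL.RRed

open Subgroup Pointwise Cfsg Cfsg.Agent.ZN Cfsg.Agent.Omega.MinPar Cfsg.Agent.Omega.Frame
open Cfsg.Agent.Omega.FrameNOFF
open Cfsg.Agent.Omega.FFThm (ElemM OffM NoOverM ConclM)
open Cfsg.Agent.ZN.ChoiceBase (cj)
open Cfsg.Agent.MinSimple.VModule (oddGen zc_le_zl)
open scoped commutatorElement

universe u

variable {G : Type u} [Group G]

section fin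

variable [Finite G] {S : Sylow 2 G} {L P A : Subgroup G}

/-- `z ∈ Z` moved by `P`, `z ∈ U` normalised by `P`: `A` moves `U`. -/
theorem GOne.mv' (h : GOne S L P A) {U : Subgroup G} (hPU : P ≤ normalizer (U : Set G)) {z : G}
    (hz : z ∈ zc (S : Subgroup G)) (hzU : z ∈ U) (hzP : ¬ P ≤ centralizer ({z} : Set G)) :
    ¬ A ≤ centralizer (U : Set G) := by
  intro hA
  have hn : P ≤ normalizer (zl (S : Subgroup G) P : Set G) := MinSimple.VModule.le_normalizer_zl _ _
  have hPW : P ≤ normalizer ((U ⊓ zl (S : Subgroup G) P : Subgroup G) : Set G) :=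
    (le_inf hPU hn).trans (Subgroup.inf_normalizer_le_normalizer_inf)
  have hWD : ¬ U ⊓ zl (S : Subgroup G) P ≤ FrameFF.cv (S : Subgroup G) P := fun h1 =>
    not_mem_cv h.SP hz hzP (h1 ⟨hzU, zc_le_zl _ _ hz⟩)
  have h1 := par_cover h.par h.concl h.AS h.offP inf_le_right hPW hWD
  apply h.offP.ne
  rw [le_centralizer_iff]
  refine h1.trans (sup_le ?_ inf_le_right)
  exact inf_le_left.trans (le_centralizer_iff.1 hA)

/-- `A ≰ O₂(P)` -/
theorem GOne.not_le_o2 (hc : IsCharacteristicTwoType G) (h : GOne S L P A) : ¬ A ≤ o2 P := by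
  intro h1
  apply h.offP.ne
  refine h1.trans ?_
  rw [← h.par.inf_centralizer S hc]
  exact inf_le_right

end fin

namespace CI

/-- the minimal exact offenders in `S` -/
def EE [Finite G] (S : Sylow 2 G) (L : Subgroup G) : Set (Subgroup G) :=
  {A | A ≤ (S : Subgroup G) ∧ Mx (zl (S : Subgroup G) L) A}

/-- every `z ∈ Z#` is moved by some `P` with `GOne S L P A` -/
def Mv [Finite G] (S : Sylow 2 G) (L : Subgroup G) : Prop :=
  ∀ z ∈ zc (S : Subgroup G), z ≠ 1 → ∃ P A, GOne S L P A ∧ ¬ P ≤ centralizer ({z} : Set G)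

variable [Finite G] {S : Sylow 2 G} {L : Subgroup G}

/-- the same with a minimal exact `A` -/
theorem Mv.mx (hc : IsCharacteristicTwoType G) (h : Mv S L) {z : G} (hz : z ∈ zc (S : Subgroup G)) (hz1 : z ≠ 1) :
    ∃ P, ∃ A ∈ EE S L, GOne S L P A ∧ ¬ P ≤ centralizer ({z} : Set G) := by
  obtain ⟨P, A, hg, hP⟩ := h z hz hz1
  obtain ⟨B, hBA, -, hB, hgB⟩ := hg.exists_mx hc
  exact ⟨P, B, ⟨hBA.trans hg.AS, hB⟩, hgB, hP⟩

/-- **the base** -/
theorem bs_of (hc : IsCharacteristicTwoType G) (hL : IsLoc (S : Subgroup G) L) :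
    CM.Bs (S : Subgroup G) L (zl (S : Subgroup G) L) := by
  have hE := FFThm.elem_zl hc S hL
  refine
    { two := S.isPGroup'
      SM := hL.le
      odd := ?_
      MV := MinSimple.VModule.le_normalizer_zl _ _
      comm := fun x hx => mem_centralizer_iff.2 fun y hy =>
        congrArg Subtype.val (hE.1.is_comm.comm ⟨y, hy⟩ ⟨x, hx⟩)
      sq := fun x hx => hE.2 x hx
      gen := ?_ }
  · rw [← Nat.not_even_iff_odd, even_iff_two_dvd]
    exact MinSimple.Basic.not_dvd_relIndex S hL.le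
  · have hZ : zc (S : Subgroup G) ≤ zl (S : Subgroup G) L ⊓ centralizer ((S : Subgroup G) : Set G) := fun z hz =>
      ⟨zc_le_zl _ _ hz, mem_centralizer_iff.2 fun s hs => (mem_zc.1 hz).2.1 s hs⟩
    exact CM.cl_mono L hZ

/-- `V ∩ C(S) = Z` -/
theorem mem_zc_of (hc : IsCharacteristicTwoType G) (hL : IsLoc (S : Subgroup G) L) {z : G}
    (hz : z ∈ zl (S : Subgroup G) L) (hzS : z ∈ centralizer ((S : Subgroup G) : Set G)) : z ∈ zc (S : Subgroup G) := by
  have hVS : zl (S : Subgroup G) L ≤ (S : Subgroup G) := (hL.zl_le S hc).trans ((MinSimple.VModule.zc_le _).trans (hL.o2_le S))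
  exact mem_zc.2 ⟨hVS hz, fun t ht => mem_centralizer_iff.1 hzS t ht, (bs_of hc hL).sq z hz⟩

/-- **the system** -/
theorem sys_of (hc : IsCharacteristicTwoType G) (hL : IsLoc (S : Subgroup G) L)
    (hgen : L ≤ sSup {P | IsParS (S : Subgroup G) P ∧ P ≤ L}) (hmv : Mv S L) :
    CM.Sys (S : Subgroup G) L (zl (S : Subgroup G) L) (EE S L) where
  toBs := bs_of hc hL
  le A hA := hA.1
  dich A hA U hU hn := by
    rcases hA.2.dich hc hL hgen (hA.1.trans hL.le) hU hn with h1 | h1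
    · exact Or.inl h1
    · exact Or.inr h1.le
  mv z hz hzS hz1 := by
    obtain ⟨P, A, hA, hg, hP⟩ := hmv.mx hc (mem_zc_of hc hL hz hzS) hz1
    exact ⟨A, hA, fun h1 => hg.mv (mem_zc_of hc hL hz hzS) hP (le_centralizer_iff.1 h1)⟩

/-! ### Generation over a normal subgroup -/

theorem le_E_sup (hc : IsCharacteristicTwoType G) {P B E : Subgroup G} (hg : GOne S L P B)
    (hE : L ≤ normalizer (E : Set G)) (hBE : B ≤ E) : P ≤ E ⊔ (S : Subgroup G) := by
  conv_lhs => rw [← NoFF.LinesPlug.oddGen_sup hg.SP (MinSimple.Basic.not_dvd_relIndex S hg.SP)]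
  refine sup_le_sup_right ((odd_le_ncl hg.par hg.AS (hg.not_le_o2 hc)).trans ?_) _
  exact CM.cl_le hBE (hg.PL.trans hE)

/-- **`W_A = ⟨(W_A ∩ Z)^E⟩`**, `E ⊴ L` contains all `B ∈ EE` with `W_B = W_A`. -/
theorem gen_le (hc : IsCharacteristicTwoType G) (hL : IsLoc (S : Subgroup G) L)
    (h : CM.Sys (S : Subgroup G) L (zl (S : Subgroup G) L) (EE S L)) (hmv : Mv S L) {A : Subgroup G}
    (hA : A ∈ EE S L) {E : Subgroup G} (hEL : E ≤ L) (hE : L ≤ normalizer (E : Set G))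
    (hall : ∀ B ∈ EE S L, CM.WW (zl (S : Subgroup G) L) L B = CM.WW (zl (S : Subgroup G) L) L A → B ≤ E) :
    CM.WW (zl (S : Subgroup G) L) L A ≤
      NoFF.Basic.V (CM.WW (zl (S : Subgroup G) L) L A ⊓ zc (S : Subgroup G)) E := by
  classical
  set V : Subgroup G := zl (S : Subgroup G) L with hV
  set W : Subgroup G := CM.WW V L A with hW
  have hWV : W ≤ V := h.WV hA
  have hLW : L ≤ normalizer (W : Set G) := h.nW A
  set U : Subgroup G := NoFF.Basic.V (W ⊓ zc (S : Subgroup G)) E with hU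
  have hUW : U ≤ W := CM.cl_le inf_le_left (hEL.trans hLW)
  have hUV : U ≤ V := hUW.trans hWV
  have hZU : W ⊓ zc (S : Subgroup G) ≤ U := CM.le_cl _ _
  have hEU : E ≤ normalizer (U : Set G) := CM.norm_cl _ _
  have hSz : (S : Subgroup G) ≤ normalizer (zc (S : Subgroup G) : Set G) :=
    (le_CZ S).trans (centralizer_le_normalizer _)
  have hSU : (S : Subgroup G) ≤ normalizer (U : Set G) :=
    KL.TwoZ.norm_V (CM.norm_inf (h.SM.trans hLW) hSz) (h.SM.trans hE)
  -- good members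
  have good : ∀ z ∈ W, z ∈ zc (S : Subgroup G) → z ≠ 1 → ∃ P, ∃ B ∈ EE S L, GOne S L P B ∧
      ¬ P ≤ centralizer ({z} : Set G) ∧ B ≤ E := by
    intro z hzW hz hz1
    obtain ⟨P, B, hB, hg, hP⟩ := hmv.mx hc hz hz1
    refine ⟨P, B, hB, hg, hP, hall B hB ?_⟩
    by_contra hne
    have h1 : W ≤ CM.CC V L B := h.le_of_ne hB hA hne
    refine hg.mv hz hP ?_
    have h2 : NoFF.Basic.V (zpowers z) L ≤ W := CM.cl_le (by rwa [zpowers_le]) hLW
    refine (CM.le_cl B L).trans (le_centralizer_iff.1 ?_)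
    exact h2.trans (h1.trans inf_le_right)
  -- `[V, B] ≤ U`
  have inK : ∀ P B, GOne S L P B → B ≤ E → ∀ z ∈ W, z ∈ zc (S : Subgroup G) →
      ¬ P ≤ centralizer ({z} : Set G) → B ≤ CM.Kr V U hUV := by
    intro P B hg hBE z hzW hz hP
    have hPU : P ≤ normalizer (U : Set G) := (le_E_sup hc hg hE hBE).trans (sup_le hEU hSU)
    rcases hg.dich hc hUV hPU with h1 | h1
    · exact absurd (le_centralizer_iff.1 h1) (hg.mv' hPU hz (hZU ⟨hzW, hz⟩) hP)
    · intro b hb
      refine CM.mem_Kr.2 ⟨h.MV (hg.PL (hg.SP (hg.AS hb))), fun v hv => ?_⟩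
      have hn : U ≤ normalizer ((V ⊓ centralizer (B : Set G) : Subgroup G) : Set G) :=
        hUV.trans (h.comm.trans ((centralizer_le (s := ((V ⊓ centralizer (B : Set G) : Subgroup G) : Set G))
          inf_le_left).trans (centralizer_le_normalizer _)))
      have hv' : v ∈ ((U ⊔ (V ⊓ centralizer (B : Set G)) : Subgroup G) : Set G) := by
        rw [← h1]; exact hv
      rw [coe_mul_of_left_le_normalizer_right _ _ hn] at hv'
      obtain ⟨u, hu, c, hcc, rfl⟩ := hv'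
      have hbc : b * c = c * b := mem_centralizer_iff.1 hcc.2 b hb
      have e : b * (u * c) * b⁻¹ * (u * c)⁻¹ = b * u * b⁻¹ * u⁻¹ := by
        calc b * (u * c) * b⁻¹ * (u * c)⁻¹ = b * u * (b⁻¹ * (b * c)) * b⁻¹ * c⁻¹ * u⁻¹ := by group
          _ = b * u * (b⁻¹ * (c * b)) * b⁻¹ * c⁻¹ * u⁻¹ := by rw [hbc]
          _ = b * u * (b⁻¹ * c * c⁻¹) * u⁻¹ := by
            have : c * b * b⁻¹ = c := by group
            group
          _ = b * u * b⁻¹ * u⁻¹ := by group
      show b * (u * c) * b⁻¹ * (u * c)⁻¹ ∈ U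
      rw [e]
      exact mul_mem ((mem_normalizer_iff.1 (hPU (hg.SP (hg.AS hb))) u).1 hu) (inv_mem hu)
  set Eg : Subgroup G := E ⊓ CM.Kr V U hUV with hEg
  have hEEg : E ≤ normalizer (Eg : Set G) :=
    CM.norm_inf le_normalizer (CM.norm_Kr hUV (hEL.trans h.MV) hEU)
  have hSEg : (S : Subgroup G) ≤ normalizer (Eg : Set G) :=
    CM.norm_inf (h.SM.trans hE) (CM.norm_Kr hUV (h.SM.trans h.MV) hSU)
  -- `C_W(Eg) = 1`
  have hbot : W ⊓ centralizer (Eg : Set G) = ⊥ := by
    by_contra hne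
    have hf : Fact (Nat.Prime 2) := ⟨Nat.prime_two⟩
    have h1 := PLocal.OffenderStep.inf_centralizer_ne_bot (W ⊓ centralizer (Eg : Set G)) (S : Subgroup G)
      (CM.isPGroup_of_sq fun v hv => h.sq v (hWV hv.1)) S.isPGroup'
      (CM.norm_inf (h.SM.trans hLW) (CM.norm_cent hSEg)) hne
    obtain ⟨z, hz1⟩ := Subgroup.ne_bot_iff_exists_ne_one.1 h1
    have hzW : (z : G) ∈ W := z.2.1.1
    have hz : (z : G) ∈ zc (S : Subgroup G) := mem_zc_of hc hL (hWV hzW) z.2.2
    obtain ⟨P, B, hB, hg, hP, hBE⟩ := good z hzW hz fun h0 => hz1 (Subtype.ext h0)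
    have hBg : B ≤ Eg := le_inf hBE (inK P B hg hBE z hzW hz hP)
    apply hP
    conv_lhs => rw [← NoFF.LinesPlug.oddGen_sup hg.SP (MinSimple.Basic.not_dvd_relIndex S hg.SP)]
    refine sup_le (fun y hy => ?_) (fun y hy => ?_)
    · have hy' : y ∈ Eg := CM.cl_le hBg ((le_E_sup hc hg hE hBE).trans (sup_le hEEg hSEg))
        (odd_le_ncl hg.par hg.AS (hg.not_le_o2 hc) hy)
      rw [mem_centralizer_singleton_iff]
      exact mem_centralizer_iff.1 z.2.1.2 y hy'
    · rw [mem_centralizer_singleton_iff]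
      exact mem_centralizer_iff.1 z.2.2 y hy
  -- a minimal `E`-invariant subgroup of `W`
  have hWne : W ≠ ⊥ := fun h0 => hA.2.ne (h.WW_eq_bot.1 h0)
  obtain ⟨X, ⟨hXW, hEX, hX⟩, hmin⟩ := Set.exists_min_image
    {Y : Subgroup G | Y ≤ W ∧ E ≤ normalizer (Y : Set G) ∧ Y ≠ ⊥} (fun Y => Nat.card Y) (Set.toFinite _)
    ⟨W, le_rfl, hEL.trans hLW, hWne⟩
  have key : ∀ l ∈ L, ∀ Y : Subgroup G, E ≤ normalizer (Y : Set G) →
      E ≤ normalizer ((MulAut.conj l • Y : Subgroup G) : Set G) := by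
    intro l hl Y hY e he
    rw [CM.mem_norm_iff, NoFF.Basic.conj_conj]
    have h1 : l⁻¹ * e * l ∈ E := (mem_normalizer_iff''.1 (hE hl) e).1 he
    have h2 : e * l = l * (l⁻¹ * e * l) := by group
    rw [h2, ← NoFF.Basic.conj_conj, CM.mem_norm_iff.1 (hY h1)]
  have hXU : ∀ l ∈ L, MulAut.conj l • X ≤ U := by
    intro l hl
    have hW1 : MulAut.conj l • X ≤ W := by
      rw [← CM.mem_norm_iff.1 (hLW hl)]
      exact NoFF.Basic.conj_le_iff.2 hXW
    have hEXl := key l hl X hEX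
    have hEgX : Eg ≤ normalizer ((MulAut.conj l • X : Subgroup G) : Set G) := inf_le_left.trans hEXl
    set Y : Subgroup G := ⁅MulAut.conj l • X, Eg⁆ with hY
    have hYX : Y ≤ MulAut.conj l • X := CM.comm_le_self hEgX
    have hEY : E ≤ normalizer (Y : Set G) := CM.norm_comm hEXl hEEg
    have hYU : Y ≤ U := (commutator_mono (hW1.trans hWV) le_rfl).trans (CM.comm_le_of hUV inf_le_right)
    have hYne : Y ≠ ⊥ := by
      intro h0
      apply hX
      have h1 : MulAut.conj l • X ≤ W ⊓ centralizer (Eg : Set G) :=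
        le_inf hW1 (le_centralizer_iff.1 (CM.comm_eq_bot.1 h0))
      rw [hbot, le_bot_iff] at h1
      have h2 : Nat.card ↥(MulAut.conj l • X : Subgroup G) = Nat.card X := ChoiceBase.card_cj l X
      rw [h1, Subgroup.card_bot] at h2
      exact Subgroup.card_eq_one.1 h2.symm
    have h1 := hmin (MulAut.conj l⁻¹ • Y) ⟨by
      rw [← CM.mem_norm_iff.1 (hLW (inv_mem hl))]
      exact NoFF.Basic.conj_le_iff.2 (hYX.trans hW1), key _ (inv_mem hl) Y hEY, by
      intro h0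
      apply hYne
      have h2 : Nat.card ↥(MulAut.conj l⁻¹ • Y : Subgroup G) = Nat.card Y := ChoiceBase.card_cj l⁻¹ Y
      rw [h0, Subgroup.card_bot] at h2
      exact Subgroup.card_eq_one.1 h2.symm⟩
    have h2 : Nat.card ↥(MulAut.conj l⁻¹ • Y : Subgroup G) = Nat.card Y := ChoiceBase.card_cj l⁻¹ Y
    have h3 : Nat.card ↥(MulAut.conj l • X : Subgroup G) = Nat.card X := ChoiceBase.card_cj l X
    have h4 : Y = MulAut.conj l • X := Subgroup.eq_of_le_of_card_ge hYX (by rw [h3, ← h2]; exact h1)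
    rw [← h4]
    exact hYU
  have hVX : NoFF.Basic.V X L ≤ U := NoFF.Basic.V_le hXU
  rcases h.irr hA (hVX.trans hUW) (CM.norm_cl X L) with h1 | h1
  · exact absurd (le_bot_iff.1 (h1 ▸ CM.le_cl X L)) hX
  · exact h1.ge.trans hVX

theorem norm_cent_set {K : Subgroup G} {X : Set G} (hX : ∀ g ∈ K, ∀ x ∈ X, g * x * g⁻¹ ∈ X) :
    K ≤ normalizer (centralizer X : Set G) := by
  have key : ∀ g ∈ K, ∀ y ∈ centralizer X, g * y * g⁻¹ ∈ centralizer X := by
    intro g hg y hy
    rw [mem_centralizer_iff]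
    intro x hx
    have h1 := mem_centralizer_iff.1 hy _ (hX g⁻¹ (inv_mem hg) x hx)
    calc x * (g * y * g⁻¹) = g * ((g⁻¹ * x * g⁻¹⁻¹) * y) * g⁻¹ := by group
      _ = g * (y * (g⁻¹ * x * g⁻¹⁻¹)) * g⁻¹ := by rw [h1]
      _ = (g * y * g⁻¹) * x := by group
  intro g hg
  rw [mem_normalizer_iff]
  intro y
  refine ⟨key g hg y, fun h => ?_⟩
  have h1 := key g⁻¹ (inv_mem hg) _ h
  have e : g⁻¹ * (g * y * g⁻¹) * g⁻¹⁻¹ = y := by group
  rwa [e] at h1

/-- **`W_A = ⟨(W_A ∩ Z)^{L ∩ C(X)}⟩`**, `X` an `L`-invariant union of other classes -/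
theorem gen_oth (hc : IsCharacteristicTwoType G) (hL : IsLoc (S : Subgroup G) L)
    (h : CM.Sys (S : Subgroup G) L (zl (S : Subgroup G) L) (EE S L)) (hmv : Mv S L) {A : Subgroup G}
    (hA : A ∈ EE S L) {X : Set G} (hX : ∀ x ∈ X, ∃ B ∈ EE S L,
      CM.WW (zl (S : Subgroup G) L) L B ≠ CM.WW (zl (S : Subgroup G) L) L A ∧ x ∈ CM.WW (zl (S : Subgroup G) L) L B)
    (hXL : ∀ g ∈ L, ∀ x ∈ X, g * x * g⁻¹ ∈ X) :
    CM.WW (zl (S : Subgroup G) L) L A ≤
      NoFF.Basic.V (CM.WW (zl (S : Subgroup G) L) L A ⊓ zc (S : Subgroup G)) (L ⊓ centralizer X) := by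
  refine gen_le hc hL h hmv hA inf_le_left (CM.norm_inf le_normalizer (norm_cent_set hXL)) fun E hE hEA => ?_
  refine le_inf (h.AM hE) fun e he => ?_
  rw [mem_centralizer_iff]
  intro x hx
  obtain ⟨B, hB, hBA, hxB⟩ := hX x hx
  have h1 : CM.WW (zl (S : Subgroup G) L) L B ≤ CM.CC (zl (S : Subgroup G) L) L E :=
    h.le_of_ne hE hB (by rw [hEA]; exact hBA.symm)
  have h2 := (CM.le_cl E L).trans (le_centralizer_iff.1 (h1.trans inf_le_right))
  exact mem_centralizer_iff.1 (h2 he) x hxB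

/-! ### Conjugation -/

theorem exa_conj {V A : Subgroup G} (h : Exa V A) {g : G} (hg : g ∈ normalizer (V : Set G)) :
    Exa V (cj g A) := by
  have h3 : cj g V = V := ChoiceBase.cj_eq_of_mem_normalizer hg
  have h4 : V ⊓ centralizer (cj g A : Set G) = cj g (V ⊓ centralizer (A : Set G)) := by
    rw [ChoiceBase.cj_inf, ChoiceBase.cj_centralizer, h3]
  have h5 : cj g A ⊓ centralizer (V : Set G) = cj g (A ⊓ centralizer (V : Set G)) := by
    rw [ChoiceBase.cj_inf, ChoiceBase.cj_centralizer, h3]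
  unfold Exa
  rw [h4, h5, ChoiceBase.card_cj, ChoiceBase.card_cj, ChoiceBase.card_cj]
  exact h

theorem mx_conj {V A : Subgroup G} (h : Mx V A) {g : G} (hg : g ∈ normalizer (V : Set G)) : Mx V (cj g A) := by
  have h3 : cj g (centralizer (V : Set G)) = centralizer (V : Set G) := by
    rw [ChoiceBase.cj_centralizer, ChoiceBase.cj_eq_of_mem_normalizer hg]
  refine ⟨VF.elemM_cj hg h.toElemM, h.pg.map _, fun h1 => h.ne ?_, exa_conj h.exact hg, fun B hB hBe hBc => ?_⟩
  · rw [← h3] at h1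
    have h2 := ChoiceBase.cj_mono g⁻¹ h1
    rwa [ChoiceBase.cj_inv_cj, ChoiceBase.cj_inv_cj] at h2
  · have h4 : cj g⁻¹ B ≤ A := by
      have h2 := ChoiceBase.cj_mono g⁻¹ hB
      rwa [ChoiceBase.cj_inv_cj] at h2
    have h5 : A ⊓ centralizer (V : Set G) ≤ cj g⁻¹ B := by
      have h6 : cj g (A ⊓ centralizer (V : Set G)) ≤ B := by
        rw [ChoiceBase.cj_inf, h3]
        exact hBc
      have h7 := ChoiceBase.cj_mono g⁻¹ h6
      rwa [ChoiceBase.cj_inv_cj] at h7
    have h6 : cj g (cj g⁻¹ B) = B := ChoiceBase.cj_cj_inv g B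
    rcases h.min _ h4 (exa_conj hBe (inv_mem hg)) h5 with h7 | h7
    · left
      have h8 := ChoiceBase.cj_mono g h7
      rwa [h6, h3] at h8
    · right
      rw [← h6, h7]

/-- `N_G(S) ∩ N_G(L)` normalises `V` -/
theorem norm_zl {g : G} (hS : g ∈ normalizer ((S : Subgroup G) : Set G)) (hL : g ∈ normalizer (L : Set G)) :
    g ∈ normalizer (zl (S : Subgroup G) L : Set G) := by
  have h1 := MinSimple.CosetFam.zl_conj g (S : Subgroup G) L
  rw [CM.mem_norm_iff.1 hS, CM.mem_norm_iff.1 hL] at h1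
  exact CM.mem_norm_iff.2 h1.symm

/-- `N_G(S) ∩ N_G(L)` acts on `EE` -/
theorem norm_EE {g : G} (hS : g ∈ normalizer ((S : Subgroup G) : Set G)) (hL : g ∈ normalizer (L : Set G))
    {A : Subgroup G} (hA : A ∈ EE S L) : MulAut.conj g • A ∈ EE S L := by
  refine ⟨?_, mx_conj hA.2 (norm_zl hS hL)⟩
  rw [← CM.mem_norm_iff.1 hS]
  exact NoFF.Basic.conj_le_iff.2 hA.1

/-- `N_G(S)` normalises `M₀` -/
theorem norm_MZ {g : G} (hS : g ∈ normalizer ((S : Subgroup G) : Set G)) :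
    g ∈ normalizer (Merge.MZ (S : Subgroup G) : Set G) := by
  refine ChoiceBase.mem_normalizer_of_cj_le ?_
  change MulAut.conj g • Merge.MZ (S : Subgroup G) ≤ Merge.MZ (S : Subgroup G)
  rw [Subgroup.pointwise_smul_subset_iff]
  refine sSup_le fun P hP => ?_
  rw [← Subgroup.pointwise_smul_subset_iff]
  have h5 := IsParS.map (MulAut.conj g) hP
  have h6 : (S : Subgroup G).map (MulAut.conj g).toMonoidHom = S := CM.mem_norm_iff.1 hS
  rw [h6] at h5
  exact le_sSup h5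

/-! ### Two classes -/

end CI

end Cfsg.Agent.Omega.NOThreeL.RRed
end
end
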