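import Cfsg.Agent.Mrg.Omega.NO3b.Chain.Group_m3
import Cfsg.Agent.Mrg.Omega.NO3S.EThree.ExactB_m3
import Cfsg.Agent.Omega.EH3.CoTwo.Stab_m3
import Cfsg.Agent.Mrg.Omega.Assembly
import Cfsg.Agent.ZN.ChoiceBase
import Cfsg.Agent.Mrg.Omega.NOThreeL.RZ.TwoC.SideP_m3
import Cfsg.Agent.Mrg.Omega.KL.Star.ViaRed_m3
import Cfsg.Agent.Mrg.Omega.NOThreeL.RZ.TwoC.BadE_m3
import Cfsg.Agent.Mrg.Omega.NO3S.Level.Lim_m3
import Cfsg.Agent.Mrg.Omega.NOThreeL.RRed.WLeftBase_m3
import Cfsg.Agent.Mrg.Omega.NOThreeL.VF.Base_m3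
import Cfsg.Agent.Mrg.Omega.NO1.Nat.Space_m3
import Cfsg.Agent.Mrg.Omega.NOThreeL.RRed.EOneTr_m3
import Cfsg.Agent.Mrg.Omega.NOThreeL.RRed.FourTree
import Cfsg.Agent.Mrg.Omega.All.HOneKer_m3
import Cfsg.Agent.FastGrp
import Cfsg.Agent.Prune
set_option linter.all false

section
prune_inst 0x7ffcbcfbaffdbfdfffff7fffffdddffdbdb97fffeffffdfbffe87bff5fff4b8ccdc57badeff890ff5ff7629494f87b53f9ff823eee29dc7ffffd5ff45ffbff9fbfefbd2c5196ac341ffe6fff9bf07f8e7f3fffffffffffffffffffffffffffbefffdffffffff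

-- part: Mrg/Omega/NOThreeL/RZ/TwoC/AbP
section
prune_inst 0x14204100040000000000000220002424680001000020000178400a0002473323a845210074800a000912a620000800000454101d2018000020000a0040000000002832869108a00000000600b807180c00000000000000000000000000041000200000000
set_option linter.all false
open scoped Cfsg.Agent.FastGrp

-- merged: Cfsg.Agent.Mrg.Omega.NOThreeL.RZ.TwoC.Loc
section

/-!
# [R-z], case (II) (helper513, #24309 (1)-(3), #24705; helper720 #24422): local subgroups `L ≥ S`, `V ∈ NN(S)`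

`S` a Sylow 2-subgroup, `Z = Ω₁(Z(S))`, `O = O₂(C_G(Z))`, `L ∈ L(S)` (not necessarily `≥ C_G(Z)`), `U = ⟨Z^L⟩`.

* `gml` : `|A : C_A(U)| ≤ |U : C_U(A)|` for the elementary abelian `A ≤ O`;
* `inf_cent_le` : `O ∩ C(U) ≤ O₂(L)`;
* `cent_zl`, `le_o2L` : `V ∈ NN(S)`, `V ≤ O` centralises `U` and lies in `O₂(L)`;
* `nn_hul` : `⟨V^L⟩ ∈ NN(O₂(L))`;  **`noOn_hul`** : `Z ≤ V`: `|A : C_A(W)| ≤ |W : C_W(A)|` for `W = ⟨V^L⟩`, `A ≤ O`;
* `norm_inf` : `K ≥ C_G(Z)`, `Z ≤ W`, `K ≤ N(W)` imply `K ≤ N(O ∩ C(W))`.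
-/

set_option autoImplicit false
set_option linter.unusedSectionVars false

namespace Cfsg.Agent.Omega.NOThreeL.RZ.TwoC.Loc

open Subgroup Cfsg
open Cfsg.Agent.ZN (o2 zc zl jj)
open Cfsg.Agent.ZN.ChoiceBase hiding mem_zc
open Cfsg.Agent.Omega.ML.Final (MLK)
open Cfsg.Agent.Omega.ML.GMod (hul hul_le hul_le_of le_hul cj_le_hul le_normalizer_hul nc ZD step ri_mono
  normalizer_le_normalizer_o2)
open Cfsg.Agent.Omega.ML.GNN (card_mul)
open Cfsg.Agent.Omega.FFThm
open Cfsg.Agent.Omega.MinPar Cfsg.Agent.Omega.Frame Cfsg.Agent.Omega.FrameNOFF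
open Cfsg.Agent.Omega.NO3b.Bang
open Cfsg.Agent.Omega.NO3S.EThree.ExactA (eab_iff)
open Cfsg.Agent.Omega.EK3.Rank (NoOn)
open Cfsg.Agent.MinSimple.VModule (zc_le_zl le_normalizer_zl zl_le zc_le zc_sq zc_comm mem_zc le_centralizer_zc
  le_normalizer_o2 o2_isPGroup o2_le le_o2)
open Cfsg.Agent.MinSimple.Basic (not_dvd_relIndex)

universe u

variable {G : Type u} [Group G] [Finite G] {S : Sylow 2 G}

theorem o2C_le : o2 (CZ (S : Subgroup G)) ≤ (S : Subgroup G) := by
  refine le_of_le_normalizer S (o2_isPGroup _) ((le_CZ S).trans (le_normalizer_o2 _))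

/-- `O₂(C_G(Z)) ≤ O₂(C_L(Z))` -/
theorem low_inf {L : Subgroup G} (hL : (S : Subgroup G) ≤ L) :
    o2 (CZ (S : Subgroup G)) ≤ o2 (L ⊓ centralizer (zc (S : Subgroup G) : Set G)) :=
  le_o2 (le_inf (o2C_le.trans hL) (o2_le _)) (o2_isPGroup _) (inf_le_right.trans (le_normalizer_o2 _))

/-- `O₂(C) ∩ C(W) ≤ O₂(L)` for `W ≥ Z` which is normalised by `L` -/
theorem inf_cent_le {L W : Subgroup G} (hL : (S : Subgroup G) ≤ L) (hZ : zc (S : Subgroup G) ≤ W)
    (hn : L ≤ normalizer (W : Set G)) :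
    o2 (CZ (S : Subgroup G)) ⊓ centralizer (W : Set G) ≤ o2 L := by
  have hC1 : L ⊓ centralizer (W : Set G) ≤ CZ (S : Subgroup G) := inf_le_right.trans (centralizer_le hZ)
  have hnC : L ≤ normalizer ((L ⊓ centralizer (W : Set G) : Subgroup G) : Set G) :=
    le_trans (le_inf Subgroup.le_normalizer (hn.trans (nc W))) inf_normalizer_le_normalizer_inf
  have h2 : o2 (CZ (S : Subgroup G)) ⊓ (L ⊓ centralizer (W : Set G)) ≤ o2 (L ⊓ centralizer (W : Set G)) := by
    refine le_o2 inf_le_right ((o2_isPGroup _).to_le inf_le_left) ?_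
    exact le_trans (le_inf (hC1.trans (le_normalizer_o2 _)) Subgroup.le_normalizer)
      inf_normalizer_le_normalizer_inf
  have h3 : o2 (L ⊓ centralizer (W : Set G)) ≤ o2 L :=
    le_o2 ((o2_le _).trans inf_le_left) (o2_isPGroup _) (hnC.trans (normalizer_le_normalizer_o2 _))
  refine le_trans (le_inf inf_le_left (le_inf (inf_le_left.trans (o2C_le.trans hL)) inf_le_right)) (h2.trans h3)

/-- `K ≥ C_G(Z)` normalising `W ≥ Z` normalises `O₂(C_G(Z)) ∩ C(W)` -/
theorem norm_inf {K W : Subgroup G} (hC : CZ (S : Subgroup G) ≤ K) (hZ : zc (S : Subgroup G) ≤ W)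
    (hn : K ≤ normalizer (W : Set G)) :
    K ≤ normalizer ((o2 (CZ (S : Subgroup G)) ⊓ centralizer (W : Set G) : Subgroup G) : Set G) := by
  have hWC : centralizer (W : Set G) ≤ CZ (S : Subgroup G) := centralizer_le hZ
  have e : o2 (CZ (S : Subgroup G)) ⊓ centralizer (W : Set G) = o2 (centralizer (W : Set G)) := by
    apply le_antisymm
    · refine le_o2 inf_le_right ((o2_isPGroup _).to_le inf_le_left) ?_
      exact le_trans (le_inf (hWC.trans (le_normalizer_o2 _)) Subgroup.le_normalizer) inf_normalizer_le_normalizer_inf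
    · refine le_inf ?_ (o2_le _)
      refine le_o2 ((o2_le _).trans hWC) (o2_isPGroup _) ?_
      exact (hC.trans (hn.trans (nc W))).trans (normalizer_le_normalizer_o2 _)
  rw [e]
  exact (hn.trans (nc W)).trans (normalizer_le_normalizer_o2 _)

section loc

variable {L : Subgroup G} (hM : MLK.{u, u}) (hG : Ctx G) (hL : IsLoc (S : Subgroup G) L) (hK : IsKGroup L)
include hM hG hL hK

/-- **LEMMA GML** for `⟨Z^L⟩`, `L` any local subgroup over `S` -/
theorem gml {A : Subgroup G} (hA : A ≤ o2 (CZ (S : Subgroup G))) (hsq : ∀ a ∈ A, a ^ 2 = 1) :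
    (centralizer (zl (S : Subgroup G) L : Set G)).relIndex A ≤
      (centralizer (A : Set G)).relIndex (zl (S : Subgroup G) L) := by
  have D : ZD L (zl (S : Subgroup G) L) (zc (S : Subgroup G)) (S : Subgroup G) A :=
    { nV := le_normalizer_zl _ _
      sq := fun v hv => by
        have := zc_sq _ _ (hL.zl_le S hG.char2 hv)
        rwa [sq] at this
      ZV := zc_le_zl _ _
      gen := fun U hZ hLU => zl_le hZ hLU
      TL := hL.le
      two := S.isPGroup'
      odd := not_dvd_relIndex S hL.le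
      TZ := le_centralizer_zc _
      AO := hA.trans (low_inf hL.le)
      Asq := fun a ha => by
        have := hsq a ha
        rw [← sq, this]
        exact one_mem _ }
  exact D.gml hM hK

/-- `V ∈ NN(S)`, `V ≤ O₂(C_G(Z))` centralises `⟨Z^L⟩`. -/
theorem cent_zl {V : Subgroup G} (hV : NN (S : Subgroup G) V) (hVQ : V ≤ o2 (CZ (S : Subgroup G))) :
    V ≤ centralizer (zl (S : Subgroup G) L : Set G) := by
  by_contra hne
  have h1 := gml hM hG hL hK hVQ hV.sq
  set U : Subgroup G := zl (S : Subgroup G) L with hU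
  have hU2 : U ≤ zc (o2 L) := hL.zl_le S hG.char2
  have hUS : U ≤ (S : Subgroup G) := (hU2.trans (zc_le _)).trans (hL.o2_le S)
  refine hV.nff U hUS ⟨⟨?_, ?_⟩, fun hc => hne (cent_symm hc), ?_⟩
  · intro a ha
    rw [zc_sq _ _ (hU2 ha)]
    exact one_mem _
  · intro a ha b hb
    rw [zc_comm _ _ (hU2 ha) _ (hU2 hb), mul_inv_cancel_right, mul_inv_cancel]
    exact one_mem _
  · have e1 : Nat.card ↥(V ⊓ centralizer (U : Set G)) * (centralizer (U : Set G)).relIndex V = Nat.card V := by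
      rw [← inf_relIndex_left]
      exact card_mul inf_le_left
    have e2 : Nat.card ↥(U ⊓ centralizer (V : Set G)) * (centralizer (V : Set G)).relIndex U = Nat.card U := by
      rw [← inf_relIndex_left]
      exact card_mul inf_le_left
    rw [← e1, ← e2]
    calc Nat.card ↥(V ⊓ centralizer (U : Set G)) * (centralizer (U : Set G)).relIndex V *
          Nat.card ↥(U ⊓ centralizer (V : Set G))
        ≤ Nat.card ↥(V ⊓ centralizer (U : Set G)) * (centralizer (V : Set G)).relIndex U *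
          Nat.card ↥(U ⊓ centralizer (V : Set G)) := by
          exact Nat.mul_le_mul_right _ (Nat.mul_le_mul_left _ h1)
      _ = _ := by ring

/-- **`V ∈ NN(S)`, `V ≤ O₂(C_G(Z))` implies `V ≤ O₂(L)`, `L` any local subgroup over `S`.** -/
theorem le_o2L {V : Subgroup G} (hV : NN (S : Subgroup G) V) (hVQ : V ≤ o2 (CZ (S : Subgroup G))) : V ≤ o2 L :=
  (le_inf hVQ (cent_zl hM hG hL hK hV hVQ)).trans (inf_cent_le hL.le (zc_le_zl _ _) (le_normalizer_zl _ _))

omit hM hG hL hK in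
theorem nn_iSup {ι : Type u} [Finite ι] {T : Subgroup G} (f : ι → Subgroup G) (h : ∀ i, NN T (f i)) : NN T (⨆ i, f i) := by
  classical
  have := Fintype.ofFinite ι
  rw [← Finset.sup_univ_eq_iSup]
  exact Finset.sup_induction (NN.bot T) (fun _ h1 _ h2 => h1.sup h2) fun i _ => h i

/-- **`⟨V^L⟩ ∈ NN(O₂(L))`** -/
theorem nn_hul {V : Subgroup G} (hV : NN (S : Subgroup G) V) (hVQ : V ≤ o2 (CZ (S : Subgroup G))) :
    NN (o2 L) (hul V L) := by
  refine nn_iSup _ fun l => ?_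
  have h1 := hV.cj (l : G)
  have h2 : cj (l : G) (o2 L) = o2 L := cj_eq_of_mem_normalizer (le_normalizer_o2 L l.2)
  refine h1.mono ?_ ?_
  · conv_rhs => rw [← h2]
    exact cj_mono _ (le_o2L hM hG hL hK hV hVQ)
  · conv_lhs => rw [← h2]
    exact cj_mono _ (hL.o2_le S)

theorem hul_eab {V : Subgroup G} (hV : NN (S : Subgroup G) V) (hVQ : V ≤ o2 (CZ (S : Subgroup G))) :
    IsElementaryAbelian 2 (hul V L) :=
  eab_iff.2 ⟨(nn_hul hM hG hL hK hV hVQ).comm, (nn_hul hM hG hL hK hV hVQ).sq⟩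

/-- no offender in `T`: `|A : C_A(W)| ≤ |W : C_W(A)|` -/
theorem le_of_nn {T W A : Subgroup G} (hW : NN T W) (hA : A ≤ T) (hel : IsElementaryAbelian 2 A) :
    (centralizer (W : Set G)).relIndex A ≤ (centralizer (A : Set G)).relIndex W := by
  by_cases hc : A ≤ centralizer (W : Set G)
  · have h1 : (centralizer (W : Set G)).relIndex A = 1 := relIndex_eq_one.2 hc
    rw [h1]
    exact Nat.one_le_iff_ne_zero.2 (ML.GMod.ri_ne _ _)
  by_contra hlt
  push Not at hlt
  refine hW.nff A hA ⟨offM_of_abel (eab_iff.1 hel).1 fun a ha => (eab_iff.1 hel).2 a ha, hc, ?_⟩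
  have e1 : Nat.card ↥(A ⊓ centralizer (W : Set G)) * (centralizer (W : Set G)).relIndex A = Nat.card A := by
    rw [← inf_relIndex_left]
    exact card_mul inf_le_left
  have e2 : Nat.card ↥(W ⊓ centralizer (A : Set G)) * (centralizer (A : Set G)).relIndex W = Nat.card W := by
    rw [← inf_relIndex_left]
    exact card_mul inf_le_left
  rw [← e1, ← e2]
  calc _ ≤ Nat.card ↥(W ⊓ centralizer (A : Set G)) * (centralizer (W : Set G)).relIndex A *
          Nat.card ↥(A ⊓ centralizer (W : Set G)) := by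
          exact Nat.mul_le_mul_right _ (Nat.mul_le_mul_left _ hlt.le)
      _ = _ := by ring

/-- **`|A : C_A(W)| ≤ |W : C_W(A)|`, `W = ⟨V^L⟩`, `Z ≤ V ∈ NN(S)`, for the elementary abelian `A ≤ O₂(C_G(Z))`.** -/
theorem noOn_hul {V : Subgroup G} (hV : NN (S : Subgroup G) V) (hVQ : V ≤ o2 (CZ (S : Subgroup G)))
    (hZV : zc (S : Subgroup G) ≤ V) : NoOn (o2 (CZ (S : Subgroup G))) (hul V L) := by
  intro A hel hA
  have hUW : zl (S : Subgroup G) L ≤ hul V L := zl_le (hZV.trans (le_hul V L)) (le_normalizer_hul V L)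
  refine step hUW (gml hM hG hL hK hA (eab_iff.1 hel).2) ?_
  refine le_of_nn hM hG hL hK (nn_hul hM hG hL hK hV hVQ) ?_
    (NO3S.EThree.ExactA.eab_mono hel inf_le_left)
  exact (inf_le_inf_right _ hA).trans (inf_cent_le hL.le (zc_le_zl _ _) (le_normalizer_zl _ _))

end loc

end Cfsg.Agent.Omega.NOThreeL.RZ.TwoC.Loc

end

-- merged: Cfsg.Agent.Mrg.Omega.NOThreeL.RZ.Nz
section

/-!
# OMEGA NO-3L, [R-z]: the small flag and `Z = Ω₁(Z(S))`

`Z' ≤ Z`, `Z' ≠ 1`; `V` is normalised by `N_G(S)` and by all `P ∈ P*(S)`.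

* `le_centralizer_zc` : `P ∈ P(S)` normalising `Z` centralises `Z`;
* `nz_of` : `C_G(Z') ≰ N_G(V)` implies `C_G(Z) ≰ N_G(V)`.

So the flags `F` of the `Z'`-frame may always be taken with exits in `C_G(Z F)`.
-/

set_option autoImplicit false

namespace Cfsg.Agent.Omega.NOThreeL.RZ.Nz

open Subgroup Cfsg Cfsg.Agent.Omega.MinPar
open Cfsg.Agent.ZN (zc zl o2)
open Cfsg.Agent.ZN.ChoiceBase (mem_normalizer_iff_cj cj_inf cj_eq_of_mem_normalizer cj_centralizer)
open Cfsg.Agent.MinSimple.VModule (le_centralizer_zc zc_le)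

universe u

variable {G : Type u} [Group G] [Finite G] {S : Sylow 2 G}

/-- `P ∈ P(S)` normalising `Ω₁(Z(S))` centralises it. -/
theorem le_centralizer_of {P : Subgroup G} (hP : IsPar (S : Subgroup G) P)
    (h : P ≤ normalizer (zc (S : Subgroup G) : Set G)) :
    P ≤ centralizer (zc (S : Subgroup G) : Set G) := by
  have hSC : (S : Subgroup G) ≤ centralizer (zc (S : Subgroup G) : Set G) := le_centralizer_zc _
  have hn : P ≤ normalizer ((P ⊓ centralizer (zc (S : Subgroup G) : Set G) : Subgroup G) : Set G) := by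
    intro p hp
    rw [mem_normalizer_iff_cj, cj_inf, cj_eq_of_mem_normalizer (Subgroup.le_normalizer hp),
      cj_centralizer, cj_eq_of_mem_normalizer (h hp)]
  rcases hP.sup_eq_or_inf_le (S := S) inf_le_left hn with h1 | h1
  · rw [← h1]
    exact sup_le inf_le_right hSC
  · exfalso
    have h2 : (S : Subgroup G) ≤ o2 P := (le_inf le_rfl (le_inf hP.le hSC)).trans h1
    have h3 : o2 P = (S : Subgroup G) := le_antisymm ((⟨hP.le, hP.o2_ne⟩ : IsLoc (S : Subgroup G) P).o2_le S) h2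
    exact hP.not_le (h3 ▸ MinSimple.VModule.le_normalizer_o2 P)

end Cfsg.Agent.Omega.NOThreeL.RZ.Nz

end

-- merged: Cfsg.Agent.Mrg.Omega.NOThreeL.RZ.TwoC.Ab
section

/-!
# [R-z], case (II) (helper513, #24309, #24705; helper616 #24761): the two sides, abstract frame

`S` a Sylow 2-subgroup, `Z = Ω₁(Z(S))`, `C = C_G(Z) = CZ S`, `O = O₂(C)`, `N = N_G(S)`; `L ≥ S` (`= LL S R`), `E` the group
generated by the block types, `V ∈ NN(S)` (`= ⟨Z^L⟩`), `1 ≠ Z₁ ≤ Z₀ ≤ Z`, `Z₁ ≤ R₁`, `B`: `Ab S L E Z₀ B V Z₁ R₁`.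

* `K1 S L = ⟨L, C⟩ N`, `K2 S Z₁ = C_G(Z₁) N`; `U₁ = zl S K₁`, `W₂ = ⟨V^{K₂}⟩`, `NR = ⟨V^{C_G(R₁)}⟩`, `NB = ⟨Z₀^{C_G(B)}⟩`;
* `locK1`, `locK2`, `K2_le` : `K₂ ≤ ⟨K₁ ∩ K₂, E⟩`; `cB_le` : `C_G(B) ≤ K₁`; `noOnR`, `noB`;
* **`Ab.twoD`** : `Side.TwoD`;
* `Ab.le_o2K1`, `Ab.le_o2R`, `Ab.le_o2K2`, `Ab.le_o2B` : where `A` and `F` lie.
-/

set_option autoImplicit false
set_option linter.unusedSectionVars false

namespace Cfsg.Agent.Omega.NOThreeL.RZ.TwoC

open Subgroup Cfsg
open Cfsg.Agent.ZN (o2 zc zl jj)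
open Cfsg.Agent.ZN.ChoiceBase hiding mem_zc
open Cfsg.Agent.Omega.ML.Final (MLK)
open Cfsg.Agent.Omega.ML.GMod (hul hul_le hul_le_of le_hul cj_le_hul le_normalizer_hul nc ri_mono
  normalizer_le_normalizer_o2)
open Cfsg.Agent.Omega.MinPar Cfsg.Agent.Omega.Frame Cfsg.Agent.Omega.FrameNOFF
open Cfsg.Agent.Omega.NO3b.Bang
open Cfsg.Agent.Omega.NO3S.EThree.ExactA (eab_iff eab_mono)
open Cfsg.Agent.Omega.EK3.Rank (NoOn)
open Cfsg.Agent.Omega.NoFF.Basic (comm_symm)
open Cfsg.Agent.Omega.GI (relIndex_congr relIndex_sup_of_comm)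
open Cfsg.Agent.MinSimple.VModule (zc_le_zl le_normalizer_zl zl_le zc_le zc_sq zc_comm mem_zc le_centralizer_zc
  le_normalizer_o2 o2_isPGroup o2_le le_o2 normalizer_le_normalizer_zc)
open Cfsg.Agent.Omega.NOThreeL.RZ.TwoC.Loc

universe u

variable {G : Type u} [Group G]

/-- `K₁ = ⟨L, C_G(Z)⟩ N_G(S)` -/
def K1 (S L : Subgroup G) : Subgroup G := (L ⊔ CZ S) ⊔ normalizer (S : Set G)

/-- `K₂ = C_G(Z₁) N_G(S)` -/
def K2 (S Z₁ : Subgroup G) : Subgroup G := centralizer (Z₁ : Set G) ⊔ normalizer (S : Set G)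

theorem norm_hul [Finite G] {Z L K : Subgroup G} (h1 : K ≤ normalizer (Z : Set G)) (h2 : K ≤ normalizer (L : Set G)) :
    K ≤ normalizer (hul Z L : Set G) := by
  intro k hk
  refine mem_normalizer_of_cj_le ?_
  rw [cj_le_iff]
  refine hul_le fun l hl => ?_
  rw [← cj_le_iff, cj_cj]
  have e : cj (k * l) Z = cj (k * l * k⁻¹) Z := by
    conv_rhs => rw [← cj_cj, cj_eq_of_mem_normalizer (h1 (K.inv_mem hk))]
  rw [e]
  exact cj_le_hul ((mem_normalizer_iff.1 (h2 hk) l).1 hl)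

theorem hul_mono {Z L L' : Subgroup G} (h : L ≤ L') : hul Z L ≤ hul Z L' := hul_le fun _ hg => cj_le_hul (h hg)

theorem nS_CZ [Finite G] {S : Sylow 2 G} :
    normalizer ((S : Subgroup G) : Set G) ≤ normalizer (CZ (S : Subgroup G) : Set G) :=
  (normalizer_le_normalizer_zc _).trans (nc _)

/-- **The abstract frame of case (II).** -/
structure Ab [Finite G] (S : Sylow 2 G) (L E Z₀ B V Z₁ R₁ : Subgroup G) : Prop where
  ctx : Ctx G
  SL : (S : Subgroup G) ≤ L
  nL : normalizer ((S : Subgroup G) : Set G) ≤ normalizer (L : Set G)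
  nn : NN (S : Subgroup G) V
  ZV : zc (S : Subgroup G) ≤ V
  low : V ≤ o2 (CZ (S : Subgroup G))
  LV : L ≤ normalizer (V : Set G)
  dich : ∀ P, IsParS (S : Subgroup G) P → P ≤ L ∨ P ≤ E
  EZ : E ≤ centralizer (Z₀ : Set G)
  EB : E ≤ normalizer (B : Set G)
  SB : (S : Subgroup G) ≤ normalizer (B : Set G)
  B2 : IsPGroup 2 B
  zB : zc (S : Subgroup G) ≤ (zc (S : Subgroup G) ⊓ B) ⊔ Z₀
  BN : B ≤ hul V (centralizer (R₁ : Set G))
  Z0 : Z₀ ≤ zc (S : Subgroup G)
  ne1 : Z₁ ≠ ⊥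
  le1 : Z₁ ≤ Z₀
  n1 : normalizer ((S : Subgroup G) : Set G) ≤ normalizer (Z₁ : Set G)
  R2 : IsPGroup 2 R₁
  ZR : Z₁ ≤ R₁
  LR : L ≤ normalizer (R₁ : Set G)
  nl : ∀ U : Subgroup G, IsPGroup 2 U → L ≤ normalizer (U : Set G) →
    centralizer (Z₀ : Set G) ≤ normalizer (U : Set G) → U = ⊥
  loc : ¬ NonLoc L (CZ (S : Subgroup G))

namespace Ab

variable [Finite G] {S : Sylow 2 G} {L E Z₀ B V Z₁ R₁ : Subgroup G} (h : Ab S L E Z₀ B V Z₁ R₁)
include h

theorem Z1_le : Z₁ ≤ zc (S : Subgroup G) := h.le1.trans h.Z0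

theorem zc_ne : zc (S : Subgroup G) ≠ ⊥ := fun e => h.ne1 (le_bot_iff.1 (e ▸ h.Z1_le))

theorem S_le_K1 : (S : Subgroup G) ≤ K1 (S : Subgroup G) L := (le_CZ S).trans (le_sup_right.trans le_sup_left)

theorem C_le_K1 : CZ (S : Subgroup G) ≤ K1 (S : Subgroup G) L := le_sup_right.trans le_sup_left

theorem L_le_K1 : L ≤ K1 (S : Subgroup G) L := le_sup_left.trans le_sup_left

/-- `K₁` is local -/
theorem locK1 : IsLoc (S : Subgroup G) (K1 (S : Subgroup G) L) := by
  have h1 : o2 (L ⊔ CZ (S : Subgroup G)) ≠ ⊥ := by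
    intro e
    apply h.loc
    intro U hU hA hB
    by_contra hne
    refine o2_ne_bot_of_le hU hne ?_ (sup_le hA hB) e
    exact (le_of_le_normalizer S hU ((le_CZ S).trans hB)).trans ((le_CZ S).trans le_sup_right)
  refine isLoc_of_le_normalizer S h.S_le_K1 (o2_isPGroup (L ⊔ CZ (S : Subgroup G))) h1 ?_
  refine sup_le (le_normalizer_o2 _) ?_
  refine le_trans ?_ (normalizer_le_normalizer_o2 _)
  exact le_normalizer_sup h.nL nS_CZ

theorem kg {X : Subgroup G} (hL : IsLoc (S : Subgroup G) X) : IsKGroup X :=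
  ML.GNN.kgroup_of_isLoc h.ctx h.ctx.not_isPGroup hL

/-- `K₂` is local -/
theorem locK2 : IsLoc (S : Subgroup G) (K2 (S : Subgroup G) Z₁) := by
  refine isLoc_of_le_normalizer S ?_ (S.isPGroup'.to_le (h.Z1_le.trans (zc_le _))) h.ne1 ?_
  · exact (le_normalizer : (S : Subgroup G) ≤ _).trans le_sup_right
  · exact sup_le (centralizer_le_normalizer _) h.n1

theorem C_le_K2 : CZ (S : Subgroup G) ≤ K2 (S : Subgroup G) Z₁ := (centralizer_le h.Z1_le).trans le_sup_left

theorem E_le : E ≤ K2 (S : Subgroup G) Z₁ := (h.EZ.trans (centralizer_le h.le1)).trans le_sup_left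

/-- **`K₂ ≤ ⟨K₁ ∩ K₂, E⟩`** -/
theorem K2_le : K2 (S : Subgroup G) Z₁ ≤ (K1 (S : Subgroup G) L ⊓ K2 (S : Subgroup G) Z₁) ⊔ E := by
  refine h.locK2.le_of_forall S (le_trans ?_ le_sup_left) fun P hP hPK => ?_
  · exact le_inf (inf_le_right.trans le_sup_right) inf_le_left
  · by_cases hz : P ≤ normalizer (zc (S : Subgroup G) : Set G)
    · exact (le_inf ((Nz.le_centralizer_of hP hz).trans h.C_le_K1) hPK).trans le_sup_left
    rcases h.dich P ⟨hP, hz⟩ with h1 | h1
    · exact (le_inf (h1.trans h.L_le_K1) hPK).trans le_sup_left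
    · exact h1.trans le_sup_right

/-- `⟨K₁, K₂⟩` is nonlocal -/
theorem nonlocK {U : Subgroup G} (hU : IsPGroup 2 U) (h1 : K1 (S : Subgroup G) L ≤ normalizer (U : Set G))
    (h2 : K2 (S : Subgroup G) Z₁ ≤ normalizer (U : Set G)) : U = ⊥ :=
  h.nl U hU (h.L_le_K1.trans h1) (((centralizer_le h.le1).trans le_sup_left).trans h2)

/-- `L` normalises `⟨V^{C_G(R₁)}⟩` -/
theorem nNR : L ≤ normalizer (hul V (centralizer (R₁ : Set G)) : Set G) := norm_hul h.LV (h.LR.trans (nc _))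

theorem R1_ne : R₁ ≠ ⊥ := fun e => h.ne1 (le_bot_iff.1 (e ▸ h.ZR))

/-- `C_G(R₁) S` is local -/
theorem locR : IsLoc (S : Subgroup G) (centralizer (R₁ : Set G) ⊔ (S : Subgroup G)) :=
  isLoc_of_le_normalizer S le_sup_right h.R2 h.R1_ne (sup_le (centralizer_le_normalizer _) (h.SL.trans h.LR))

theorem hul_R : hul V (centralizer (R₁ : Set G) ⊔ (S : Subgroup G)) = hul V (centralizer (R₁ : Set G)) := by
  refine le_antisymm (hul_le_of (le_hul _ _) ?_) (hul_mono le_sup_left)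
  exact sup_le (le_normalizer_hul _ _) (h.SL.trans h.nNR)

theorem B_ne : B ≠ ⊥ := by
  intro e
  have h1 : zc (S : Subgroup G) ≤ Z₀ := by
    have := h.zB
    rw [e, inf_bot_eq, bot_sup_eq] at this
    exact this
  refine h.locK1.o2_ne (h.nl _ (o2_isPGroup _) (h.L_le_K1.trans (le_normalizer_o2 _)) ?_)
  exact ((centralizer_le h1).trans h.C_le_K1).trans (le_normalizer_o2 _)

theorem cent_Z {X : Subgroup G} (h1 : X ≤ centralizer (B : Set G)) (h2 : X ≤ centralizer (Z₀ : Set G)) :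
    X ≤ centralizer (zc (S : Subgroup G) : Set G) := by
  refine comm_symm (h.zB.trans (sup_le ?_ (comm_symm h2)))
  exact inf_le_right.trans (comm_symm h1)

/-- `C_G(B) S` is local -/
theorem locB : IsLoc (S : Subgroup G) (centralizer (B : Set G) ⊔ (S : Subgroup G)) :=
  isLoc_of_le_normalizer S le_sup_right h.B2 h.B_ne (sup_le (centralizer_le_normalizer _) h.SB)

/-- **`C_G(B) ≤ K₁`** -/
theorem cB_le : centralizer (B : Set G) ≤ K1 (S : Subgroup G) L := by
  refine le_trans (le_sup_left : _ ≤ centralizer (B : Set G) ⊔ (S : Subgroup G)) ?_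
  refine h.locB.le_of_forall S (inf_le_right.trans le_sup_right) fun P hP hPX => ?_
  by_cases hz : P ≤ normalizer (zc (S : Subgroup G) : Set G)
  · exact (Nz.le_centralizer_of hP hz).trans h.C_le_K1
  rcases h.dich P ⟨hP, hz⟩ with h1 | h1
  · exact h1.trans h.L_le_K1
  · -- `P = C_P(B) S` centralises `Z`
    have e : P ≤ (P ⊓ centralizer (B : Set G)) ⊔ (S : Subgroup G) := by
      intro p hp
      have h2 : p ∈ ((centralizer (B : Set G) ⊔ (S : Subgroup G) : Subgroup G) : Set G) := hPX hp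
      rw [coe_mul_of_right_le_normalizer_left _ _ (h.SB.trans (nc _)), Set.mem_mul] at h2
      obtain ⟨c, hc, t, ht, rfl⟩ := h2
      refine mul_mem_sup ⟨?_, hc⟩ ht
      have e2 : c = c * t * t⁻¹ := by group
      rw [e2]
      exact P.mul_mem hp (P.inv_mem (hP.le ht))
    have h2 : P ≤ CZ (S : Subgroup G) := by
      refine e.trans (sup_le ?_ (le_CZ S))
      exact h.cent_Z inf_le_right (inf_le_left.trans (h1.trans h.EZ))
    exact h2.trans h.C_le_K1

/-- `⟨Z^{C_G(B) S}⟩ = ⟨Z₀^{C_G(B)}⟩ (Z ∩ B)` -/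
theorem zl_B : zl (S : Subgroup G) (centralizer (B : Set G) ⊔ (S : Subgroup G)) =
    hul Z₀ (centralizer (B : Set G)) ⊔ (zc (S : Subgroup G) ⊓ B) := by
  apply le_antisymm
  · refine zl_le ?_ ?_
    · exact h.zB.trans (sup_le le_sup_right ((le_hul _ _).trans le_sup_left))
    · have hSZ0 : (S : Subgroup G) ≤ normalizer (Z₀ : Set G) :=
        ((le_CZ S).trans (centralizer_le h.Z0)).trans (centralizer_le_normalizer _)
      refine sup_le (le_normalizer_sup (le_normalizer_hul _ _) ?_) (le_normalizer_sup ?_ ?_)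
      · exact (centralizer_le inf_le_right).trans (centralizer_le_normalizer _)
      · exact norm_hul hSZ0 (h.SB.trans (nc _))
      · exact ((le_CZ S).trans (centralizer_le inf_le_left)).trans (centralizer_le_normalizer _)
  · refine sup_le ?_ (inf_le_left.trans (zc_le_zl _ _))
    refine hul_le_of (h.Z0.trans (zc_le_zl _ _)) (le_sup_left.trans (le_normalizer_zl _ _))

theorem hRW : hul V (centralizer (R₁ : Set G)) ≤ hul V (K2 (S : Subgroup G) Z₁) :=
  hul_mono ((centralizer_le h.ZR).trans le_sup_left)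

theorem B_le_W : B ≤ hul V (K2 (S : Subgroup G) Z₁) := h.BN.trans h.hRW

/-! ### Where `A` and `F` lie -/

/-- `A ∈ AA(C_O(U₁))`: `A ≤ O₂(K₁)` -/
theorem le_o2K1 : o2 (CZ (S : Subgroup G)) ⊓ centralizer (zl (S : Subgroup G) (K1 (S : Subgroup G) L) : Set G) ≤
    o2 (K1 (S : Subgroup G) L) :=
  inf_cent_le h.S_le_K1 (zc_le_zl _ _) (le_normalizer_zl _ _)

/-- `F = C_A(NR) ≤ O₂(C_G(R₁) S)` -/
theorem le_o2R : o2 (CZ (S : Subgroup G)) ⊓ centralizer (hul V (centralizer (R₁ : Set G)) : Set G) ≤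
    o2 (centralizer (R₁ : Set G) ⊔ (S : Subgroup G)) := by
  rw [← h.hul_R]
  exact inf_cent_le le_sup_right (h.ZV.trans (le_hul _ _)) (le_normalizer_hul _ _)

variable (hM : MLK.{u, u})
include hM

/-- `(NO)` on `⟨V^{C_G(R₁)}⟩` -/
theorem noOnR : NoOn (o2 (CZ (S : Subgroup G))) (hul V (centralizer (R₁ : Set G))) := by
  rw [← h.hul_R]
  exact noOn_hul hM h.ctx h.locR (h.kg h.locR) h.nn h.low h.ZV

/-- `(NO)` on `⟨Z₀^{C_G(B)}⟩` for the elementary abelian `A ≤ O` centralising `B` -/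
theorem noB {A : Subgroup G} (hel : IsElementaryAbelian 2 A) (hA : A ≤ o2 (CZ (S : Subgroup G)))
    (hAB : A ≤ centralizer (B : Set G)) :
    (centralizer (hul Z₀ (centralizer (B : Set G)) : Set G)).relIndex A ≤
      (centralizer (A : Set G)).relIndex (hul Z₀ (centralizer (B : Set G))) := by
  have hX := h.locB
  have h1 := gml hM h.ctx hX (h.kg hX) hA (eab_iff.1 hel).2
  have hzc := hX.zl_le S h.ctx.char2
  rw [h.zl_B] at h1 hzc
  set NB : Subgroup G := hul Z₀ (centralizer (B : Set G)) with hNB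
  have hAZ : A ≤ centralizer ((zc (S : Subgroup G) ⊓ B : Subgroup G) : Set G) := hAB.trans (centralizer_le inf_le_right)
  have e1 : (centralizer ((NB ⊔ (zc (S : Subgroup G) ⊓ B) : Subgroup G) : Set G)).relIndex A =
      (centralizer (NB : Set G)).relIndex A := by
    refine relIndex_congr (le_antisymm (inf_le_inf_left _ (centralizer_le (SetLike.coe_subset_coe.2 le_sup_left))) ?_)
    refine le_inf inf_le_left (comm_symm (sup_le (comm_symm inf_le_right) (comm_symm (inf_le_left.trans hAZ))))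
  have e2 : (centralizer (A : Set G)).relIndex (NB ⊔ (zc (S : Subgroup G) ⊓ B)) = (centralizer (A : Set G)).relIndex NB := by
    refine relIndex_sup_of_comm (comm_symm hAZ) ?_
    intro x hx
    rw [mem_centralizer_iff]
    intro y hy
    exact zc_comm _ _ (hzc (le_sup_right (a := NB) hy)) _ (hzc (le_sup_left (b := zc (S : Subgroup G) ⊓ B) hx))
  rwa [e1, e2] at h1

/-- **The two sides.** -/
theorem twoD :
    Side.TwoD (o2 (CZ (S : Subgroup G))) (CZ (S : Subgroup G) ⊔ normalizer ((S : Subgroup G) : Set G))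
      (K1 (S : Subgroup G) L) (K2 (S : Subgroup G) Z₁) L E
      (zl (S : Subgroup G) (K1 (S : Subgroup G) L)) (hul V (K2 (S : Subgroup G) Z₁))
      (hul V (centralizer (R₁ : Set G))) (hul Z₀ (centralizer (B : Set G))) := by
  have l1 := h.locK1
  have l2 := h.locK2
  have hnn := nn_hul hM h.ctx l2 (h.kg l2) h.nn h.low
  have hO1 : o2 (K1 (S : Subgroup G) L) ≤ o2 (CZ (S : Subgroup G)) := o2_le_o2 S (le_CZ S) h.C_le_K1
  have hO2 : o2 (K2 (S : Subgroup G) Z₁) ≤ o2 (CZ (S : Subgroup G)) := o2_le_o2 S (le_CZ S) h.C_le_K2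
  have hz1 := l1.zl_le S h.ctx.char2
  exact
  { OD := (o2_le _).trans le_sup_left
    DO := sup_le (le_normalizer_o2 _) (nS_CZ.trans (normalizer_le_normalizer_o2 _))
    D1 := sup_le h.C_le_K1 le_sup_right
    D2 := sup_le h.C_le_K2 le_sup_right
    e1 := h.L_le_K1
    g1 := sup_le (sup_le le_sup_right (le_sup_left.trans le_sup_left)) (le_sup_right.trans le_sup_left)
    e2 := h.E_le
    g2 := h.K2_le
    el1 := eab_iff.2 ⟨fun x hx => mem_centralizer_iff.2 fun y hy => zc_comm _ _ (hz1 hy) _ (hz1 hx),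
      fun x hx => zc_sq _ _ (hz1 hx)⟩
    el2 := hul_eab hM h.ctx l2 (h.kg l2) h.nn h.low
    UO := (hz1.trans (zc_le _)).trans hO1
    WO := hnn.le.trans hO2
    KU := le_normalizer_zl _ _
    KW := le_normalizer_hul _ _
    q1 := norm_inf h.C_le_K1 (zc_le_zl _ _) (le_normalizer_zl _ _)
    q2 := norm_inf h.C_le_K2 (h.ZV.trans (le_hul _ _)) (le_normalizer_hul _ _)
    core1 := by
      intro X hX hn
      have h1 : X ≤ o2 (K1 (S : Subgroup G) L) :=
        le_o2 (hX.trans ((o2_le _).trans h.C_le_K1)) ((o2_isPGroup _).to_le hX) hn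
      intro x hx
      rw [mem_centralizer_iff]
      intro y hy
      exact ((mem_zc.1 (hz1 hy)).2.1 _ (h1 hx)).symm
    no1 := fun A hel hA => gml hM h.ctx l1 (h.kg l1) hA (eab_iff.1 hel).2
    no2 := noOn_hul hM h.ctx l2 (h.kg l2) h.nn h.low h.ZV
    RW := h.hRW
    ER := h.nNR
    noR := fun A hA => h.noOnR hM A hA.1 (hA.2.1.trans inf_le_left)
    BU := hul_le_of (h.Z0.trans (zc_le_zl _ _)) (h.cB_le.trans (le_normalizer_zl _ _))
    EB := norm_hul (h.EZ.trans (centralizer_le_normalizer _)) (h.EB.trans (nc _))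
    noB := fun A hA => h.noB hM hA.1 (hA.2.1.trans inf_le_left)
      ((hA.2.1.trans inf_le_right).trans (centralizer_le h.B_le_W))
    nonloc := fun X hX h1 h2 => h.nonlocK ((o2_isPGroup _).to_le hX) h1 h2
    ne := fun e => h.zc_ne (le_bot_iff.1 (e ▸ zc_le_zl _ _)) }

end Ab

end Cfsg.Agent.Omega.NOThreeL.RZ.TwoC

end

-- merged: Cfsg.Agent.Mrg.Omega.NOThreeL.RZ.TwoC.AbP
section

section


/-!
# [R-z] (helper855 #24885, helper133 #25243, helper127 #25135): the two sides over the frame `FrE`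

`S` a Sylow 2-subgroup, `Z = Ω₁(Z(S))`, `Y = ⟨P*(S)⟩`, `V* = ⟨Z^Y⟩ ≤ O = O₂(C_G(Z))`, `R, B ≤ V*` are normalised by `Y`,
`N_{K₁}(S)` and `N_{K₂}(S)`, every `A ∈ AA(O)` centralises `R`, `Z₀ = R ∩ Z ≠ 1`, `1 ≠ e ∈ Z ∩ B`, `Y = C_Y(R) C_Y(e)`:
`FrP S R B e`; moreover `B ∩ R = 1` : `FrE S R B e`. `K₁ = C_G(e)`, `K₂ = C_G(Z₀)`, `U₁ = ⟨Z^{K₁}⟩`, `W₂ = ⟨V*^{K₂}⟩`,
`NR = ⟨Z^{Y C_G(R)}⟩`.

* `FrP.lK1`, `lK2`, `lX` : `K₁`, `K₂`, `Y C_G(R)` are local; `FrP.nl` : `⟨K₁, C_Y(R)⟩` is nonlocal;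
* `FrP.QR_cent` : `O₂(C_G(R))` centralises `V*`; `FrP.W2` : `W₂ ≤ A` for `A ∈ AA(C_O(⟨Z^{K₂}⟩))`;
* `FrP.twoP` : `SideP.TwoP`;
* **`FrP.main`, `FrE.main`** : (alpha) or (beta).
-/

set_option autoImplicit false
set_option linter.unusedSectionVars false

namespace Cfsg.Agent.Omega.NOThreeL.RZ.TwoC

open Subgroup Cfsg
open Cfsg.Agent.ZN (o2 zc zl jj)
open Cfsg.Agent.ZN.ChoiceBase hiding mem_zc
open Cfsg.Agent.Omega.ML.Final (MLK)
open Cfsg.Agent.Omega.ML.GMod (hul hul_le hul_le_of le_hul cj_le_hul le_normalizer_hul nc ri_mono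
  normalizer_le_normalizer_o2)
open Cfsg.Agent.Omega.MinPar Cfsg.Agent.Omega.Frame Cfsg.Agent.Omega.FrameNOFF
open Cfsg.Agent.Omega.NO3b.Bang (le_normalizer_sup cent_symm)
open Cfsg.Agent.Omega.NOThreeL.Star (YS le_YS S_le_YS zl_mono)
open Cfsg.Agent.Omega.NO3S.EThree.ExactA (eab_iff eab_mono)
open Cfsg.Agent.Omega.EK3.Rank (NoOn)
open Cfsg.Agent.Omega.NoFF.Basic (comm_symm)
open Cfsg.Agent.Omega.GI (relIndex_congr relIndex_sup_of_comm)
open Cfsg.Agent.MinSimple.VModule (zc_le_zl le_normalizer_zl zl_le zc_le zc_sq zc_comm mem_zc le_centralizer_zc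
  le_normalizer_o2 o2_isPGroup o2_le le_o2 normalizer_le_normalizer_zc)
open Cfsg.Agent.Omega.NOThreeL.RZ.TwoC.Loc (gml o2C_le inf_cent_le norm_inf)
open Cfsg.Agent.Omega.NOThreeL.RZ.TwoC.SideP (NoA TwoP)

universe u

variable {G : Type u} [Group G]

/-- **The frame**, without `B ∩ R = 1`. -/
structure FrP [Finite G] (S : Sylow 2 G) (R B : Subgroup G) (e : G) : Prop where
  ctx : Ctx G
  full : Full (S : Subgroup G)
  nR : YS (S : Subgroup G) ≤ normalizer (R : Set G)
  nB : YS (S : Subgroup G) ≤ normalizer (B : Set G)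
  sE : centralizer ({e} : Set G) ⊓ normalizer ((S : Subgroup G) : Set G) ≤ normalizer (R : Set G) ⊓ normalizer (B : Set G)
  sZ : centralizer ((R ⊓ zc (S : Subgroup G) : Subgroup G) : Set G) ⊓ normalizer ((S : Subgroup G) : Set G) ≤
    normalizer (R : Set G) ⊓ normalizer (B : Set G)
  RV : R ≤ zl (S : Subgroup G) (YS S)
  BV : B ≤ zl (S : Subgroup G) (YS S)
  ne : R ⊓ zc (S : Subgroup G) ≠ ⊥
  hA : ∀ A ∈ AA (o2 (CZ (S : Subgroup G))), A ≤ centralizer (R : Set G)
  low : zl (S : Subgroup G) (YS S) ≤ o2 (CZ (S : Subgroup G))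
  vc : zl (S : Subgroup G) (YS S) ≤ centralizer (zl (S : Subgroup G) (YS S) : Set G)
  vs : ∀ v ∈ zl (S : Subgroup G) (YS S), v ^ 2 = 1
  eZ : e ∈ zc (S : Subgroup G)
  eB : e ∈ B
  e1 : e ≠ 1
  tr : YS (S : Subgroup G) ≤ (YS (S : Subgroup G) ⊓ centralizer (R : Set G)) ⊔
    (YS (S : Subgroup G) ⊓ centralizer ({e} : Set G))

/-- **The frame.** -/
structure FrE [Finite G] (S : Sylow 2 G) (R B : Subgroup G) (e : G) : Prop extends FrP S R B e where
  spl : B ⊓ R = ⊥

/-- `N_G(S)` normalises `⟨P*(S)⟩`. -/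
theorem nS_ys [Finite G] {S : Sylow 2 G} :
    normalizer ((S : Subgroup G) : Set G) ≤ normalizer (YS (S : Subgroup G) : Set G) := by
  intro n hn
  refine mem_normalizer_of_cj_le ?_
  rw [cj, map_le_iff_le_comap]
  refine sSup_le fun P hP => ?_
  rw [← map_le_iff_le_comap]
  exact le_YS ((FrameNOFF.inv S).nF n hn P hP)

namespace FrP

variable [Finite G] {S : Sylow 2 G} {R B : Subgroup G} {e : G} (h : FrP S R B e)
include h

theorem S_le_ys : (S : Subgroup G) ≤ YS (S : Subgroup G) := S_le_YS h.ctx h.full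

theorem vel : IsElementaryAbelian 2 (zl (S : Subgroup G) (YS S)) := eab_iff.2 ⟨h.vc, h.vs⟩

theorem vS : zl (S : Subgroup G) (YS S) ≤ (S : Subgroup G) := h.low.trans o2C_le

theorem R2 : IsPGroup 2 R := S.isPGroup'.to_le (h.RV.trans h.vS)

theorem R1 : R ≠ ⊥ := fun e => h.ne (by rw [e, bot_inf_eq])

theorem zc_ne : zc (S : Subgroup G) ≠ ⊥ := MinSimple.Basic.zc_ne_bot S.isPGroup' (h.ctx.sylow_ne_bot S)

theorem kg {X : Subgroup G} (hL : IsLoc (S : Subgroup G) X) : IsKGroup X :=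
  ML.GNN.kgroup_of_isLoc h.ctx h.ctx.not_isPGroup hL

/-! ### `K₁`, `K₂` -/

theorem C1 : CZ (S : Subgroup G) ≤ centralizer ({e} : Set G) := centralizer_le (Set.singleton_subset_iff.2 h.eZ)

theorem C2 : CZ (S : Subgroup G) ≤ centralizer ((R ⊓ zc (S : Subgroup G) : Subgroup G) : Set G) :=
  centralizer_le inf_le_right

theorem lK1 : IsLoc (S : Subgroup G) (centralizer ({e} : Set G)) := RZ.LowR.isLoc_cent h.eZ h.e1

theorem lK2 : IsLoc (S : Subgroup G) (centralizer ((R ⊓ zc (S : Subgroup G) : Subgroup G) : Set G)) :=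
  isLoc_of_le_normalizer S ((le_CZ S).trans h.C2) (h.R2.to_le inf_le_left) h.ne (centralizer_le_normalizer _)

theorem RK : centralizer (R : Set G) ≤ centralizer ((R ⊓ zc (S : Subgroup G) : Subgroup G) : Set G) :=
  centralizer_le inf_le_left

/-- `Y C_G(R)` is local -/
theorem lX : IsLoc (S : Subgroup G) (YS (S : Subgroup G) ⊔ centralizer (R : Set G)) :=
  isLoc_of_le_normalizer S (h.S_le_ys.trans le_sup_left) h.R2 h.R1 (sup_le h.nR (centralizer_le_normalizer _))

/-- **`⟨K₁, C_Y(R)⟩` is nonlocal** -/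
theorem nl {U : Subgroup G} (hU : IsPGroup 2 U) (h1 : centralizer ({e} : Set G) ≤ normalizer (U : Set G))
    (h2 : YS (S : Subgroup G) ⊓ centralizer (R : Set G) ≤ normalizer (U : Set G)) : U = ⊥ := by
  refine eq_bot_of_norm h.ctx S h.full hU (fun P hP => ?_) (h.C1.trans h1)
  exact (le_YS hP).trans (h.tr.trans (sup_le h2 (inf_le_right.trans h1)))

/-- `P ∈ P(S)`, `P ≤ K` is in `C` or in `Y` -/
theorem le_of_par {P : Subgroup G} (hP : IsPar (S : Subgroup G) P) : P ≤ CZ (S : Subgroup G) ∨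
    (IsParS (S : Subgroup G) P ∧ P ≤ YS (S : Subgroup G)) := by
  by_cases hz : P ≤ normalizer (zc (S : Subgroup G) : Set G)
  · exact Or.inl (Nz.le_centralizer_of hP hz)
  · exact Or.inr ⟨⟨hP, hz⟩, le_YS ⟨hP, hz⟩⟩

/-! ### `V* ≤ A` -/

/-- **`O₂(C_G(R))` centralises `V*`** -/
theorem QR_cent : o2 (centralizer (R : Set G)) ≤ centralizer (zl (S : Subgroup G) (YS S) : Set G) := by
  have hn : YS (S : Subgroup G) ≤ normalizer (o2 (centralizer (R : Set G)) : Set G) :=
    (h.nR.trans (nc _)).trans (normalizer_le_normalizer_o2 _)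
  have hS : o2 (centralizer (R : Set G)) ≤ (S : Subgroup G) :=
    le_of_le_normalizer S (o2_isPGroup _) (h.S_le_ys.trans hn)
  refine comm_symm (zl_le (comm_symm (hS.trans (le_CZ S))) ?_)
  exact hn.trans (nc _)

/-- `O₂(K) ∩ C_G(R) ≤ O₂(C_G(R))` for `K ≥ C_G(R)` -/
theorem inf_le_QR {K : Subgroup G} (hK : centralizer (R : Set G) ≤ K) :
    o2 K ⊓ centralizer (R : Set G) ≤ o2 (centralizer (R : Set G)) :=
  le_o2 inf_le_right ((o2_isPGroup _).to_le inf_le_left)
    (le_trans (le_inf (hK.trans (le_normalizer_o2 _)) Subgroup.le_normalizer) inf_normalizer_le_normalizer_inf)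

theorem inf_le_QB {K : Subgroup G} (hK : centralizer (B : Set G) ≤ K) :
    o2 K ⊓ centralizer (B : Set G) ≤ o2 (centralizer (B : Set G)) :=
  le_o2 inf_le_right ((o2_isPGroup _).to_le inf_le_left)
    (le_trans (le_inf (hK.trans (le_normalizer_o2 _)) Subgroup.le_normalizer) inf_normalizer_le_normalizer_inf)

theorem BK : centralizer (B : Set G) ≤ centralizer ({e} : Set G) :=
  centralizer_le (Set.singleton_subset_iff.2 h.eB)

/-- `NR = ⟨Z^{Y C_G(R)}⟩ ≤ W₂` -/
theorem NR_le : zl (S : Subgroup G) (YS (S : Subgroup G) ⊔ centralizer (R : Set G)) ≤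
    hul (zl (S : Subgroup G) (YS S)) (centralizer ((R ⊓ zc (S : Subgroup G) : Subgroup G) : Set G)) := by
  refine le_trans (zl_le ((zc_le_zl _ _).trans (le_hul (zl (S : Subgroup G) (YS S)) (centralizer (R : Set G)))) ?_)
    (hul_mono h.RK)
  exact sup_le (norm_hul (le_normalizer_zl _ _) (h.nR.trans (nc _))) (le_normalizer_hul _ _)

variable (hM : MLK.{u, u})
include hM

/-- every `A ∈ AA(C_O(⟨Z^{K₂}⟩))` centralises `V*` -/
theorem cent_V {A : Subgroup G} (hA : A ∈ AA (o2 (CZ (S : Subgroup G)) ⊓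
    centralizer (zl (S : Subgroup G) (centralizer ((R ⊓ zc (S : Subgroup G) : Subgroup G) : Set G)) : Set G))) :
    A ≤ centralizer (zl (S : Subgroup G) (YS S) : Set G) := by
  have hU := h.lK2.zl_le S h.ctx.char2
  have hO2 : o2 (centralizer ((R ⊓ zc (S : Subgroup G) : Subgroup G) : Set G)) ≤ o2 (CZ (S : Subgroup G)) :=
    o2_le_o2 S (le_CZ S) h.C2
  have hel : IsElementaryAbelian 2 (zl (S : Subgroup G) (centralizer ((R ⊓ zc (S : Subgroup G) : Subgroup G) : Set G))) :=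
    eab_iff.2 ⟨fun x hx => mem_centralizer_iff.2 fun y hy => zc_comm _ _ (hU hy) _ (hU hx), fun x hx => zc_sq _ _ (hU hx)⟩
  have h1 : A ∈ AA (o2 (CZ (S : Subgroup G))) :=
    EK3.Rank.mem_AA_of_inf hel ((hU.trans (zc_le _)).trans hO2)
      (fun A' hel' hA' => gml hM h.ctx h.lK2 (h.kg h.lK2) hA' (eab_iff.1 hel').2) hA
  have h2 : A ≤ o2 (centralizer ((R ⊓ zc (S : Subgroup G) : Subgroup G) : Set G)) :=
    hA.2.1.trans (inf_cent_le h.lK2.le (zc_le_zl _ _) (le_normalizer_zl _ _))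
  exact ((le_inf h2 (h.hA A h1)).trans (h.inf_le_QR h.RK)).trans h.QR_cent

/-- `W₂`: contained in every `A ∈ AA(C_O(⟨Z^{K₂}⟩))`, elementary abelian, `≤ O`, `(NO)` -/
theorem W2 :
    (∀ A ∈ AA (o2 (CZ (S : Subgroup G)) ⊓
      centralizer (zl (S : Subgroup G) (centralizer ((R ⊓ zc (S : Subgroup G) : Subgroup G) : Set G)) : Set G)),
      hul (zl (S : Subgroup G) (YS S)) (centralizer ((R ⊓ zc (S : Subgroup G) : Subgroup G) : Set G)) ≤ A) ∧
    IsElementaryAbelian 2
      (hul (zl (S : Subgroup G) (YS S)) (centralizer ((R ⊓ zc (S : Subgroup G) : Subgroup G) : Set G))) ∧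
    hul (zl (S : Subgroup G) (YS S)) (centralizer ((R ⊓ zc (S : Subgroup G) : Subgroup G) : Set G)) ≤
      o2 (CZ (S : Subgroup G)) ∧
    NoA (o2 (CZ (S : Subgroup G)))
      (hul (zl (S : Subgroup G) (YS S)) (centralizer ((R ⊓ zc (S : Subgroup G) : Subgroup G) : Set G))) := by
  have hU := h.lK2.zl_le S h.ctx.char2
  have hO2 : o2 (centralizer ((R ⊓ zc (S : Subgroup G) : Subgroup G) : Set G)) ≤ o2 (CZ (S : Subgroup G)) :=
    o2_le_o2 S (le_CZ S) h.C2
  refine SideP.noA_hul (U := zl (S : Subgroup G) (centralizer ((R ⊓ zc (S : Subgroup G) : Subgroup G) : Set G)))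
    (eab_iff.2 ⟨fun x hx => mem_centralizer_iff.2 fun y hy => zc_comm _ _ (hU hy) _ (hU hx),
      fun x hx => zc_sq _ _ (hU hx)⟩) ((hU.trans (zc_le _)).trans hO2)
    (fun A hA => gml hM h.ctx h.lK2 (h.kg h.lK2) hA.2.1 (eab_iff.1 hA.1).2)
    (norm_inf h.C2 (zc_le_zl _ _) (le_normalizer_zl _ _)) h.vel h.low ?_ fun A hA => h.cent_V hM hA
  exact zl_le ((zc_le_zl _ _).trans (le_hul _ _)) (le_normalizer_hul _ _)

/-- **The two sides.** -/
theorem twoP :
    TwoP (o2 (CZ (S : Subgroup G))) (CZ (S : Subgroup G)) (centralizer ({e} : Set G))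
      (centralizer ((R ⊓ zc (S : Subgroup G) : Subgroup G) : Set G))
      ((centralizer ({e} : Set G) ⊓ YS (S : Subgroup G)) ⊔
        (centralizer ({e} : Set G) ⊓ normalizer ((S : Subgroup G) : Set G)))
      (YS (S : Subgroup G) ⊓ centralizer (R : Set G))
      (zl (S : Subgroup G) (centralizer ({e} : Set G)))
      (hul (zl (S : Subgroup G) (YS S)) (centralizer ((R ⊓ zc (S : Subgroup G) : Subgroup G) : Set G)))
      (zl (S : Subgroup G) (YS (S : Subgroup G) ⊔ centralizer (R : Set G)))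
      (o2 (centralizer (B : Set G))) := by
  have hO1 : o2 (centralizer ({e} : Set G)) ≤ o2 (CZ (S : Subgroup G)) := o2_le_o2 S (le_CZ S) h.C1
  have hz1 := h.lK1.zl_le S h.ctx.char2
  have hVW : zl (S : Subgroup G) (YS S) ≤
      hul (zl (S : Subgroup G) (YS S)) (centralizer ((R ⊓ zc (S : Subgroup G) : Subgroup G) : Set G)) := le_hul _ _
  obtain ⟨_, w1, w2, w3⟩ := h.W2 hM
  exact
  { D1 := h.C1
    D2 := h.C2
    e1 := sup_le inf_le_left inf_le_left
    g1 := by
      refine h.lK1.le_of_forall S (le_sup_right.trans le_sup_right) fun P hP hPK => ?_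
      rcases h.le_of_par hP with h1 | h1
      · exact h1.trans le_sup_left
      · exact ((le_inf hPK h1.2).trans le_sup_left).trans le_sup_right
    e2 := inf_le_right.trans h.RK
    el1 := eab_iff.2 ⟨fun x hx => mem_centralizer_iff.2 fun y hy => zc_comm _ _ (hz1 hy) _ (hz1 hx),
      fun x hx => zc_sq _ _ (hz1 hx)⟩
    el2 := w1
    UO := (hz1.trans (zc_le _)).trans hO1
    WO := w2
    KU := le_normalizer_zl _ _
    KW := le_normalizer_hul _ _
    q1 := norm_inf h.C1 (zc_le_zl _ _) (le_normalizer_zl _ _)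
    q2 := norm_inf h.C2 ((zc_le_zl _ _).trans hVW) (le_normalizer_hul _ _)
    core1 := by
      intro X hX hn
      have h1 : X ≤ o2 (centralizer ({e} : Set G)) := le_o2 (hX.trans ((o2_le _).trans h.C1)) ((o2_isPGroup _).to_le hX) hn
      intro x hx
      rw [mem_centralizer_iff]
      intro y hy
      exact ((mem_zc.1 (hz1 hy)).2.1 _ (h1 hx)).symm
    no1 := fun A hA => gml hM h.ctx h.lK1 (h.kg h.lK1) hA.2.1 (eab_iff.1 hA.1).2
    no2 := w3
    RW := h.NR_le
    ER := by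
      refine sup_le (inf_le_right.trans (le_sup_left.trans (le_normalizer_zl _ _))) ?_
      intro n hn'
      have hn := hn'.2
      have hnR := (h.sE hn').1
      have h1 : cj n (zl (S : Subgroup G) (YS (S : Subgroup G) ⊔ centralizer (R : Set G))) =
          zl (cj n (S : Subgroup G)) (cj n (YS (S : Subgroup G) ⊔ centralizer (R : Set G))) :=
        (MinSimple.CosetFam.zl_conj n _ _).symm
      rw [mem_normalizer_iff_cj, h1, cj_eq_of_mem_normalizer hn,
        cj_eq_of_mem_normalizer (le_normalizer_sup (A := zpowers n) (by rw [zpowers_le]; exact nS_ys hn)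
          (by rw [zpowers_le]; exact nc _ hnR) (mem_zpowers n))]
    noR := fun A hA => gml hM h.ctx h.lX (h.kg h.lX) (hA.2.1.trans inf_le_left) (eab_iff.1 hA.1).2
    qB := by
      refine le_trans (le_inf ?_ ?_) (h.inf_le_QB h.BK)
      · exact inf_le_left.trans (inf_cent_le h.lK1.le (zc_le_zl _ _) (le_normalizer_zl _ _))
      · exact inf_le_right.trans (centralizer_le (h.BV.trans hVW))
    EQ := (inf_le_left.trans h.nB).trans ((nc _).trans (normalizer_le_normalizer_o2 _))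
    nonloc := fun X hX h1 h2 => h.nl ((o2_isPGroup _).to_le hX) h1 h2
    ne := fun e => h.zc_ne (le_bot_iff.1 (e ▸ zc_le_zl _ _)) }

/-- **(alpha) or (beta).** -/
theorem main :
    (∃ A ∈ AA (o2 (CZ (S : Subgroup G))), zl (S : Subgroup G) (centralizer ({e} : Set G)) ≤ A ∧
      A ≤ o2 (centralizer ({e} : Set G)) ∧ ∃ F : Subgroup G, F ≤ A ∧ F ≤ o2 (centralizer (R : Set G)) ∧
      ¬ F ≤ centralizer
        (hul (zl (S : Subgroup G) (YS S)) (centralizer ((R ⊓ zc (S : Subgroup G) : Subgroup G) : Set G)) : Set G) ∧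
      (centralizer (hul (zl (S : Subgroup G) (YS S))
        (centralizer ((R ⊓ zc (S : Subgroup G) : Subgroup G) : Set G)) : Set G)).relIndex F =
        (centralizer (F : Set G)).relIndex
          (hul (zl (S : Subgroup G) (YS S)) (centralizer ((R ⊓ zc (S : Subgroup G) : Subgroup G) : Set G)))) ∨
    (∃ X₁ : Subgroup G, IsElementaryAbelian 2 X₁ ∧ centralizer ({e} : Set G) ≤ normalizer (X₁ : Set G) ∧
      zl (S : Subgroup G) (YS S) ≤ X₁ ∧ zl (S : Subgroup G) (centralizer ({e} : Set G)) ≤ X₁ ∧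
      X₁ ≤ o2 (CZ (S : Subgroup G)) ∧
      ∃ F ∈ AA (o2 (CZ (S : Subgroup G))), zl (S : Subgroup G) (YS S) ≤ F ∧
        F ≤ o2 (centralizer ((R ⊓ zc (S : Subgroup G) : Subgroup G) : Set G)) ∧
        F ≤ o2 (centralizer (B : Set G)) ∧
        ¬ F ≤ centralizer (zl (S : Subgroup G) (centralizer ({e} : Set G)) : Set G) ∧
        ¬ F ≤ o2 (centralizer ({e} : Set G)) ∧
        F ⊓ centralizer (zl (S : Subgroup G) (centralizer ({e} : Set G)) : Set G) ≤ centralizer (X₁ : Set G) ∧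
        (centralizer (X₁ : Set G)).relIndex F = (centralizer (F : Set G)).relIndex X₁) := by
  have D := h.twoP hM
  have hVW : zl (S : Subgroup G) (YS S) ≤
      hul (zl (S : Subgroup G) (YS S)) (centralizer ((R ⊓ zc (S : Subgroup G) : Subgroup G) : Set G)) := le_hul _ _
  rcases D.main with ⟨A, hA, hAO, hU, hm, he⟩ | ⟨X₁, _, hel, hn, hW, hU, hO, _, _, F, hF, hFO, hWF, hQ, hm, hc, he⟩
  · refine Or.inl ⟨A, hAO, hU, hA.2.1.trans (inf_cent_le h.lK1.le (zc_le_zl _ _) (le_normalizer_zl _ _)), _,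
      inf_le_left, ?_, hm, he⟩
    have h1 : A ⊓ centralizer (zl (S : Subgroup G) (YS (S : Subgroup G) ⊔ centralizer (R : Set G)) : Set G) ≤
        o2 (YS (S : Subgroup G) ⊔ centralizer (R : Set G)) :=
      (inf_le_inf_right _ hAO.2.1).trans (inf_cent_le h.lX.le (zc_le_zl _ _) (le_normalizer_zl _ _))
    exact (le_inf h1 (inf_le_left.trans (h.hA A hAO))).trans (h.inf_le_QR le_sup_right)
  · refine Or.inr ⟨X₁, hel, hn, hVW.trans hW, hU, hO, F, hFO, hVW.trans hWF, ?_, hQ, hm, ?_, hc, he⟩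
    · exact hF.2.1.trans (inf_cent_le h.lK2.le ((zc_le_zl _ _).trans hVW) (le_normalizer_hul _ _))
    · intro hcon
      apply hm
      have hz1 := h.lK1.zl_le S h.ctx.char2
      intro x hx
      rw [mem_centralizer_iff]
      intro y hy
      exact ((mem_zc.1 (hz1 hy)).2.1 _ (hcon hx)).symm

end FrP

/-- **(alpha) or (beta).** -/
theorem FrE.main [Finite G] {S : Sylow 2 G} {R B : Subgroup G} {e : G} (h : FrE S R B e) (hM : MLK.{u, u}) :
    (∃ A ∈ AA (o2 (CZ (S : Subgroup G))), zl (S : Subgroup G) (centralizer ({e} : Set G)) ≤ A ∧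
      A ≤ o2 (centralizer ({e} : Set G)) ∧ ∃ F : Subgroup G, F ≤ A ∧ F ≤ o2 (centralizer (R : Set G)) ∧
      ¬ F ≤ centralizer
        (hul (zl (S : Subgroup G) (YS S)) (centralizer ((R ⊓ zc (S : Subgroup G) : Subgroup G) : Set G)) : Set G) ∧
      (centralizer (hul (zl (S : Subgroup G) (YS S))
        (centralizer ((R ⊓ zc (S : Subgroup G) : Subgroup G) : Set G)) : Set G)).relIndex F =
        (centralizer (F : Set G)).relIndex
          (hul (zl (S : Subgroup G) (YS S)) (centralizer ((R ⊓ zc (S : Subgroup G) : Subgroup G) : Set G)))) ∨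
    (∃ X₁ : Subgroup G, IsElementaryAbelian 2 X₁ ∧ centralizer ({e} : Set G) ≤ normalizer (X₁ : Set G) ∧
      zl (S : Subgroup G) (YS S) ≤ X₁ ∧ zl (S : Subgroup G) (centralizer ({e} : Set G)) ≤ X₁ ∧
      X₁ ≤ o2 (CZ (S : Subgroup G)) ∧
      ∃ F ∈ AA (o2 (CZ (S : Subgroup G))), zl (S : Subgroup G) (YS S) ≤ F ∧
        F ≤ o2 (centralizer ((R ⊓ zc (S : Subgroup G) : Subgroup G) : Set G)) ∧
        F ≤ o2 (centralizer (B : Set G)) ∧
        ¬ F ≤ centralizer (zl (S : Subgroup G) (centralizer ({e} : Set G)) : Set G) ∧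
        ¬ F ≤ o2 (centralizer ({e} : Set G)) ∧
        F ⊓ centralizer (zl (S : Subgroup G) (centralizer ({e} : Set G)) : Set G) ≤ centralizer (X₁ : Set G) ∧
        (centralizer (X₁ : Set G)).relIndex F = (centralizer (F : Set G)).relIndex X₁) :=
  h.toFrP.main hM

/-- `N_G(S)` normalises `R` and `B`. -/
theorem FrE.of_norm [Finite G] {S : Sylow 2 G} {R B : Subgroup G} {e : G} (ctx : Ctx G) (full : Full (S : Subgroup G))
    (nR : YS (S : Subgroup G) ≤ normalizer (R : Set G)) (nB : YS (S : Subgroup G) ≤ normalizer (B : Set G))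
    (sR : normalizer ((S : Subgroup G) : Set G) ≤ normalizer (R : Set G))
    (sB : normalizer ((S : Subgroup G) : Set G) ≤ normalizer (B : Set G))
    (RV : R ≤ zl (S : Subgroup G) (YS S)) (BV : B ≤ zl (S : Subgroup G) (YS S)) (ne : R ⊓ zc (S : Subgroup G) ≠ ⊥)
    (hA : ∀ A ∈ AA (o2 (CZ (S : Subgroup G))), A ≤ centralizer (R : Set G))
    (low : zl (S : Subgroup G) (YS S) ≤ o2 (CZ (S : Subgroup G)))
    (vc : zl (S : Subgroup G) (YS S) ≤ centralizer (zl (S : Subgroup G) (YS S) : Set G))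
    (vs : ∀ v ∈ zl (S : Subgroup G) (YS S), v ^ 2 = 1) (spl : B ⊓ R = ⊥) (eZ : e ∈ zc (S : Subgroup G)) (eB : e ∈ B)
    (e1 : e ≠ 1) (tr : YS (S : Subgroup G) ≤ (YS (S : Subgroup G) ⊓ centralizer (R : Set G)) ⊔
      (YS (S : Subgroup G) ⊓ centralizer ({e} : Set G))) : FrE S R B e :=
  { ctx := ctx, full := full, nR := nR, nB := nB
    sE := le_inf (inf_le_right.trans sR) (inf_le_right.trans sB)
    sZ := le_inf (inf_le_right.trans sR) (inf_le_right.trans sB)
    RV := RV, BV := BV, ne := ne, hA := hA, low := low, vc := vc, vs := vs, eZ := eZ, eB := eB, e1 := e1, tr := tr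
    spl := spl }

end Cfsg.Agent.Omega.NOThreeL.RZ.TwoC

end

section


/-!
# [K], [H], [I3], [R-z] (bb #25243, #25865, #25809, #26172): the frame with a variable centre `Z₀`

As `AbP.lean` (helper652), but `Z₀ ≤ R ∩ Z` is a variable: `K₁ = C_G(e)`, `K₂ = C_G(Z₀)`, and only the members of
`AA(O)` which lie in `O₂(K₂)` are assumed to centralise `R`.

* `FrV S R B Z₀ e` : the frame;  **`FrV.main`** : (alpha) or (beta);
* `FrV.altR`, `altB` : `P ∈ P*(S)`: `C_S(R) ≤ O₂(P)` or `P = C_P(R) S` (and the same for `B`);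
* `FrV.le_o2_one`, `le_o2_two`, `sep`.
-/

set_option autoImplicit false
set_option linter.unusedSectionVars false

namespace Cfsg.Agent.Omega.NOThreeL.RZ.TwoC

open Subgroup Cfsg
open Cfsg.Agent.ZN (o2 zc zl jj)
open Cfsg.Agent.ZN.ChoiceBase hiding mem_zc
open Cfsg.Agent.Omega.ML.Final (MLK)
open Cfsg.Agent.Omega.ML.GMod (hul hul_le hul_le_of le_hul cj_le_hul le_normalizer_hul nc ri_mono
  normalizer_le_normalizer_o2)
open Cfsg.Agent.Omega.MinPar Cfsg.Agent.Omega.Frame Cfsg.Agent.Omega.FrameNOFF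
open Cfsg.Agent.Omega.NO3b.Bang (le_normalizer_sup cent_symm)
open Cfsg.Agent.Omega.NOThreeL.Star (YS le_YS S_le_YS zl_mono)
open Cfsg.Agent.Omega.NO3S.EThree.ExactA (eab_iff eab_mono)
open Cfsg.Agent.Omega.EK3.Rank (NoOn)
open Cfsg.Agent.Omega.NoFF.Basic (comm_symm)
open Cfsg.Agent.Omega.GI (relIndex_congr relIndex_sup_of_comm)
open Cfsg.Agent.MinSimple.VModule (zc_le_zl le_normalizer_zl zl_le zc_le zc_sq zc_comm mem_zc le_centralizer_zc
  le_normalizer_o2 o2_isPGroup o2_le le_o2 normalizer_le_normalizer_zc)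
open Cfsg.Agent.Omega.NOThreeL.RZ.TwoC.Loc (gml o2C_le inf_cent_le norm_inf)
open Cfsg.Agent.Omega.NOThreeL.RZ.TwoC.SideP (NoA TwoP)

universe u

variable {G : Type u} [Group G]

/-- **The frame.** -/
structure FrV [Finite G] (S : Sylow 2 G) (R B Z₀ : Subgroup G) (e : G) : Prop where
  ctx : Ctx G
  full : Full (S : Subgroup G)
  nR : YS (S : Subgroup G) ≤ normalizer (R : Set G)
  nB : YS (S : Subgroup G) ≤ normalizer (B : Set G)
  sE : centralizer ({e} : Set G) ⊓ normalizer ((S : Subgroup G) : Set G) ≤ normalizer (R : Set G) ⊓ normalizer (B : Set G)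
  sZ : centralizer (Z₀ : Set G) ⊓ normalizer ((S : Subgroup G) : Set G) ≤
    normalizer (R : Set G) ⊓ normalizer (B : Set G)
  RV : R ≤ zl (S : Subgroup G) (YS S)
  BV : B ≤ zl (S : Subgroup G) (YS S)
  Z0R : Z₀ ≤ R ⊓ zc (S : Subgroup G)
  ne : Z₀ ≠ ⊥
  hA : ∀ A ∈ AA (o2 (CZ (S : Subgroup G))), A ≤ o2 (centralizer (Z₀ : Set G)) → A ≤ centralizer (R : Set G)
  low : zl (S : Subgroup G) (YS S) ≤ o2 (CZ (S : Subgroup G))
  vc : zl (S : Subgroup G) (YS S) ≤ centralizer (zl (S : Subgroup G) (YS S) : Set G)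
  vs : ∀ v ∈ zl (S : Subgroup G) (YS S), v ^ 2 = 1
  eZ : e ∈ zc (S : Subgroup G)
  eB : e ∈ B
  e1 : e ≠ 1
  tr : YS (S : Subgroup G) ≤ (YS (S : Subgroup G) ⊓ centralizer (R : Set G)) ⊔
    (YS (S : Subgroup G) ⊓ centralizer ({e} : Set G))
  spl : B ⊓ R = ⊥

namespace FrV

variable [Finite G] {S : Sylow 2 G} {R B Z₀ : Subgroup G} {e : G} (h : FrV S R B Z₀ e)
include h

theorem S_le_ys : (S : Subgroup G) ≤ YS (S : Subgroup G) := S_le_YS h.ctx h.full

theorem vel : IsElementaryAbelian 2 (zl (S : Subgroup G) (YS S)) := eab_iff.2 ⟨h.vc, h.vs⟩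

theorem vS : zl (S : Subgroup G) (YS S) ≤ (S : Subgroup G) := h.low.trans o2C_le

theorem R2 : IsPGroup 2 R := S.isPGroup'.to_le (h.RV.trans h.vS)

theorem R1 : R ≠ ⊥ := fun e => h.ne (le_bot_iff.1 (e ▸ h.Z0R.trans inf_le_left))

theorem zc_ne : zc (S : Subgroup G) ≠ ⊥ := MinSimple.Basic.zc_ne_bot S.isPGroup' (h.ctx.sylow_ne_bot S)

theorem kg {X : Subgroup G} (hL : IsLoc (S : Subgroup G) X) : IsKGroup X :=
  ML.GNN.kgroup_of_isLoc h.ctx h.ctx.not_isPGroup hL

/-! ### `K₁`, `K₂` -/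

theorem C1 : CZ (S : Subgroup G) ≤ centralizer ({e} : Set G) := centralizer_le (Set.singleton_subset_iff.2 h.eZ)

theorem C2 : CZ (S : Subgroup G) ≤ centralizer (Z₀ : Set G) :=
  centralizer_le (h.Z0R.trans inf_le_right)

theorem lK1 : IsLoc (S : Subgroup G) (centralizer ({e} : Set G)) := RZ.LowR.isLoc_cent h.eZ h.e1

theorem lK2 : IsLoc (S : Subgroup G) (centralizer (Z₀ : Set G)) :=
  isLoc_of_le_normalizer S ((le_CZ S).trans h.C2) (h.R2.to_le (h.Z0R.trans inf_le_left)) h.ne (centralizer_le_normalizer _)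

theorem RK : centralizer (R : Set G) ≤ centralizer (Z₀ : Set G) :=
  centralizer_le (h.Z0R.trans inf_le_left)

/-- `Y C_G(R)` is local -/
theorem lX : IsLoc (S : Subgroup G) (YS (S : Subgroup G) ⊔ centralizer (R : Set G)) :=
  isLoc_of_le_normalizer S (h.S_le_ys.trans le_sup_left) h.R2 h.R1 (sup_le h.nR (centralizer_le_normalizer _))

/-- **`⟨K₁, C_Y(R)⟩` is nonlocal** -/
theorem nl {U : Subgroup G} (hU : IsPGroup 2 U) (h1 : centralizer ({e} : Set G) ≤ normalizer (U : Set G))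
    (h2 : YS (S : Subgroup G) ⊓ centralizer (R : Set G) ≤ normalizer (U : Set G)) : U = ⊥ := by
  refine eq_bot_of_norm h.ctx S h.full hU (fun P hP => ?_) (h.C1.trans h1)
  exact (le_YS hP).trans (h.tr.trans (sup_le h2 (inf_le_right.trans h1)))

/-- `P ∈ P(S)`, `P ≤ K` is in `C` or in `Y` -/
theorem le_of_par {P : Subgroup G} (hP : IsPar (S : Subgroup G) P) : P ≤ CZ (S : Subgroup G) ∨
    (IsParS (S : Subgroup G) P ∧ P ≤ YS (S : Subgroup G)) := by
  by_cases hz : P ≤ normalizer (zc (S : Subgroup G) : Set G)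
  · exact Or.inl (Nz.le_centralizer_of hP hz)
  · exact Or.inr ⟨⟨hP, hz⟩, le_YS ⟨hP, hz⟩⟩

/-! ### `V* ≤ A` -/

/-- **`O₂(C_G(R))` centralises `V*`** -/
theorem QR_cent : o2 (centralizer (R : Set G)) ≤ centralizer (zl (S : Subgroup G) (YS S) : Set G) := by
  have hn : YS (S : Subgroup G) ≤ normalizer (o2 (centralizer (R : Set G)) : Set G) :=
    (h.nR.trans (nc _)).trans (normalizer_le_normalizer_o2 _)
  have hS : o2 (centralizer (R : Set G)) ≤ (S : Subgroup G) :=
    le_of_le_normalizer S (o2_isPGroup _) (h.S_le_ys.trans hn)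
  refine comm_symm (zl_le (comm_symm (hS.trans (le_CZ S))) ?_)
  exact hn.trans (nc _)

/-- `O₂(K) ∩ C_G(R) ≤ O₂(C_G(R))` for `K ≥ C_G(R)` -/
theorem inf_le_QR {K : Subgroup G} (hK : centralizer (R : Set G) ≤ K) :
    o2 K ⊓ centralizer (R : Set G) ≤ o2 (centralizer (R : Set G)) :=
  le_o2 inf_le_right ((o2_isPGroup _).to_le inf_le_left)
    (le_trans (le_inf (hK.trans (le_normalizer_o2 _)) Subgroup.le_normalizer) inf_normalizer_le_normalizer_inf)

theorem inf_le_QB {K : Subgroup G} (hK : centralizer (B : Set G) ≤ K) :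
    o2 K ⊓ centralizer (B : Set G) ≤ o2 (centralizer (B : Set G)) :=
  le_o2 inf_le_right ((o2_isPGroup _).to_le inf_le_left)
    (le_trans (le_inf (hK.trans (le_normalizer_o2 _)) Subgroup.le_normalizer) inf_normalizer_le_normalizer_inf)

theorem BK : centralizer (B : Set G) ≤ centralizer ({e} : Set G) :=
  centralizer_le (Set.singleton_subset_iff.2 h.eB)

/-- `NR = ⟨Z^{Y C_G(R)}⟩ ≤ W₂` -/
theorem NR_le : zl (S : Subgroup G) (YS (S : Subgroup G) ⊔ centralizer (R : Set G)) ≤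
    hul (zl (S : Subgroup G) (YS S)) (centralizer (Z₀ : Set G)) := by
  refine le_trans (zl_le ((zc_le_zl _ _).trans (le_hul (zl (S : Subgroup G) (YS S)) (centralizer (R : Set G)))) ?_)
    (hul_mono h.RK)
  exact sup_le (norm_hul (le_normalizer_zl _ _) (h.nR.trans (nc _))) (le_normalizer_hul _ _)

variable (hM : MLK.{u, u})
include hM

/-- every `A ∈ AA(C_O(⟨Z^{K₂}⟩))` centralises `V*` -/
theorem cent_V {A : Subgroup G} (hA : A ∈ AA (o2 (CZ (S : Subgroup G)) ⊓
    centralizer (zl (S : Subgroup G) (centralizer (Z₀ : Set G)) : Set G))) :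
    A ≤ centralizer (zl (S : Subgroup G) (YS S) : Set G) := by
  have hU := h.lK2.zl_le S h.ctx.char2
  have hO2 : o2 (centralizer (Z₀ : Set G)) ≤ o2 (CZ (S : Subgroup G)) :=
    o2_le_o2 S (le_CZ S) h.C2
  have hel : IsElementaryAbelian 2 (zl (S : Subgroup G) (centralizer (Z₀ : Set G))) :=
    eab_iff.2 ⟨fun x hx => mem_centralizer_iff.2 fun y hy => zc_comm _ _ (hU hy) _ (hU hx), fun x hx => zc_sq _ _ (hU hx)⟩
  have h1 : A ∈ AA (o2 (CZ (S : Subgroup G))) :=
    EK3.Rank.mem_AA_of_inf hel ((hU.trans (zc_le _)).trans hO2)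
      (fun A' hel' hA' => gml hM h.ctx h.lK2 (h.kg h.lK2) hA' (eab_iff.1 hel').2) hA
  have h2 : A ≤ o2 (centralizer (Z₀ : Set G)) :=
    hA.2.1.trans (inf_cent_le h.lK2.le (zc_le_zl _ _) (le_normalizer_zl _ _))
  exact ((le_inf h2 (h.hA A h1 h2)).trans (h.inf_le_QR h.RK)).trans h.QR_cent

/-- `W₂`: contained in every `A ∈ AA(C_O(⟨Z^{K₂}⟩))`, elementary abelian, `≤ O`, `(NO)` -/
theorem W2 :
    (∀ A ∈ AA (o2 (CZ (S : Subgroup G)) ⊓
      centralizer (zl (S : Subgroup G) (centralizer (Z₀ : Set G)) : Set G)),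
      hul (zl (S : Subgroup G) (YS S)) (centralizer (Z₀ : Set G)) ≤ A) ∧
    IsElementaryAbelian 2
      (hul (zl (S : Subgroup G) (YS S)) (centralizer (Z₀ : Set G))) ∧
    hul (zl (S : Subgroup G) (YS S)) (centralizer (Z₀ : Set G)) ≤
      o2 (CZ (S : Subgroup G)) ∧
    NoA (o2 (CZ (S : Subgroup G)))
      (hul (zl (S : Subgroup G) (YS S)) (centralizer (Z₀ : Set G))) := by
  have hU := h.lK2.zl_le S h.ctx.char2
  have hO2 : o2 (centralizer (Z₀ : Set G)) ≤ o2 (CZ (S : Subgroup G)) :=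
    o2_le_o2 S (le_CZ S) h.C2
  refine SideP.noA_hul (U := zl (S : Subgroup G) (centralizer (Z₀ : Set G)))
    (eab_iff.2 ⟨fun x hx => mem_centralizer_iff.2 fun y hy => zc_comm _ _ (hU hy) _ (hU hx),
      fun x hx => zc_sq _ _ (hU hx)⟩) ((hU.trans (zc_le _)).trans hO2)
    (fun A hA => gml hM h.ctx h.lK2 (h.kg h.lK2) hA.2.1 (eab_iff.1 hA.1).2)
    (norm_inf h.C2 (zc_le_zl _ _) (le_normalizer_zl _ _)) h.vel h.low ?_ fun A hA => h.cent_V hM hA
  exact zl_le ((zc_le_zl _ _).trans (le_hul _ _)) (le_normalizer_hul _ _)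

/-- **The two sides.** -/
theorem twoP :
    TwoP (o2 (CZ (S : Subgroup G))) (CZ (S : Subgroup G)) (centralizer ({e} : Set G))
      (centralizer (Z₀ : Set G))
      ((centralizer ({e} : Set G) ⊓ YS (S : Subgroup G)) ⊔
        (centralizer ({e} : Set G) ⊓ normalizer ((S : Subgroup G) : Set G)))
      (YS (S : Subgroup G) ⊓ centralizer (R : Set G))
      (zl (S : Subgroup G) (centralizer ({e} : Set G)))
      (hul (zl (S : Subgroup G) (YS S)) (centralizer (Z₀ : Set G)))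
      (zl (S : Subgroup G) (YS (S : Subgroup G) ⊔ centralizer (R : Set G)))
      (o2 (centralizer (B : Set G))) := by
  have hO1 : o2 (centralizer ({e} : Set G)) ≤ o2 (CZ (S : Subgroup G)) := o2_le_o2 S (le_CZ S) h.C1
  have hz1 := h.lK1.zl_le S h.ctx.char2
  have hVW : zl (S : Subgroup G) (YS S) ≤
      hul (zl (S : Subgroup G) (YS S)) (centralizer (Z₀ : Set G)) := le_hul _ _
  obtain ⟨_, w1, w2, w3⟩ := h.W2 hM
  exact
  { D1 := h.C1
    D2 := h.C2
    e1 := sup_le inf_le_left inf_le_left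
    g1 := by
      refine h.lK1.le_of_forall S (le_sup_right.trans le_sup_right) fun P hP hPK => ?_
      rcases h.le_of_par hP with h1 | h1
      · exact h1.trans le_sup_left
      · exact ((le_inf hPK h1.2).trans le_sup_left).trans le_sup_right
    e2 := inf_le_right.trans h.RK
    el1 := eab_iff.2 ⟨fun x hx => mem_centralizer_iff.2 fun y hy => zc_comm _ _ (hz1 hy) _ (hz1 hx),
      fun x hx => zc_sq _ _ (hz1 hx)⟩
    el2 := w1
    UO := (hz1.trans (zc_le _)).trans hO1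
    WO := w2
    KU := le_normalizer_zl _ _
    KW := le_normalizer_hul _ _
    q1 := norm_inf h.C1 (zc_le_zl _ _) (le_normalizer_zl _ _)
    q2 := norm_inf h.C2 ((zc_le_zl _ _).trans hVW) (le_normalizer_hul _ _)
    core1 := by
      intro X hX hn
      have h1 : X ≤ o2 (centralizer ({e} : Set G)) := le_o2 (hX.trans ((o2_le _).trans h.C1)) ((o2_isPGroup _).to_le hX) hn
      intro x hx
      rw [mem_centralizer_iff]
      intro y hy
      exact ((mem_zc.1 (hz1 hy)).2.1 _ (h1 hx)).symm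
    no1 := fun A hA => gml hM h.ctx h.lK1 (h.kg h.lK1) hA.2.1 (eab_iff.1 hA.1).2
    no2 := w3
    RW := h.NR_le
    ER := by
      refine sup_le (inf_le_right.trans (le_sup_left.trans (le_normalizer_zl _ _))) ?_
      intro n hn'
      have hn := hn'.2
      have hnR := (h.sE hn').1
      have h1 : cj n (zl (S : Subgroup G) (YS (S : Subgroup G) ⊔ centralizer (R : Set G))) =
          zl (cj n (S : Subgroup G)) (cj n (YS (S : Subgroup G) ⊔ centralizer (R : Set G))) :=
        (MinSimple.CosetFam.zl_conj n _ _).symm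
      rw [mem_normalizer_iff_cj, h1, cj_eq_of_mem_normalizer hn,
        cj_eq_of_mem_normalizer (le_normalizer_sup (A := zpowers n) (by rw [zpowers_le]; exact nS_ys hn)
          (by rw [zpowers_le]; exact nc _ hnR) (mem_zpowers n))]
    noR := fun A hA => gml hM h.ctx h.lX (h.kg h.lX) (hA.2.1.trans inf_le_left) (eab_iff.1 hA.1).2
    qB := by
      refine le_trans (le_inf ?_ ?_) (h.inf_le_QB h.BK)
      · exact inf_le_left.trans (inf_cent_le h.lK1.le (zc_le_zl _ _) (le_normalizer_zl _ _))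
      · exact inf_le_right.trans (centralizer_le (h.BV.trans hVW))
    EQ := (inf_le_left.trans h.nB).trans ((nc _).trans (normalizer_le_normalizer_o2 _))
    nonloc := fun X hX h1 h2 => h.nl ((o2_isPGroup _).to_le hX) h1 h2
    ne := fun e => h.zc_ne (le_bot_iff.1 (e ▸ zc_le_zl _ _)) }

/-- **(alpha) or (beta).** -/
theorem main :
    (∃ A ∈ AA (o2 (CZ (S : Subgroup G))), zl (S : Subgroup G) (centralizer ({e} : Set G)) ≤ A ∧
      A ≤ o2 (centralizer ({e} : Set G)) ∧ ∃ F : Subgroup G, F ≤ A ∧ F ≤ o2 (centralizer (R : Set G)) ∧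
      ¬ F ≤ centralizer
        (hul (zl (S : Subgroup G) (YS S)) (centralizer (Z₀ : Set G)) : Set G) ∧
      (centralizer (hul (zl (S : Subgroup G) (YS S))
        (centralizer (Z₀ : Set G)) : Set G)).relIndex F =
        (centralizer (F : Set G)).relIndex
          (hul (zl (S : Subgroup G) (YS S)) (centralizer (Z₀ : Set G)))) ∨
    (∃ X₁ : Subgroup G, IsElementaryAbelian 2 X₁ ∧ centralizer ({e} : Set G) ≤ normalizer (X₁ : Set G) ∧
      zl (S : Subgroup G) (YS S) ≤ X₁ ∧ zl (S : Subgroup G) (centralizer ({e} : Set G)) ≤ X₁ ∧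
      X₁ ≤ o2 (CZ (S : Subgroup G)) ∧
      ∃ F ∈ AA (o2 (CZ (S : Subgroup G))), zl (S : Subgroup G) (YS S) ≤ F ∧
        F ≤ o2 (centralizer (Z₀ : Set G)) ∧
        F ≤ o2 (centralizer (B : Set G)) ∧
        ¬ F ≤ centralizer (zl (S : Subgroup G) (centralizer ({e} : Set G)) : Set G) ∧
        ¬ F ≤ o2 (centralizer ({e} : Set G)) ∧
        F ⊓ centralizer (zl (S : Subgroup G) (centralizer ({e} : Set G)) : Set G) ≤ centralizer (X₁ : Set G) ∧
        (centralizer (X₁ : Set G)).relIndex F = (centralizer (F : Set G)).relIndex X₁) := by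
  have D := h.twoP hM
  have hVW : zl (S : Subgroup G) (YS S) ≤
      hul (zl (S : Subgroup G) (YS S)) (centralizer (Z₀ : Set G)) := le_hul _ _
  rcases D.main with ⟨A, hA, hAO, hU, hm, he⟩ | ⟨X₁, _, hel, hn, hW, hU, hO, _, _, F, hF, hFO, hWF, hQ, hm, hc, he⟩
  · refine Or.inl ⟨A, hAO, hU, hA.2.1.trans (inf_cent_le h.lK1.le (zc_le_zl _ _) (le_normalizer_zl _ _)), _,
      inf_le_left, ?_, hm, he⟩
    have h1 : A ⊓ centralizer (zl (S : Subgroup G) (YS (S : Subgroup G) ⊔ centralizer (R : Set G)) : Set G) ≤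
        o2 (YS (S : Subgroup G) ⊔ centralizer (R : Set G)) :=
      (inf_le_inf_right _ hAO.2.1).trans (inf_cent_le h.lX.le (zc_le_zl _ _) (le_normalizer_zl _ _))
    exact (le_inf h1 (inf_le_right.trans (centralizer_le (h.RV.trans (zl_mono le_sup_left))))).trans
      (h.inf_le_QR le_sup_right)
  · refine Or.inr ⟨X₁, hel, hn, hVW.trans hW, hU, hO, F, hFO, hVW.trans hWF, ?_, hQ, hm, ?_, hc, he⟩
    · exact hF.2.1.trans (inf_cent_le h.lK2.le ((zc_le_zl _ _).trans hVW) (le_normalizer_hul _ _))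
    · intro hcon
      apply hm
      have hz1 := h.lK1.zl_le S h.ctx.char2
      intro x hx
      rw [mem_centralizer_iff]
      intro y hy
      exact ((mem_zc.1 (hz1 hy)).2.1 _ (hcon hx)).symm

omit hM

/-! ### The minimal parabolics -/

/-- `P ∈ P*(S)`, `X = R` or `B`: `C_S(X) ≤ O₂(P)` or `P = C_P(X) S` -/
theorem altX {X P : Subgroup G} (nX : YS (S : Subgroup G) ≤ normalizer (X : Set G)) (hP : IsParS (S : Subgroup G) P) :
    (S : Subgroup G) ⊓ centralizer (X : Set G) ≤ o2 P ∨ (P ⊓ centralizer (X : Set G)) ⊔ (S : Subgroup G) = P := by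
  have hPR : P ≤ normalizer (X : Set G) := (le_YS hP).trans nX
  have hn : P ≤ normalizer ((P ⊓ centralizer (X : Set G) : Subgroup G) : Set G) := by
    intro p hp
    rw [mem_normalizer_iff_cj, cj_inf, cj_centralizer, cj_eq_of_mem_normalizer (le_normalizer hp),
      cj_eq_of_mem_normalizer (hPR hp)]
  rcases hP.toIsPar.sup_eq_or_inf_le S inf_le_left hn with h1 | h1
  · exact Or.inr h1
  · exact Or.inl ((le_inf inf_le_left (le_inf (inf_le_left.trans hP.le) inf_le_right)).trans h1)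

/-- then `P` centralises `X ∩ Z` -/
theorem le_of_alt {X P : Subgroup G} (h1 : (P ⊓ centralizer (X : Set G)) ⊔ (S : Subgroup G) = P) :
    P ≤ centralizer ((X ⊓ zc (S : Subgroup G) : Subgroup G) : Set G) := by
  rw [← h1]
  exact sup_le (inf_le_right.trans (centralizer_le inf_le_left))
    ((le_CZ S).trans (centralizer_le inf_le_right))

/-- `P ∈ P*(S)` with `C_S(X) ≤ O₂(P)` normalises `C_S(X)` -/
theorem nJ {X P : Subgroup G} (nX : YS (S : Subgroup G) ≤ normalizer (X : Set G)) (hP : IsParS (S : Subgroup G) P)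
    (h1 : (S : Subgroup G) ⊓ centralizer (X : Set G) ≤ o2 P) :
    P ≤ normalizer (((S : Subgroup G) ⊓ centralizer (X : Set G) : Subgroup G) : Set G) := by
  have e : (S : Subgroup G) ⊓ centralizer (X : Set G) = o2 P ⊓ centralizer (X : Set G) :=
    le_antisymm (le_inf h1 inf_le_right) (inf_le_inf_right _ (hP.isLoc.o2_le S))
  rw [e]
  intro p hp
  rw [mem_normalizer_iff_cj, cj_inf, cj_centralizer, cj_eq_of_mem_normalizer (le_normalizer_o2 P hp),
    cj_eq_of_mem_normalizer (nX (le_YS hP hp))]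

/-- **side 1**: `F ≤ O₂(P)` for all `P ∈ P(S)` -/
theorem le_o2_one {F : Subgroup G} (hFO : F ≤ o2 (CZ (S : Subgroup G))) (hFR : F ≤ centralizer (R : Set G))
    (hF2 : F ≤ o2 (centralizer (Z₀ : Set G))) {P : Subgroup G} (hP : IsPar (S : Subgroup G) P) : F ≤ o2 P := by
  rcases h.le_of_par hP with h1 | ⟨h1, _⟩
  · exact hFO.trans (o2_le_o2 S hP.le h1)
  · rcases h.altX h.nR h1 with h2 | h2
    · exact (le_inf (hFO.trans Loc.o2C_le) hFR).trans h2
    · exact hF2.trans (o2_le_o2 S hP.le ((h.le_of_alt h2).trans (centralizer_le h.Z0R)))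

theorem nQR : (S : Subgroup G) ≤ normalizer (o2 (centralizer (R : Set G)) : Set G) :=
  ((h.S_le_ys.trans h.nR).trans (nc _)).trans (normalizer_le_normalizer_o2 _)

theorem QR_le : o2 (centralizer (R : Set G)) ≤ (S : Subgroup G) :=
  le_of_le_normalizer S (o2_isPGroup _) h.nQR

/-- **side 2**: `F ≤ O₂(P)` for all `P ∈ P(S)` -/
theorem le_o2_two {F : Subgroup G} (hFO : F ≤ o2 (CZ (S : Subgroup G)))
    (hFQ : F ≤ o2 (centralizer (R : Set G))) {P : Subgroup G}
    (hP : IsPar (S : Subgroup G) P) : F ≤ o2 P := by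
  rcases h.le_of_par hP with h1 | ⟨h1, _⟩
  · exact hFO.trans (o2_le_o2 S hP.le h1)
  · rcases h.altX h.nR h1 with h2 | h2
    · exact (le_inf (hFO.trans Loc.o2C_le) (hFQ.trans (o2_le _))).trans h2
    · refine hFQ.trans (le_o2 (h.QR_le.trans hP.le) (o2_isPGroup _) ?_)
      rw [← h2]
      exact sup_le (inf_le_right.trans (le_normalizer_o2 _)) h.nQR

/-- `C_{V*}(S) ≤ Z` -/
theorem fixV {v : G} (hv : v ∈ zl (S : Subgroup G) (YS S)) (hs : ∀ s ∈ (S : Subgroup G), s * v = v * s) :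
    v ∈ zc (S : Subgroup G) := mem_zc.2 ⟨h.vS hv, hs, h.vs v hv⟩

/-- **`g ∈ N(R) ∩ N(B)` which centralises `z y` centralises `z` and `y`** -/
theorem sep {g z y : G} (hgR : g ∈ normalizer (R : Set G)) (hgB : g ∈ normalizer (B : Set G)) (hz : z ∈ R) (hy : y ∈ B)
    (hc : g * (z * y) = z * y * g) : g * z = z * g ∧ g * y = y * g := by
  have h1 : g * z * g⁻¹ ∈ R := (mem_normalizer_iff.1 hgR z).1 hz
  have h2 : g * y * g⁻¹ ∈ B := (mem_normalizer_iff.1 hgB y).1 hy
  have e1 : z⁻¹ * (g * z * g⁻¹) = y * (g * y * g⁻¹)⁻¹ := by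
    have e2 : g * z * g⁻¹ * (g * y * g⁻¹) = z * y := by
      calc g * z * g⁻¹ * (g * y * g⁻¹) = g * (z * y) * g⁻¹ := by group
        _ = z * y * g * g⁻¹ := by rw [hc]
        _ = z * y := by group
    calc z⁻¹ * (g * z * g⁻¹) = z⁻¹ * (g * z * g⁻¹ * (g * y * g⁻¹)) * (g * y * g⁻¹)⁻¹ := by group
      _ = z⁻¹ * (z * y) * (g * y * g⁻¹)⁻¹ := by rw [e2]
      _ = y * (g * y * g⁻¹)⁻¹ := by group
  have h3 : z⁻¹ * (g * z * g⁻¹) ∈ B ⊓ R :=
    ⟨by rw [e1]; exact B.mul_mem hy (B.inv_mem h2), R.mul_mem (R.inv_mem hz) h1⟩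
  rw [h.spl, mem_bot] at h3
  have h4 : g * z * g⁻¹ = z := (inv_mul_eq_one.1 h3).symm
  have h5 : g * y * g⁻¹ = y := by
    rw [h3] at e1
    exact (mul_inv_eq_one.1 e1.symm).symm
  exact ⟨mul_inv_eq_iff_eq_mul.1 h4, mul_inv_eq_iff_eq_mul.1 h5⟩

end FrV

end Cfsg.Agent.Omega.NOThreeL.RZ.TwoC

end

section


/-!
# [R-z] (helper133 #25243; helper616's fill-in (f1)): `V* ≤ O₂(C_G(Z))`

`Y = ⟨P*(S)⟩`, `R`, `B` with `V* = ⟨Z^Y⟩ ≤ B R`, `R = ⟨(R ∩ Z)^Y⟩`, `B ≤ ⟨Z^{C_Y(R)}⟩`, `R ∩ Z ≠ 1`, `1 ≠ e ∈ Z`,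
`Y = C_Y(R) C_Y(e)`.

* `conj_of_tr` : `e^Y = e^{C_Y(R)}`;
* `lowR` : `R ≤ O₂(C_G(Z))`;  `lowB` : `B ≤ O₂(C_G(Z))`;  **`low_star`** : `V* ≤ O₂(C_G(Z))`.
-/

set_option autoImplicit false
set_option linter.unusedSectionVars false

namespace Cfsg.Agent.Omega.NOThreeL.RZ.TwoC.LowP

open Subgroup Cfsg
open Cfsg.Agent.ZN (o2 zc zl jj)
open Cfsg.Agent.ZN.ChoiceBase hiding mem_zc
open Cfsg.Agent.Omega.ML.GMod (hul hul_le hul_le_of le_hul cj_le_hul le_normalizer_hul nc)
open Cfsg.Agent.Omega.MinPar Cfsg.Agent.Omega.Frame Cfsg.Agent.Omega.FrameNOFF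
open Cfsg.Agent.Omega.NOThreeL.Star (YS le_YS S_le_YS)
open Cfsg.Agent.MinSimple.VModule (zc_le_zl le_normalizer_zl zl_le zc_le mem_zc le_centralizer_zc
  le_normalizer_o2 o2_isPGroup o2_le le_o2)

universe u

variable {G : Type u} [Group G] [Finite G] {S : Sylow 2 G} {R B : Subgroup G} {e : G}

/-- `e^Y = e^{C_Y(R)}` -/
theorem conj_of_tr {Y : Subgroup G} (nR : Y ≤ normalizer (R : Set G))
    (tr : Y ≤ (Y ⊓ centralizer (R : Set G)) ⊔ (Y ⊓ centralizer ({e} : Set G))) {y : G} (hy : y ∈ Y) :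
    ∃ c ∈ Y, c ∈ centralizer (R : Set G) ∧ c * e * c⁻¹ = y * e * y⁻¹ := by
  have hn : Y ⊓ centralizer ({e} : Set G) ≤ normalizer ((Y ⊓ centralizer (R : Set G) : Subgroup G) : Set G) := by
    intro x hx
    rw [mem_normalizer_iff_cj, cj_inf, cj_centralizer, cj_eq_of_mem_normalizer (le_normalizer hx.1),
      cj_eq_of_mem_normalizer (nR hx.1)]
  have h1 : y ∈ (((Y ⊓ centralizer (R : Set G)) ⊔ (Y ⊓ centralizer ({e} : Set G)) : Subgroup G) : Set G) := tr hy
  rw [coe_mul_of_right_le_normalizer_left _ _ hn, Set.mem_mul] at h1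
  obtain ⟨c, hc, x, hx, rfl⟩ := h1
  refine ⟨c, hc.1, hc.2, ?_⟩
  have h2 : x * e = e * x := mem_centralizer_singleton_iff.1 hx.2
  calc c * e * c⁻¹ = c * (e * x) * x⁻¹ * c⁻¹ := by group
    _ = c * (x * e) * x⁻¹ * c⁻¹ := by rw [h2]
    _ = c * x * e * (c * x)⁻¹ := by group

/-- `R ≤ O₂(C_G(Z))` -/
theorem lowR (hc : IsCharacteristicTwoType G) (nR : YS (S : Subgroup G) ≤ normalizer (R : Set G))
    (gR : R ≤ NoFF.Basic.V (R ⊓ zc (S : Subgroup G)) (YS (S : Subgroup G))) (eZ : e ∈ zc (S : Subgroup G)) (e1 : e ≠ 1)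
    (tr : YS (S : Subgroup G) ≤ (YS (S : Subgroup G) ⊓ centralizer (R : Set G)) ⊔
      (YS (S : Subgroup G) ⊓ centralizer ({e} : Set G))) : R ≤ o2 (CZ (S : Subgroup G)) :=
  LowR.low_of hc nR gR eZ e1 fun _ hy => conj_of_tr nR tr hy

/-- `B ≤ O₂(C_G(Z))` -/
theorem lowB (hc : IsCharacteristicTwoType G) (R2 : IsPGroup 2 R) (ne : R ⊓ zc (S : Subgroup G) ≠ ⊥)
    (gB : B ≤ hul (zc (S : Subgroup G)) (centralizer (R : Set G))) : B ≤ o2 (CZ (S : Subgroup G)) := by
  have hC : CZ (S : Subgroup G) ≤ centralizer ((R ⊓ zc (S : Subgroup G) : Subgroup G) : Set G) :=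
    centralizer_le inf_le_right
  have hL : IsLoc (S : Subgroup G) (centralizer ((R ⊓ zc (S : Subgroup G) : Subgroup G) : Set G)) :=
    isLoc_of_le_normalizer S ((le_CZ S).trans hC) (R2.to_le inf_le_left) ne (centralizer_le_normalizer _)
  have h1 : hul (zc (S : Subgroup G)) (centralizer (R : Set G)) ≤
      zl (S : Subgroup G) (centralizer ((R ⊓ zc (S : Subgroup G) : Subgroup G) : Set G)) :=
    hul_le_of (zc_le_zl _ _) ((centralizer_le inf_le_left).trans (le_normalizer_zl _ _))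
  exact gB.trans (h1.trans (((hL.zl_le S hc).trans (zc_le _)).trans (o2_le_o2 S (le_CZ S) hC)))

/-- **`V* ≤ O₂(C_G(Z))`** -/
theorem low_star (hc : IsCharacteristicTwoType G) (nR : YS (S : Subgroup G) ≤ normalizer (R : Set G))
    (R2 : IsPGroup 2 R) (gR : R ≤ NoFF.Basic.V (R ⊓ zc (S : Subgroup G)) (YS (S : Subgroup G)))
    (ne : R ⊓ zc (S : Subgroup G) ≠ ⊥) (eZ : e ∈ zc (S : Subgroup G)) (e1 : e ≠ 1)
    (tr : YS (S : Subgroup G) ≤ (YS (S : Subgroup G) ⊓ centralizer (R : Set G)) ⊔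
      (YS (S : Subgroup G) ⊓ centralizer ({e} : Set G)))
    (gB : B ≤ hul (zc (S : Subgroup G)) (centralizer (R : Set G)))
    (hV : zl (S : Subgroup G) (YS S) ≤ B ⊔ R) : zl (S : Subgroup G) (YS S) ≤ o2 (CZ (S : Subgroup G)) :=
  hV.trans (sup_le (lowB hc R2 ne gB) (lowR hc nR gR eZ e1 tr))

end Cfsg.Agent.Omega.NOThreeL.RZ.TwoC.LowP

end

end
end

-- part: Mrg/Omega/NOThreeL/RZ/TwoC/EndV
section
prune_inst 0x34200100040200000000000200002424680001000020000158400a000a0633230844210074f00a000912a6a0400a804004cc101d2038000020008a0040000000042932e6913cbc0011000640f807180c00000000000000000000000000041000200000000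
set_option linter.all false
open scoped Cfsg.Agent.FastGrp

-- merged: Cfsg.Agent.Mrg.Omega.KL.StarR.GrpR
section

/-!
# KL* with an object which is only normalised: the plug on the level of subgroups (bb #24309 (6), #25079, #25588)

* `PreR T A J Q Z Z' Y` : the input `InpR` of helper345 for an action which need not be faithful and an `A` which is
  exact modulo the kernel (`Z'` any group of `T`-fixed vectors such that `A` is faithful on `⟨Z'^C⟩` modulo the kernel);
  **`PreR.inp`** : `InpR` for `C / C_C(M)` and an atom inside the image of `A`;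
* `GInR C T A J Q M Z Z' Y` : the input on the level of subgroups of `G`: `C` normalises the elementary abelian `M`,
  `T` is a Sylow 2-subgroup of `C`;  **`GInR.inpR`**.

Side 1 of [R-z]: `GInR C_G(e) S F C_S(R) Q X₁ Z₀ Z B`, `hb = Or.inl`;  side 2: `GInR C_G(Z₀) S F ⊥ Q W₂ ⟨e⟩ Z R`,
`hb = Or.inr`.
-/

set_option autoImplicit false
set_option linter.unusedSectionVars false

namespace Cfsg.Agent.Omega.KL.StarR

open Subgroup Cfsg Cfsg.Agent.Omega.MinPar
open Cfsg.Agent.ZN (o2)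
open Cfsg.Agent.ClassTwoFusion.Quad Cfsg.Agent.Omega.ML.MinFrame
open Cfsg.Agent.MinSimple.MinParabolic (IsMinPar)
open Cfsg.Agent.Omega.NoFF.Basic (mem_conj conj_le_iff V_le Z_le_V)
open Cfsg.Agent.MinSimple.VModule (le_o2 o2_isPGroup o2_le le_normalizer_o2 o2_le_of_sylow oddGen oddGen_def)
open Cfsg.Agent.Omega.KL.Quo (norm_lift exists_minPar)
open Cfsg.Agent.Omega.KL.TwoS (exists_odd actX)
open scoped Pointwise

universe u v

/-- the input `InpR` for `C` acting on `M`, with an `A` which is exact modulo the kernel -/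
structure PreR {C : Type u} [Group C] {M : Type v} [Group M] [MulDistribMulAction C M] (T A J Q : Subgroup C)
    (Z Z' Y : Subgroup M) : Prop where
  sq : ∀ m : M, m * m = 1
  two : IsPGroup 2 T
  syl : ¬ 2 ∣ T.index
  tZ : ∀ z ∈ Z, ∀ t ∈ T, t • z = z
  tZ' : ∀ z ∈ Z', ∀ t ∈ T, t • z = z
  NZ : ∀ g ∈ normalizer (T : Set C), ∀ z ∈ Z, g • z ∈ Z
  NQ : normalizer (T : Set C) ≤ Q
  QY : ∀ q ∈ Q, ∀ w ∈ Y, q • w ∈ Y
  QJ : Q ≤ normalizer (J : Set C)
  JT : J ≤ T
  par : ∀ P : Subgroup C, IsMinPar T P → (∀ z ∈ Z, ∀ p ∈ P, p • z = z) ∨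
    (∀ g ∈ P, Odd (orderOf g) → ∀ w ∈ Y, g • w = w) ∨ (A ≤ o2 P ∧ J ≤ o2 P ∧ P ≤ Q)
  sep : ∀ g ∈ Q, Odd (orderOf g) → ∀ z ∈ Z, ∀ y ∈ Y, g • (z * y) = z * y → g • z = z
  hb : Bad J Q Y ∨ Cen T Y
  el : ∀ a ∈ A, a * a = 1
  AZ : A ≤ o2 (fxr C Z)
  AY : A ≤ o2 (fxr C Y ⊔ T)
  /-- `A` is faithful on `⟨Z'^C⟩` modulo the kernel -/
  nk : ∀ a ∈ A, (∀ (c : C), ∀ z ∈ Z', a • c • z = c • z) → ∀ m : M, a • m = m
  mv : ∃ a ∈ A, ∃ m : M, a • m ≠ m
  no : ∀ B : Subgroup C, B ≤ A → (fxr C (⊤ : Subgroup M)).relIndex B ≤ (cv M (B : Set C)).index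
  le : (cv M (A : Set C)).index ≤ (fxr C (⊤ : Subgroup M)).relIndex A
  KC : IsKGroup C

section pre

variable {C : Type u} [Group C] [Finite C] {M : Type v} [Group M] [Finite M] [MulDistribMulAction C M]
  {T A J Q : Subgroup C} {Z Z' Y : Subgroup M}

theorem PreR.inp (h : PreR T A J Q Z Z' Y) :
    ∃ (H : Type u) (_ : Group H) (_ : Finite H) (_ : MulDistribMulAction H M) (T' A' J' Q' : Subgroup H),
      InpR T' A' J' Q' Z Y := by
  have htriv : ∀ k ∈ fxr C (⊤ : Subgroup M), ∀ m : M, k • m = m := fun k hk m => hk m (mem_top m)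
  have hN : (fxr C (⊤ : Subgroup M)).Normal := fxr_normal fun _ _ _ => mem_top _
  set N := fxr C (⊤ : Subgroup M) with hNdef
  let _ : MulDistribMulAction (C ⧸ N) M := quoAct N htriv
  let π : C →* C ⧸ N := QuotientGroup.mk' N
  have hπ : Function.Surjective π := QuotientGroup.mk'_surjective N
  have he : ∀ (g : C) (v : M), π g • v = g • v := fun _ _ => rfl
  have hker : ∀ k : C, (∀ v : M, k • v = v) → π k = 1 := fun k hk =>
    (QuotientGroup.eq_one_iff k).2 fun v _ => hk v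
  have hker2 : ∀ k : C, π k = 1 → ∀ v : M, k • v = v := fun k hk v =>
    (QuotientGroup.eq_one_iff k).1 hk v (mem_top v)
  -- stabilisers
  have hfx : ∀ Y' : Subgroup M, (fxr C Y').map π = fxr (C ⧸ N) Y' := by
    intro Y'
    ext g
    constructor
    · rintro ⟨c, hc, rfl⟩
      exact hc
    · intro hg
      obtain ⟨c, rfl⟩ := hπ g
      exact ⟨c, hg, rfl⟩
  have ho2 : ∀ S : Subgroup C, A ≤ o2 S → A.map π ≤ o2 (S.map π) := by
    intro S hS
    exact (map_mono hS).trans (KL.GenTool.o2_map_le π S)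
  have hy : A.map π ≤ o2 (fxr (C ⧸ N) Y ⊔ T.map π) := by
    rw [← hfx, ← Subgroup.map_sup]
    exact ho2 _ h.AY
  have hz' : A.map π ≤ o2 (fxr (C ⧸ N) Z) := by
    rw [← hfx]
    exact ho2 _ h.AZ
  have hsyl : ¬ 2 ∣ (T.map π).index := fun h2 => h.syl (h2.trans (index_map_dvd T hπ))
  have hKH : IsKGroup (C ⧸ N) := ML.Final.sec_KG.quo C h.KC N
  have hel : ∀ a ∈ A.map π, a * a = 1 := by
    rintro _ ⟨a, ha, rfl⟩
    rw [← map_mul, h.el a ha, map_one]
  -- `A.map π` is faithful on `⟨Z'^C⟩`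
  have hfa : ∀ g ∈ A.map π, (∀ (c : C ⧸ N), ∀ z ∈ Z', g • c • z = c • z) → g = 1 := by
    rintro _ ⟨a, ha, rfl⟩ hg
    exact hker a (h.nk a ha fun c z hz => hg (π c) z hz)
  -- (NO)
  have hcv : ∀ B : Subgroup C, cv M (B.map π : Set (C ⧸ N)) = cv M (B : Set C) := by
    intro B
    ext v
    constructor
    · exact fun hv a ha => hv _ ⟨a, ha, rfl⟩
    · rintro hv _ ⟨a, ha, rfl⟩
      exact hv a ha
  have hcard : ∀ B : Subgroup C, Nat.card (B.map π) = N.relIndex B := by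
    intro B
    rw [← relIndex_bot_left, ← relIndex_comap, MonoidHom.comap_bot, QuotientGroup.ker_mk']
  have hno : ∀ B : Subgroup (C ⧸ N), B ≤ A.map π → Nat.card B ≤ (cv M (B : Set (C ⧸ N))).index := by
    intro B hB
    have e : (A ⊓ B.comap π).map π = B := by
      apply le_antisymm
      · rintro _ ⟨a, ha, rfl⟩
        exact ha.2
      · intro g hg
        obtain ⟨a, ha, rfl⟩ := hB hg
        exact ⟨a, ⟨ha, hg⟩, rfl⟩
    rw [← e, hcv, hcard]
    exact h.no _ inf_le_left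
  have hex : (cv M (A.map π : Set (C ⧸ N))).index = Nat.card (A.map π) := by
    refine le_antisymm ?_ (hno _ le_rfl)
    rw [hcv, hcard]
    exact h.le
  have hA1 : A.map π ≠ ⊥ := by
    intro h1
    obtain ⟨a, ha, m, hm⟩ := h.mv
    apply hm
    refine hker2 a ?_ m
    rw [← mem_bot, ← h1]
    exact ⟨a, ha, rfl⟩
  -- an atom
  obtain ⟨B, ⟨hBA, hB1, hBe⟩, hmin⟩ : ∃ B : Subgroup (C ⧸ N), (B ≤ A.map π ∧ B ≠ ⊥ ∧
      (cv M (B : Set (C ⧸ N))).index = Nat.card B) ∧ ∀ B' : Subgroup (C ⧸ N), (B' ≤ A.map π ∧ B' ≠ ⊥ ∧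
      (cv M (B' : Set (C ⧸ N))).index = Nat.card B') → B' ≤ B → B' = B := by
    obtain ⟨B, hB⟩ := (Set.toFinite {B : Subgroup (C ⧸ N) | B ≤ A.map π ∧ B ≠ ⊥ ∧
      (cv M (B : Set (C ⧸ N))).index = Nat.card B}).exists_minimal ⟨A.map π, le_rfl, hA1, hex⟩
    exact ⟨B, hB.prop, fun B' hB' hle => le_antisymm hle (hB.le_of_le hB' hle)⟩
  have htZ' : ∀ z ∈ Z', ∀ t ∈ T.map π, t • z = z := by
    rintro z hz _ ⟨t, ht, rfl⟩
    exact h.tZ' z hz t ht
  have hnT : ∀ g ∈ normalizer ((T.map π : Subgroup (C ⧸ N)) : Set (C ⧸ N)),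
      ∃ c ∈ normalizer (T : Set C), π c = g := by
    intro g hg
    obtain ⟨t, ht, n, hn, rfl⟩ := norm_lift π hπ h.two h.syl hg
    exact ⟨t * n, mul_mem (le_normalizer ht) hn, rfl⟩
  refine ⟨C ⧸ N, inferInstance, inferInstance, inferInstance, T.map π, B, J.map π, Q.map π, ?_⟩
  exact
    { sq := h.sq
      two := h.two.map π
      syl := hsyl
      tZ := by
        rintro z hz _ ⟨t, ht, rfl⟩
        exact h.tZ z hz t ht
      NZ := by
        intro g hg z hz
        obtain ⟨n, hn, rfl⟩ := hnT g hg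
        exact h.NZ n hn z hz
      NQ := by
        intro g hg
        obtain ⟨n, hn, rfl⟩ := hnT g hg
        exact ⟨n, h.NQ hn, rfl⟩
      QY := by
        rintro _ ⟨q, hq, rfl⟩ w hw
        exact h.QY q hq w hw
      QJ := (map_mono h.QJ).trans (le_normalizer_map π)
      JT := map_mono h.JT
      par := by
        intro P hP
        obtain ⟨R, hR, rfl⟩ := exists_minPar π hπ hP
        rcases h.par R hR with h1 | h1 | ⟨h1, h2, h3⟩
        · left
          rintro z hz _ ⟨r, hr, rfl⟩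
          exact h1 z hz r hr
        · right
          left
          intro g hg hog w hw
          obtain ⟨c, hc, hco, rfl⟩ := exists_odd π hg hog
          exact h1 c hc hco w hw
        · right
          right
          exact ⟨hBA.trans ((map_mono h1).trans (KL.GenTool.o2_map_le π R)),
            (map_mono h2).trans (KL.GenTool.o2_map_le π R), map_mono h3⟩
      sep := by
        intro g hg hog z hz y hy hgz
        obtain ⟨c, hc, hco, rfl⟩ := exists_odd π hg hog
        exact h.sep c hc hco z hz y hy hgz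
      hb := by
        rcases h.hb with h1 | h1
        · left
          intro d hd hdo hcomm w hw
          obtain ⟨c, hc, hco, rfl⟩ := exists_odd π hd hdo
          exact h1 c hc hco (fun j hj w hw => hcomm (π j) ⟨j, hj, rfl⟩ w hw) w hw
        · right
          intro w hw tw g
          obtain ⟨c, rfl⟩ := hπ g
          exact h1 w hw (fun t ht => tw (π t) ⟨t, ht, rfl⟩) c
      el := fun a ha => hel a (hBA ha)
      exact := hBe
      atom := by
        intro B' hB' hB1' hne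
        refine lt_of_le_of_ne (hno B' (hB'.trans hBA)) fun h1 => hne ?_
        exact hmin B' ⟨hB'.trans hBA, hB1', h1.symm⟩ hB'
      nA := by
        -- `O₂(H)` centralises `⟨Z'^H⟩`
        intro hle
        apply hB1
        rw [eq_bot_iff]
        intro b hb
        rw [mem_bot]
        refine hfa b (hBA hb) fun c z hz => ?_
        have h1 : c⁻¹ * b * c ∈ o2 (⊤ : Subgroup (C ⧸ N)) := by
          have := (mem_normalizer_iff.1 (le_normalizer_o2 (⊤ : Subgroup (C ⧸ N)) (mem_top c⁻¹)) b).1 (hle hb)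
          rwa [inv_inv] at this
        have h2 : o2 (⊤ : Subgroup (C ⧸ N)) ≤ T.map π :=
          o2_le_of_sylow (h.two.map π) (by rwa [relIndex_top_right])
        have h3 := htZ' z hz _ (h2 h1)
        rw [mul_smul, mul_smul, inv_smul_eq_iff] at h3
        exact h3
      AZ := hBA.trans hz'
      AY := hBA.trans hy
      KH := hKH }

end pre

/-! ### Subgroups -/

/-- **the input on the level of subgroups of `G`** -/
structure GInR {G : Type u} [Group G] (C T A J Q M Z Z' Y : Subgroup G) : Prop where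
  CM : C ≤ normalizer (M : Set G)
  sqM : ∀ m ∈ M, m ^ 2 = 1
  TC : T ≤ C
  two : IsPGroup 2 T
  syl : ¬ 2 ∣ T.relIndex C
  ZM : Z ≤ M
  ZM' : Z' ≤ M
  YM : Y ≤ M
  TZ : T ≤ centralizer (Z : Set G)
  TZ' : T ≤ centralizer (Z' : Set G)
  NZ : C ⊓ normalizer (T : Set G) ≤ normalizer (Z : Set G)
  NQ : C ⊓ normalizer (T : Set G) ≤ Q
  QY : C ⊓ Q ≤ normalizer (Y : Set G)
  QJ : C ⊓ Q ≤ normalizer (J : Set G)
  JT : J ≤ T
  AT : A ≤ T
  par : ∀ P : Subgroup G, IsMinPar T P → P ≤ C → P ≤ centralizer (Z : Set G) ∨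
    (∀ g ∈ P, Odd (orderOf g) → g ∈ centralizer (Y : Set G)) ∨ (A ≤ o2 P ∧ J ≤ o2 P ∧ P ≤ Q)
  /-- e.g. `Q` normalises `Y` and `R ≥ Z`, `Y ∩ R = 1` -/
  sep : ∀ g ∈ C, g ∈ Q → Odd (orderOf g) → ∀ z ∈ Z, ∀ y ∈ Y, g * (z * y) = z * y * g → g * z = z * g
  hb : (∀ d ∈ C, d ∈ Q → Odd (orderOf d) →
      (∀ j ∈ J, ∀ w ∈ Y, (j * d * j⁻¹ * d⁻¹) * (d * w * d⁻¹ * w⁻¹) = (d * w * d⁻¹ * w⁻¹) * (j * d * j⁻¹ * d⁻¹)) →
      d ∈ centralizer (Y : Set G)) ∨
    Y ⊓ centralizer (T : Set G) ≤ centralizer (C : Set G)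
  sqA : ∀ a ∈ A, a ^ 2 = 1
  AZ : A ≤ o2 (C ⊓ centralizer (Z : Set G))
  AY : A ≤ o2 (C ⊓ centralizer (Y : Set G) ⊔ T)
  nk : A ⊓ centralizer (NoFF.Basic.V Z' C : Set G) ≤ centralizer (M : Set G)
  mv : ¬ A ≤ centralizer (M : Set G)
  no : ∀ B : Subgroup G, B ≤ A →
    (centralizer (M : Set G)).relIndex B ≤ (centralizer (B : Set G)).relIndex M
  le : (centralizer (A : Set G)).relIndex M ≤ (centralizer (M : Set G)).relIndex A
  K : IsKGroup C

namespace GInR

variable {G : Type u} [Group G] {C T A J Q M Z Z' Y : Subgroup G}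

theorem preR [Finite G] (h : GInR C T A J Q M Z Z' Y) :
    letI := actX h.CM
    PreR (T.subgroupOf C) (A.subgroupOf C) (J.subgroupOf C) (Q.subgroupOf C) (Z.subgroupOf M) (Z'.subgroupOf M)
      (Y.subgroupOf M) := by
  let := actX h.CM
  change PreR (T.subgroupOf C) (A.subgroupOf C) (J.subgroupOf C) (Q.subgroupOf C) (Z.subgroupOf M) (Z'.subgroupOf M)
    (Y.subgroupOf M)
  have hJC : J ≤ C := h.JT.trans h.TC
  have hAC : A ≤ C := h.AT.trans h.TC
  have hsm : ∀ (c : C) (m : M), ((c • m : M) : G) = c * m * (c : G)⁻¹ := fun _ _ => rfl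
  have hfix : ∀ (c : C) (m : M), c • m = m ↔ (m : G) * c = c * m := by
    intro c m
    rw [Subtype.ext_iff, hsm, mul_inv_eq_iff_eq_mul, eq_comm]
  have hfxr : ∀ Y : Subgroup G, Y ≤ M → fxr C (Y.subgroupOf M) = (centralizer (Y : Set G)).subgroupOf C := by
    intro Y hY
    ext c
    rw [mem_subgroupOf, mem_centralizer_iff]
    constructor
    · intro h y hy
      exact (hfix c ⟨y, hY hy⟩).1 (h _ (mem_subgroupOf.2 hy))
    · intro h y hy
      exact (hfix c y).2 (h _ (mem_subgroupOf.1 hy))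
  have hfxt : fxr C (⊤ : Subgroup M) = (centralizer (M : Set G)).subgroupOf C := by
    rw [← hfxr M le_rfl, subgroupOf_self]
  have hcv : ∀ B : Subgroup G, B ≤ C → cv M (B.subgroupOf C : Set C) = (centralizer (B : Set G)).subgroupOf M := by
    intro B hB
    ext m
    rw [mem_subgroupOf, mem_centralizer_iff]
    constructor
    · intro h b hb
      exact ((hfix ⟨b, hB hb⟩ m).1 (h _ (mem_subgroupOf.2 hb))).symm
    · intro h b hb
      exact (hfix b m).2 (h b (mem_subgroupOf.1 hb)).symm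
  have hNT : ∀ g : C, g ∈ normalizer ((T.subgroupOf C : Subgroup C) : Set C) → (g : G) ∈ normalizer (T : Set G) := by
    intro g hg
    rw [mem_normalizer_iff] at hg ⊢
    intro t
    constructor
    · intro ht
      exact (hg ⟨t, h.TC ht⟩).1 ht
    · intro ht
      have h1 : t ∈ C := by
        have h2 := C.mul_mem (C.mul_mem (C.inv_mem g.2) (h.TC ht)) g.2
        have e : (g : G)⁻¹ * (g * t * (g : G)⁻¹) * g = t := by group
        rwa [e] at h2
      exact (hg ⟨t, h1⟩).2 ht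
  have hnsub : ∀ {X : Subgroup G} {c : C}, (c : G) ∈ normalizer (X : Set G) →
      c ∈ normalizer ((X.subgroupOf C : Subgroup C) : Set C) := by
    intro X c hc
    rw [mem_normalizer_iff]
    intro x
    exact mem_normalizer_iff.1 hc (x : G)
  have hnsub' : ∀ {X : Subgroup G} {c : C}, X ≤ C → c ∈ normalizer ((X.subgroupOf C : Subgroup C) : Set C) →
      (c : G) ∈ normalizer (X : Set G) := by
    intro X c hX hc
    rw [mem_normalizer_iff] at hc ⊢
    intro t
    constructor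
    · intro ht
      exact (hc ⟨t, hX ht⟩).1 ht
    · intro ht
      have h1 : t ∈ C := by
        have h2 := C.mul_mem (C.mul_mem (C.inv_mem c.2) (hX ht)) c.2
        have e : (c : G)⁻¹ * (c * t * (c : G)⁻¹) * c = t := by group
        rwa [e] at h2
      exact (hc ⟨t, h1⟩).2 ht
  exact
    { sq := by
        intro m
        apply Subtype.ext
        have h1 := h.sqM m m.2
        rw [pow_two] at h1
        exact h1
      two := h.two.comap_of_injective C.subtype C.subtype_injective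
      syl := h.syl
      tZ := by
        intro z hz t ht
        rw [hfix]
        exact mem_centralizer_iff.1 (h.TZ (mem_subgroupOf.1 ht)) z (mem_subgroupOf.1 hz)
      tZ' := by
        intro z hz t ht
        rw [hfix]
        exact mem_centralizer_iff.1 (h.TZ' (mem_subgroupOf.1 ht)) z (mem_subgroupOf.1 hz)
      NZ := by
        intro g hg w hw
        refine mem_subgroupOf.2 ?_
        rw [hsm]
        exact (mem_normalizer_iff.1 (h.NZ ⟨g.2, hNT g hg⟩) _).1 (mem_subgroupOf.1 hw)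
      NQ := fun g hg => mem_subgroupOf.2 (h.NQ ⟨g.2, hNT g hg⟩)
      QY := by
        intro g hg w hw
        refine mem_subgroupOf.2 ?_
        rw [hsm]
        exact (mem_normalizer_iff.1 (h.QY ⟨g.2, mem_subgroupOf.1 hg⟩) _).1 (mem_subgroupOf.1 hw)
      QJ := fun g hg => hnsub (h.QJ ⟨g.2, mem_subgroupOf.1 hg⟩)
      JT := fun j hj => mem_subgroupOf.2 (h.JT (mem_subgroupOf.1 hj))
      par := by
        intro P hP
        have hR := Plug.minPar_map h.TC hP
        have hPe : (P.map C.subtype).subgroupOf C = P := comap_map_eq_self_of_injective C.subtype_injective P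
        rcases h.par _ hR (map_subtype_le P) with h1 | h1 | ⟨h1, h2, h3⟩
        · left
          intro z hz p hp
          rw [hfix]
          exact mem_centralizer_iff.1 (h1 (mem_map_of_mem C.subtype hp)) z (mem_subgroupOf.1 hz)
        · right
          left
          intro g hg hog w hw
          rw [hfix]
          exact mem_centralizer_iff.1 (h1 g (mem_map_of_mem C.subtype hg) (by rwa [orderOf_coe])) w
            (mem_subgroupOf.1 hw)
        · right
          right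
          refine ⟨?_, ?_, fun p hp => mem_subgroupOf.2 (h3 (mem_map_of_mem C.subtype hp))⟩
          · refine Plug.sub_o2 (S := P.map C.subtype) (fun c => ?_) h1
            rw [← mem_subgroupOf, hPe]
          · refine Plug.sub_o2 (S := P.map C.subtype) (fun c => ?_) h2
            rw [← mem_subgroupOf, hPe]
      sep := by
        intro g hg hog z hz y hy hgz
        rw [hfix] at hgz ⊢
        exact (h.sep g g.2 (mem_subgroupOf.1 hg) (by rwa [orderOf_coe]) z
          (mem_subgroupOf.1 hz) y (mem_subgroupOf.1 hy) hgz.symm).symm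
      hb := by
        rcases h.hb with h1 | h1
        · left
          intro d hd hdo hcomm w hw
          rw [hfix]
          refine mem_centralizer_iff.1 (h1 d d.2 (mem_subgroupOf.1 hd) (by rwa [orderOf_coe]) ?_) w
            (mem_subgroupOf.1 hw)
          intro j hj y hy
          have h1 := hcomm ⟨j, hJC hj⟩ (mem_subgroupOf.2 hj) ⟨y, h.YM hy⟩ (mem_subgroupOf.2 hy)
          rw [hfix] at h1
          exact h1.symm
        · right
          intro w hw tw g
          rw [hfix]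
          have h2 : (w : G) ∈ centralizer (T : Set G) := by
            rw [mem_centralizer_iff]
            intro t ht
            exact ((hfix ⟨t, h.TC ht⟩ w).1 (tw _ (mem_subgroupOf.2 ht))).symm
          exact (mem_centralizer_iff.1 (h1 ⟨mem_subgroupOf.1 hw, h2⟩) g g.2).symm
      el := by
        intro a ha
        apply Subtype.ext
        have h1 := h.sqA a (mem_subgroupOf.1 ha)
        rw [pow_two] at h1
        exact h1
      AZ := by
        refine Plug.sub_o2 (S := C ⊓ centralizer (Z : Set G)) (fun c => ?_) h.AZ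
        rw [hfxr Z h.ZM, mem_subgroupOf]
        exact ⟨fun hc => ⟨c.2, hc⟩, fun hc => hc.2⟩
      AY := by
        refine Plug.sub_o2 (S := C ⊓ centralizer (Y : Set G) ⊔ T) (fun c => ?_) h.AY
        have e : (C ⊓ centralizer (Y : Set G)).subgroupOf C = (centralizer (Y : Set G)).subgroupOf C := by
          rw [inf_subgroupOf_left]
        rw [hfxr Y h.YM, ← e, ← subgroupOf_sup inf_le_left h.TC, mem_subgroupOf]
      nk := by
        intro a ha hc m
        rw [hfix]
        have h1 : NoFF.Basic.V Z' C ≤ centralizer ({(a : G)} : Set G) := by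
          refine V_le fun c hcC => ?_
          intro x hx
          rw [mem_conj] at hx
          have h2 := hc ⟨c, hcC⟩ ⟨_, h.ZM' hx⟩ (mem_subgroupOf.2 hx)
          have h3 : ((⟨c, hcC⟩ : C) • (⟨_, h.ZM' hx⟩ : M) : M) = (⟨x, by
              have := ((⟨c, hcC⟩ : C) • (⟨_, h.ZM' hx⟩ : M) : M).2
              have e : c * (c⁻¹ * x * c) * c⁻¹ = x := by group
              rw [hsm] at this
              change c * (c⁻¹ * x * c) * c⁻¹ ∈ M at this
              rwa [e] at this⟩ : M) := by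
            apply Subtype.ext
            change c * (c⁻¹ * x * c) * c⁻¹ = x
            group
          rw [h3, hfix] at h2
          rw [mem_centralizer_singleton_iff]
          exact h2
        have h2 : (a : G) ∈ centralizer (NoFF.Basic.V Z' C : Set G) := by
          rw [mem_centralizer_iff]
          intro v hv
          exact mem_centralizer_singleton_iff.1 (h1 hv)
        exact mem_centralizer_iff.1 (h.nk ⟨mem_subgroupOf.1 ha, h2⟩) m m.2
      mv := by
        by_contra hc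
        push Not at hc
        apply h.mv
        intro a ha
        refine mem_centralizer_iff.2 fun m hm => ?_
        exact (hfix ⟨a, hAC ha⟩ ⟨m, hm⟩).1 (hc _ (mem_subgroupOf.2 ha) _)
      no := by
        intro B hB
        set B' : Subgroup G := B.map C.subtype with hB'
        have hBB : B'.subgroupOf C = B := comap_map_eq_self_of_injective C.subtype_injective B
        have hB'A : B' ≤ A := by
          rintro _ ⟨b, hb, rfl⟩
          exact mem_subgroupOf.1 (hB hb)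
        have h1 := h.no B' hB'A
        rw [hfxt, ← hBB, hcv B' (hB'A.trans hAC), relIndex_subgroupOf (hB'A.trans hAC)]
        exact h1
      le := by
        rw [hfxt, hcv A hAC, relIndex_subgroupOf hAC]
        exact h.le
      KC := h.K }

theorem inpR [Finite G] (h : GInR C T A J Q M Z Z' Y) :
    ∃ (X N : Type u) (_ : Group X) (_ : Finite X) (_ : Group N) (_ : Finite N) (_ : MulDistribMulAction X N)
      (T' A' J' Q' : Subgroup X) (Z₁ Y' : Subgroup N), InpR T' A' J' Q' Z₁ Y' := by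
  let := actX h.CM
  obtain ⟨X, _, _, _, T', A', J', Q', h1⟩ := h.preR.inp
  exact ⟨X, M, inferInstance, inferInstance, inferInstance, inferInstance, inferInstance, T', A', J', Q', _, _, h1⟩

end GInR

end Cfsg.Agent.Omega.KL.StarR

end

-- merged: Cfsg.Agent.Mrg.Omega.NOThreeL.RZ.TwoC.EndV
section

section


/-!
# [K], [H], [I3], [R-z]: both sides of the frame `FrV` are impossible (bb #25243 (5), #25865, #25809, #26172)

* `QQ S R B J`, `BadG Q J Y`;
* **`FrV.alpha`** : side 2, `GInR C_G(Z₀) S F C_S(B) Q W₂ (B ∩ Z) Z R`;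
* **`FrV.beta`** : side 1, `GInR C_G(e) S F C_S(R) Q X₁ (R ∩ Z) Z B`;
* **`FrV.false_of`**;  `FrE.toV`, **`FrE.dead`** : helper652's frame `FrE` is impossible.
-/

set_option autoImplicit false
set_option linter.unusedSectionVars false

namespace Cfsg.Agent.Omega.NOThreeL.RZ.TwoC

open Subgroup Cfsg
open Cfsg.Agent.ZN (o2 zc zl jj)
open Cfsg.Agent.ZN.ChoiceBase hiding mem_zc
open Cfsg.Agent.Omega.ML.Final (MLK)
open Cfsg.Agent.Omega.ML.GMod (hul hul_le hul_le_of le_hul cj_le_hul le_normalizer_hul nc ri_mono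
  normalizer_le_normalizer_o2)
open Cfsg.Agent.Omega.MinPar Cfsg.Agent.Omega.Frame Cfsg.Agent.Omega.FrameNOFF
open Cfsg.Agent.Omega.NO3b.Bang (le_normalizer_sup cent_symm)
open Cfsg.Agent.Omega.NOThreeL.Star (YS le_YS S_le_YS zl_mono)
open Cfsg.Agent.Omega.NO3S.EThree.ExactA (eab_iff eab_mono)
open Cfsg.Agent.Omega.NoFF.Basic (comm_symm V V_le Z_le_V mem_conj)
open Cfsg.Agent.Omega.GI (relIndex_congr relIndex_sup_of_comm)
open Cfsg.Agent.MinSimple.VModule (zc_le_zl le_normalizer_zl zl_le zc_le zc_sq zc_comm mem_zc le_centralizer_zc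
  le_normalizer_o2 o2_isPGroup o2_le le_o2 normalizer_le_normalizer_zc)
open Cfsg.Agent.MinSimple.Basic (not_dvd_relIndex)
open Cfsg.Agent.MinSimple.MinParabolic (IsMinPar)
open Cfsg.Agent.Omega.NOThreeL.RZ.TwoC.Loc (gml o2C_le inf_cent_le norm_inf)
open Cfsg.Agent.Omega.NOThreeL.RZ.TwoC.SideP (NoA TwoP exch_inf)
open Cfsg.Agent.Omega.NO3b.EndX (RedP)
open Cfsg.Agent.Omega.KL.StarR (GInR)
open scoped Pointwise

universe u

variable {G : Type u} [Group G]

/-- the elements of `⟨Y, N(S)⟩` which normalise `R`, `B` and `J` -/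
def QQ (S R B J : Subgroup G) : Subgroup G :=
  (YS S ⊔ normalizer (S : Set G)) ⊓ normalizer (R : Set G) ⊓ normalizer (B : Set G) ⊓ normalizer (J : Set G)

/-- an element `d` of odd order of `Q` with `[[Y, d], [J, d]] = 1` centralises `Y` -/
def BadG (Q J Y : Subgroup G) : Prop :=
  ∀ d ∈ Q, Odd (orderOf d) →
    (∀ j ∈ J, ∀ w ∈ Y, (j * d * j⁻¹ * d⁻¹) * (d * w * d⁻¹ * w⁻¹) = (d * w * d⁻¹ * w⁻¹) * (j * d * j⁻¹ * d⁻¹)) →
    d ∈ centralizer (Y : Set G)

/-- `⟨Z^L⟩` in the two notations -/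
theorem v_eq (S L : Subgroup G) : V (zc S) L = zl S L := by
  apply le_antisymm
  · refine V_le fun g hg => ?_
    have h1 : cj g (zl S L) = zl S L := cj_eq_of_mem_normalizer (le_normalizer_zl S L hg)
    calc MulAut.conj g • zc S = cj g (zc S) := rfl
      _ ≤ cj g (zl S L) := cj_mono g (zc_le_zl S L)
      _ = _ := h1
  · exact iSup_le fun g => Z_le_V g.2

namespace FrV

variable [Finite G] {S : Sylow 2 G} {R B Z₀ : Subgroup G} {e : G} (h : FrV S R B Z₀ e)
include h

/-- `C ∩ Q` for the two sides -/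
theorem nS_QQ {X J K : Subgroup G} (hX : K ⊓ normalizer ((S : Subgroup G) : Set G) ≤
    normalizer (R : Set G) ⊓ normalizer (B : Set G)) (hJ : J = (S : Subgroup G) ⊓ centralizer (X : Set G))
    (hN : normalizer (R : Set G) ⊓ normalizer (B : Set G) ≤ normalizer (X : Set G)) :
    K ⊓ normalizer ((S : Subgroup G) : Set G) ≤ QQ (S : Subgroup G) R B J := by
  intro g hg
  have h1 := hX hg
  have h2 : g ∈ normalizer (((S : Subgroup G) ⊓ centralizer (X : Set G) : Subgroup G) : Set G) := by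
    rw [mem_normalizer_iff_cj, cj_inf, cj_centralizer, cj_eq_of_mem_normalizer hg.2,
      cj_eq_of_mem_normalizer (hN h1)]
  exact ⟨⟨⟨le_sup_right (a := YS (S : Subgroup G)) hg.2, h1.1⟩, h1.2⟩, hJ ▸ h2⟩

theorem par_QQ {X P : Subgroup G} (nX : YS (S : Subgroup G) ≤ normalizer (X : Set G))
    (hP : IsParS (S : Subgroup G) P) (h1 : (S : Subgroup G) ⊓ centralizer (X : Set G) ≤ o2 P) :
    P ≤ QQ (S : Subgroup G) R B ((S : Subgroup G) ⊓ centralizer (X : Set G)) :=
  le_inf (le_inf (le_inf ((le_YS hP).trans le_sup_left) ((le_YS hP).trans h.nR)) ((le_YS hP).trans h.nB))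
    (h.nJ nX hP h1)

/-- `O₂(C_G(X)) ≤ O₂(C_G(X) S)` -/
theorem o2_sup {X K : Subgroup G} (nX : YS (S : Subgroup G) ≤ normalizer (X : Set G))
    (hK : centralizer (X : Set G) ≤ K) :
    o2 (centralizer (X : Set G)) ≤ o2 (K ⊓ centralizer (X : Set G) ⊔ (S : Subgroup G)) := by
  rw [inf_eq_right.2 hK]
  refine le_o2 ((o2_le _).trans le_sup_left) (o2_isPGroup _) (sup_le (le_normalizer_o2 _) ?_)
  exact ((h.S_le_ys.trans nX).trans (nc _)).trans (normalizer_le_normalizer_o2 _)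

variable (hM : MLK.{u, u}) (hR : RedP.{u, u}) (hE : ML.Ex.Two.Ext.{u, u})
include hM hR hE

/-- **side 2** -/
theorem alpha
    (b2 : R ⊓ zc (S : Subgroup G) ≤ Z₀ ∨
      BadG (centralizer (Z₀ : Set G) ⊓ QQ (S : Subgroup G) R B ((S : Subgroup G) ⊓ centralizer (B : Set G)))
        ((S : Subgroup G) ⊓ centralizer (B : Set G)) R)
    {A F : Subgroup G} (hA : A ∈ AA (o2 (CZ (S : Subgroup G)))) (hAK : A ≤ o2 (centralizer ({e} : Set G)))
    (hFA : F ≤ A) (hFR : F ≤ o2 (centralizer (R : Set G)))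
    (hm : ¬ F ≤ centralizer (hul (zl (S : Subgroup G) (YS S)) (centralizer (Z₀ : Set G)) : Set G))
    (he : (centralizer (hul (zl (S : Subgroup G) (YS S)) (centralizer (Z₀ : Set G)) : Set G)).relIndex F =
      (centralizer (F : Set G)).relIndex (hul (zl (S : Subgroup G) (YS S)) (centralizer (Z₀ : Set G)))) : False := by
  set W : Subgroup G := hul (zl (S : Subgroup G) (YS S)) (centralizer (Z₀ : Set G)) with hW
  obtain ⟨w0, w1, w2, -⟩ := h.W2 hM
  rw [← hW] at w0 w1 w2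
  have hFO : F ≤ o2 (CZ (S : Subgroup G)) := hFA.trans hA.2.1
  have hFS : F ≤ (S : Subgroup G) := hFO.trans o2C_le
  have hSK : (S : Subgroup G) ≤ centralizer (Z₀ : Set G) := (le_CZ S).trans h.C2
  have hZB : (S : Subgroup G) ≤ centralizer ((B ⊓ zc (S : Subgroup G) : Subgroup G) : Set G) :=
    (le_CZ S).trans (centralizer_le inf_le_right)
  have hVW : zl (S : Subgroup G) (YS S) ≤ W := le_hul _ _
  have hU := h.lK2.zl_le S h.ctx.char2
  have hUO : zl (S : Subgroup G) (centralizer (Z₀ : Set G)) ≤ o2 (CZ (S : Subgroup G)) :=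
    (hU.trans (zc_le _)).trans (o2_le_o2 S (le_CZ S) h.C2)
  have hUel : IsElementaryAbelian 2 (zl (S : Subgroup G) (centralizer (Z₀ : Set G))) :=
    eab_iff.2 ⟨fun x hx => mem_centralizer_iff.2 fun y hy => zc_comm _ _ (hU hy) _ (hU hx), fun x hx => zc_sq _ _ (hU hx)⟩
  have hno : NoA (o2 (CZ (S : Subgroup G))) (zl (S : Subgroup G) (centralizer (Z₀ : Set G))) :=
    fun A' hA' => gml hM h.ctx h.lK2 (h.kg h.lK2) hA'.2.1 (eab_iff.1 hA'.1).2
  have hUW : zl (S : Subgroup G) (centralizer (Z₀ : Set G)) ≤ W := zl_le ((zc_le_zl _ _).trans hVW) (le_normalizer_hul _ _)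
  -- `C_A(U₂)` centralises `W₂`
  have hker : A ⊓ centralizer (zl (S : Subgroup G) (centralizer (Z₀ : Set G)) : Set G) ≤ centralizer (W : Set G) := by
    have h1 := exch_inf hUel hUO hno hA
    exact le_sup_left.trans (((eab_iff.1 h1.1).1).trans (centralizer_le (w0 _ h1)))
  have hgml : ∀ C : Subgroup G, C ≤ F → (centralizer (W : Set G)).relIndex C ≤ (centralizer (C : Set G)).relIndex W := by
    intro C hC
    have e1 : (centralizer (W : Set G)).relIndex C =
        (centralizer (zl (S : Subgroup G) (centralizer (Z₀ : Set G)) : Set G)).relIndex C :=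
      relIndex_congr (le_antisymm (inf_le_inf_left _ (centralizer_le hUW))
        (le_inf inf_le_left ((inf_le_inf_right _ (hC.trans hFA)).trans hker)))
    rw [e1]
    exact (gml hM h.ctx h.lK2 (h.kg h.lK2) (hC.trans hFO) (eab_iff.1 (eab_mono hA.1 (hC.trans hFA))).2).trans
      (ri_mono _ hUW)
  have hEN : normalizer (R : Set G) ⊓ normalizer (B : Set G) ≤ normalizer (B : Set G) := inf_le_right
  have hG : GInR (centralizer (Z₀ : Set G)) (S : Subgroup G) F ((S : Subgroup G) ⊓ centralizer (B : Set G))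
      (QQ (S : Subgroup G) R B ((S : Subgroup G) ⊓ centralizer (B : Set G))) W (B ⊓ zc (S : Subgroup G))
      (zc (S : Subgroup G)) R :=
    { CM := le_normalizer_hul _ _
      sqM := (eab_iff.1 w1).2
      TC := hSK
      two := S.isPGroup'
      syl := not_dvd_relIndex S hSK
      ZM := inf_le_left.trans (h.BV.trans hVW)
      ZM' := (zc_le_zl _ _).trans hVW
      YM := h.RV.trans hVW
      TZ := hZB
      TZ' := le_centralizer_zc _
      NZ := by
        intro g hg
        have h1 := h.sZ hg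
        rw [mem_normalizer_iff_cj, cj_inf, cj_eq_of_mem_normalizer h1.2,
          cj_eq_of_mem_normalizer (normalizer_le_normalizer_zc _ hg.2)]
      NQ := h.nS_QQ h.sZ rfl hEN
      QY := inf_le_right.trans ((inf_le_left.trans inf_le_left).trans inf_le_right)
      QJ := inf_le_right.trans inf_le_right
      JT := inf_le_left
      AT := hFS
      par := by
        intro P hP0 hPK
        have hP := h.lK2.isPar S hP0 hPK
        rcases h.le_of_par hP with h1 | ⟨h1, _⟩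
        · exact Or.inl (h1.trans (centralizer_le inf_le_right))
        · rcases h.altX h.nB h1 with h2 | h2
          · exact Or.inr (Or.inr ⟨h.le_o2_two hFO hFR hP, h2, h.par_QQ h.nB h1 h2⟩)
          · exact Or.inl (h.le_of_alt h2)
      sep := by
        intro g _ hgQ _ z hz y hy hc
        have hc' : g * (y * z) = y * z * g := by
          have h3 : y * z = z * y := by
            have h4 := h.vc (h.RV hy)
            exact ((mem_centralizer_iff.1 h4) z (h.BV hz.1)).symm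
          rw [h3]
          exact hc
        exact (h.sep hgQ.1.1.2 hgQ.1.2 hy hz.1 hc').2
      hb := by
        rcases b2 with h1 | h1
        · right
          intro v hv
          have h2 : v ∈ Z₀ := h1 ⟨hv.1, h.fixV (h.RV hv.1) fun s hs => mem_centralizer_iff.1 hv.2 s hs⟩
          rw [mem_centralizer_iff]
          intro k hk
          exact ((mem_centralizer_iff.1 hk) v h2).symm
        · left
          intro d hdC hdQ hdo hcom
          exact h1 d ⟨hdC, hdQ⟩ hdo hcom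
      sqA := (eab_iff.1 (eab_mono hA.1 hFA)).2
      AZ := by
        refine (le_inf (hFA.trans hAK) (le_inf (hFS.trans hSK) (hFS.trans hZB))).trans ?_
        rw [inf_comm]
        refine le_o2 inf_le_left ((o2_isPGroup _).to_le inf_le_right) ?_
        refine le_trans (le_inf Subgroup.le_normalizer ?_) inf_normalizer_le_normalizer_inf
        refine (inf_le_right.trans (centralizer_le ?_)).trans (le_normalizer_o2 _)
        exact Set.singleton_subset_iff.2 ⟨h.eB, h.eZ⟩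
      AY := hFR.trans (h.o2_sup h.nR h.RK)
      nk := by
        rw [v_eq]
        exact (inf_le_inf_right _ hFA).trans hker
      mv := hm
      no := hgml
      le := he.ge
      K := h.kg h.lK2 }
  obtain ⟨X, N, _, _, _, _, _, T', A', J', Q', Z₁, Y', h1⟩ := hG.inpR
  exact h1.false_of hM hR hE

/-- **side 1** -/
theorem beta
    (b1 : BadG (centralizer ({e} : Set G) ⊓ QQ (S : Subgroup G) R B ((S : Subgroup G) ⊓ centralizer (R : Set G)))
      ((S : Subgroup G) ⊓ centralizer (R : Set G)) B)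
    {X₁ F : Subgroup G} (hX : IsElementaryAbelian 2 X₁) (hXn : centralizer ({e} : Set G) ≤ normalizer (X₁ : Set G))
    (hVX : zl (S : Subgroup G) (YS S) ≤ X₁) (hUX : zl (S : Subgroup G) (centralizer ({e} : Set G)) ≤ X₁)
    (hF : F ∈ AA (o2 (CZ (S : Subgroup G)))) (hF2 : F ≤ o2 (centralizer (Z₀ : Set G)))
    (hFB : F ≤ o2 (centralizer (B : Set G)))
    (hm : ¬ F ≤ centralizer (zl (S : Subgroup G) (centralizer ({e} : Set G)) : Set G))
    (hk : F ⊓ centralizer (zl (S : Subgroup G) (centralizer ({e} : Set G)) : Set G) ≤ centralizer (X₁ : Set G))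
    (he : (centralizer (X₁ : Set G)).relIndex F = (centralizer (F : Set G)).relIndex X₁) : False := by
  have hFO : F ≤ o2 (CZ (S : Subgroup G)) := hF.2.1
  have hFR : F ≤ centralizer (R : Set G) := h.hA F hF hF2
  have hFS : F ≤ (S : Subgroup G) := hFO.trans o2C_le
  have hSK : (S : Subgroup G) ≤ centralizer ({e} : Set G) := (le_CZ S).trans h.C1
  have hZR : (S : Subgroup G) ≤ centralizer ((R ⊓ zc (S : Subgroup G) : Subgroup G) : Set G) :=
    (le_CZ S).trans (centralizer_le inf_le_right)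
  have hgml : ∀ C : Subgroup G, C ≤ F → (centralizer (X₁ : Set G)).relIndex C ≤ (centralizer (C : Set G)).relIndex X₁ := by
    intro C hC
    have e1 : (centralizer (X₁ : Set G)).relIndex C =
        (centralizer (zl (S : Subgroup G) (centralizer ({e} : Set G)) : Set G)).relIndex C :=
      relIndex_congr (le_antisymm (inf_le_inf_left _ (centralizer_le hUX))
        (le_inf inf_le_left ((inf_le_inf_right _ hC).trans hk)))
    rw [e1]
    exact (gml hM h.ctx h.lK1 (h.kg h.lK1) (hC.trans hFO) (eab_iff.1 (eab_mono hF.1 hC)).2).trans (ri_mono _ hUX)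
  have hG : GInR (centralizer ({e} : Set G)) (S : Subgroup G) F ((S : Subgroup G) ⊓ centralizer (R : Set G))
      (QQ (S : Subgroup G) R B ((S : Subgroup G) ⊓ centralizer (R : Set G))) X₁ (R ⊓ zc (S : Subgroup G))
      (zc (S : Subgroup G)) B :=
    { CM := hXn
      sqM := (eab_iff.1 hX).2
      TC := hSK
      two := S.isPGroup'
      syl := not_dvd_relIndex S hSK
      ZM := inf_le_left.trans (h.RV.trans hVX)
      ZM' := (zc_le_zl _ _).trans hVX
      YM := h.BV.trans hVX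
      TZ := hZR
      TZ' := le_centralizer_zc _
      NZ := by
        intro g hg
        have h1 := h.sE hg
        rw [mem_normalizer_iff_cj, cj_inf, cj_eq_of_mem_normalizer h1.1,
          cj_eq_of_mem_normalizer (normalizer_le_normalizer_zc _ hg.2)]
      NQ := h.nS_QQ h.sE rfl inf_le_left
      QY := inf_le_right.trans (inf_le_left.trans inf_le_right)
      QJ := inf_le_right.trans inf_le_right
      JT := inf_le_left
      AT := hFS
      par := by
        intro P hP0 hPK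
        have hP := h.lK1.isPar S hP0 hPK
        rcases h.le_of_par hP with h1 | ⟨h1, _⟩
        · exact Or.inl (h1.trans (centralizer_le inf_le_right))
        · rcases h.altX h.nR h1 with h2 | h2
          · exact Or.inr (Or.inr ⟨h.le_o2_one hFO hFR hF2 hP, h2, h.par_QQ h.nR h1 h2⟩)
          · exact Or.inl (h.le_of_alt h2)
      sep := by
        intro g _ hgQ _ z hz y hy hc
        exact (h.sep hgQ.1.1.2 hgQ.1.2 hz.1 hy hc).1
      hb := Or.inl fun d hdC hdQ hdo hcom => b1 d ⟨hdC, hdQ⟩ hdo hcom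
      sqA := (eab_iff.1 hF.1).2
      AZ := by
        refine (le_inf hF2 (le_inf (hFS.trans hSK) (hFS.trans hZR))).trans ?_
        rw [inf_comm]
        refine le_o2 inf_le_left ((o2_isPGroup _).to_le inf_le_right) ?_
        refine le_trans (le_inf Subgroup.le_normalizer ?_) inf_normalizer_le_normalizer_inf
        exact (inf_le_right.trans (centralizer_le h.Z0R)).trans (le_normalizer_o2 _)
      AY := hFB.trans (h.o2_sup h.nB h.BK)
      nk := by
        rw [v_eq]
        exact hk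
      mv := fun hc => hm (hc.trans (centralizer_le hUX))
      no := hgml
      le := he.ge
      K := h.kg h.lK1 }
  obtain ⟨X, N, _, _, _, _, _, T', A', J', Q', Z₁, Y', h1⟩ := hG.inpR
  exact h1.false_of hM hR hE

/-- **The frame is impossible.** -/
theorem false_of
    (b1 : BadG (centralizer ({e} : Set G) ⊓ QQ (S : Subgroup G) R B ((S : Subgroup G) ⊓ centralizer (R : Set G)))
      ((S : Subgroup G) ⊓ centralizer (R : Set G)) B)
    (b2 : R ⊓ zc (S : Subgroup G) ≤ Z₀ ∨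
      BadG (centralizer (Z₀ : Set G) ⊓ QQ (S : Subgroup G) R B ((S : Subgroup G) ⊓ centralizer (B : Set G)))
        ((S : Subgroup G) ⊓ centralizer (B : Set G)) R) : False := by
  rcases h.main hM with ⟨A, hA, -, hAK, F, hFA, hFR, hm, he⟩ | ⟨X₁, hX, hXn, hVX, hUX, -, F, hF, -, hF2, hFB, hm, -, hk, he⟩
  · exact h.alpha hM hR hE b2 hA hAK hFA hFR hm he
  · exact h.beta hM hR hE b1 hX hXn hVX hUX hF hF2 hFB hm hk he

end FrV

/-- `FrE` is the case `Z₀ = R ∩ Z` -/
theorem FrE.toV [Finite G] {S : Sylow 2 G} {R B : Subgroup G} {e : G} (h : FrE S R B e) :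
    FrV S R B (R ⊓ zc (S : Subgroup G)) e :=
  { ctx := h.ctx, full := h.full, nR := h.nR, nB := h.nB, sE := h.sE, sZ := h.sZ, RV := h.RV, BV := h.BV
    Z0R := le_rfl, ne := h.ne, hA := fun A hA _ => h.hA A hA, low := h.low, vc := h.vc, vs := h.vs, eZ := h.eZ
    eB := h.eB, e1 := h.e1, tr := h.tr, spl := h.spl }

/-- **`FrE` is impossible.** -/
theorem FrE.dead [Finite G] {S : Sylow 2 G} {R B : Subgroup G} {e : G} (h : FrE S R B e) (hM : MLK.{u, u})
    (hR : RedP.{u, u}) (hE : ML.Ex.Two.Ext.{u, u})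
    (b1 : BadG (centralizer ({e} : Set G) ⊓ QQ (S : Subgroup G) R B ((S : Subgroup G) ⊓ centralizer (R : Set G)))
      ((S : Subgroup G) ⊓ centralizer (R : Set G)) B) : False :=
  h.toV.false_of hM hR hE b1 (Or.inl le_rfl)

end Cfsg.Agent.Omega.NOThreeL.RZ.TwoC

end

section


/-!
# [R-z], case (II) (helper513 #24309, #24705; helper885 #24934; helper960 #24850): the two sides, any `K₁`, `K₂`

`S`, `Z`, `C = CZ S`, `O = O₂(C)` as in `Ab.lean`; `K₁, K₂ ≥ C` local, `K₁ ≤ ⟨C, E₁⟩`, `E₁` normalises `NR = ⟨V^{C_G(R₁)}⟩`,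
`E₂ ≤ K₂` normalises `Z₀` and `B`, `⟨K₁, E₂⟩` nonlocal: `AbK S K₁ K₂ E₁ E₂ Z₀ B V R₁`. E.g. `K₁ = ⟨L, C⟩` or `⟨L, C⟩ N_G(S)`
or `C_G(e)` (`E₁ = (K₁ ∩ Y) (K₁ ∩ N_G(S))`), `K₂ = C_G(Z₁)` or `C_G(Z₁) N_G(S)`, `E₂ = C_Y(R)` or the block types.

* **`AbK.twoD`** : `Side.TwoD` (with `⟨C, E₂⟩` in the place of `K₂`), `U₁ = zl S K₁`, `W₂ = ⟨V^{K₂}⟩`, `NB = ⟨Z₀^{C_G(B)}⟩`;
* `AbK.le_o2K1`, `AbK.le_o2K2`, `AbK.le_o2R`, `AbK.le_o2B` : where `A` and `F` lie.
-/

set_option autoImplicit false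
set_option linter.unusedSectionVars false

namespace Cfsg.Agent.Omega.NOThreeL.RZ.TwoC

open Subgroup Cfsg
open Cfsg.Agent.ZN (o2 zc zl jj)
open Cfsg.Agent.ZN.ChoiceBase hiding mem_zc
open Cfsg.Agent.Omega.ML.Final (MLK)
open Cfsg.Agent.Omega.ML.GMod (hul hul_le hul_le_of le_hul cj_le_hul le_normalizer_hul nc ri_mono
  normalizer_le_normalizer_o2)
open Cfsg.Agent.Omega.MinPar Cfsg.Agent.Omega.Frame Cfsg.Agent.Omega.FrameNOFF
open Cfsg.Agent.Omega.NO3b.Bang
open Cfsg.Agent.Omega.NO3S.EThree.ExactA (eab_iff eab_mono)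
open Cfsg.Agent.Omega.EK3.Rank (NoOn)
open Cfsg.Agent.Omega.NoFF.Basic (comm_symm)
open Cfsg.Agent.Omega.GI (relIndex_congr relIndex_sup_of_comm)
open Cfsg.Agent.MinSimple.VModule (zc_le_zl le_normalizer_zl zl_le zc_le zc_sq zc_comm mem_zc le_centralizer_zc
  le_normalizer_o2 o2_isPGroup o2_le le_o2 normalizer_le_normalizer_zc)
open Cfsg.Agent.Omega.NOThreeL.RZ.TwoC.Loc

universe u

variable {G : Type u} [Group G]

/-- **The abstract frame of case (II), `K₁`, `K₂` variables.** -/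
structure AbK [Finite G] (S : Sylow 2 G) (K₁ K₂ E₁ E₂ Z₀ B V R₁ : Subgroup G) : Prop where
  ctx : Ctx G
  l1 : IsLoc (S : Subgroup G) K₁
  l2 : IsLoc (S : Subgroup G) K₂
  C1 : CZ (S : Subgroup G) ≤ K₁
  C2 : CZ (S : Subgroup G) ≤ K₂
  e1 : E₁ ≤ K₁
  g1 : K₁ ≤ CZ (S : Subgroup G) ⊔ E₁
  EN : E₁ ≤ normalizer (hul V (centralizer (R₁ : Set G)) : Set G)
  e2 : E₂ ≤ K₂
  EZ : E₂ ≤ normalizer (Z₀ : Set G)
  EB : E₂ ≤ normalizer (B : Set G)
  nn : NN (S : Subgroup G) V
  ZV : zc (S : Subgroup G) ≤ V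
  low : V ≤ o2 (CZ (S : Subgroup G))
  R2 : IsPGroup 2 R₁
  R1 : R₁ ≠ ⊥
  SR : (S : Subgroup G) ≤ normalizer (R₁ : Set G)
  RK : centralizer (R₁ : Set G) ≤ K₂
  B2 : IsPGroup 2 B
  B1 : B ≠ ⊥
  SB : (S : Subgroup G) ≤ normalizer (B : Set G)
  zB : zc (S : Subgroup G) ≤ (zc (S : Subgroup G) ⊓ B) ⊔ Z₀
  Z0 : Z₀ ≤ zc (S : Subgroup G)
  BW : B ≤ hul V K₂
  BU : hul Z₀ (centralizer (B : Set G)) ≤ zl (S : Subgroup G) K₁
  nl : ∀ U : Subgroup G, IsPGroup 2 U → K₁ ≤ normalizer (U : Set G) → E₂ ≤ normalizer (U : Set G) → U = ⊥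

namespace AbK

variable [Finite G] {S : Sylow 2 G} {K₁ K₂ E₁ E₂ Z₀ B V R₁ : Subgroup G} (h : AbK S K₁ K₂ E₁ E₂ Z₀ B V R₁)
include h

theorem kg {X : Subgroup G} (hL : IsLoc (S : Subgroup G) X) : IsKGroup X :=
  ML.GNN.kgroup_of_isLoc h.ctx h.ctx.not_isPGroup hL

theorem zc_ne : zc (S : Subgroup G) ≠ ⊥ :=
  MinSimple.Basic.zc_ne_bot S.isPGroup' (h.ctx.sylow_ne_bot S)

/-- `C_G(R₁) S` is local -/
theorem locR : IsLoc (S : Subgroup G) (centralizer (R₁ : Set G) ⊔ (S : Subgroup G)) :=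
  isLoc_of_le_normalizer S le_sup_right h.R2 h.R1 (sup_le (centralizer_le_normalizer _) h.SR)

theorem hul_R : hul V (centralizer (R₁ : Set G) ⊔ (S : Subgroup G)) = hul V (centralizer (R₁ : Set G)) := by
  refine le_antisymm (hul_le_of (le_hul _ _) ?_) (hul_mono le_sup_left)
  exact sup_le (le_normalizer_hul _ _) (norm_hul h.nn.norm (h.SR.trans (nc _)))

/-- `C_G(B) S` is local -/
theorem locB : IsLoc (S : Subgroup G) (centralizer (B : Set G) ⊔ (S : Subgroup G)) :=
  isLoc_of_le_normalizer S le_sup_right h.B2 h.B1 (sup_le (centralizer_le_normalizer _) h.SB)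

/-- `⟨Z^{C_G(B) S}⟩ = ⟨Z₀^{C_G(B)}⟩ (Z ∩ B)` -/
theorem zl_B : zl (S : Subgroup G) (centralizer (B : Set G) ⊔ (S : Subgroup G)) =
    hul Z₀ (centralizer (B : Set G)) ⊔ (zc (S : Subgroup G) ⊓ B) := by
  apply le_antisymm
  · refine zl_le ?_ ?_
    · exact h.zB.trans (sup_le le_sup_right ((le_hul _ _).trans le_sup_left))
    · have hSZ0 : (S : Subgroup G) ≤ normalizer (Z₀ : Set G) :=
        ((le_CZ S).trans (centralizer_le h.Z0)).trans (centralizer_le_normalizer _)
      refine sup_le (le_normalizer_sup (le_normalizer_hul _ _) ?_) (le_normalizer_sup ?_ ?_)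
      · exact (centralizer_le inf_le_right).trans (centralizer_le_normalizer _)
      · exact norm_hul hSZ0 (h.SB.trans (nc _))
      · exact ((le_CZ S).trans (centralizer_le inf_le_left)).trans (centralizer_le_normalizer _)
  · refine sup_le ?_ (inf_le_left.trans (zc_le_zl _ _))
    refine hul_le_of (h.Z0.trans (zc_le_zl _ _)) (le_sup_left.trans (le_normalizer_zl _ _))

theorem hRW : hul V (centralizer (R₁ : Set G)) ≤ hul V K₂ := hul_mono h.RK

/-! ### Where `A` and `F` lie -/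

/-- `A ∈ AA(C_O(U₁))`: `A ≤ O₂(K₁)` -/
theorem le_o2K1 : o2 (CZ (S : Subgroup G)) ⊓ centralizer (zl (S : Subgroup G) K₁ : Set G) ≤ o2 K₁ :=
  inf_cent_le h.l1.le (zc_le_zl _ _) (le_normalizer_zl _ _)

/-- `F = C_A(NR) ≤ O₂(C_G(R₁) S)` -/
theorem le_o2R : o2 (CZ (S : Subgroup G)) ⊓ centralizer (hul V (centralizer (R₁ : Set G)) : Set G) ≤
    o2 (centralizer (R₁ : Set G) ⊔ (S : Subgroup G)) := by
  rw [← h.hul_R]
  exact inf_cent_le le_sup_right (h.ZV.trans (le_hul _ _)) (le_normalizer_hul _ _)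

variable (hM : MLK.{u, u})
include hM

/-- `(NO)` on `⟨V^{C_G(R₁)}⟩` -/
theorem noOnR : NoOn (o2 (CZ (S : Subgroup G))) (hul V (centralizer (R₁ : Set G))) := by
  rw [← h.hul_R]
  exact noOn_hul hM h.ctx h.locR (h.kg h.locR) h.nn h.low h.ZV

/-- `(NO)` on `⟨Z₀^{C_G(B)}⟩` for the elementary abelian `A ≤ O` centralising `B` -/
theorem noB {A : Subgroup G} (hel : IsElementaryAbelian 2 A) (hA : A ≤ o2 (CZ (S : Subgroup G)))
    (hAB : A ≤ centralizer (B : Set G)) :
    (centralizer (hul Z₀ (centralizer (B : Set G)) : Set G)).relIndex A ≤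
      (centralizer (A : Set G)).relIndex (hul Z₀ (centralizer (B : Set G))) := by
  have hX := h.locB
  have h1 := gml hM h.ctx hX (h.kg hX) hA (eab_iff.1 hel).2
  have hzc := hX.zl_le S h.ctx.char2
  rw [h.zl_B] at h1 hzc
  set NB : Subgroup G := hul Z₀ (centralizer (B : Set G)) with hNB
  have hAZ : A ≤ centralizer ((zc (S : Subgroup G) ⊓ B : Subgroup G) : Set G) := hAB.trans (centralizer_le inf_le_right)
  have e1 : (centralizer ((NB ⊔ (zc (S : Subgroup G) ⊓ B) : Subgroup G) : Set G)).relIndex A =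
      (centralizer (NB : Set G)).relIndex A := by
    refine relIndex_congr (le_antisymm (inf_le_inf_left _ (centralizer_le (SetLike.coe_subset_coe.2 le_sup_left))) ?_)
    refine le_inf inf_le_left (comm_symm (sup_le (comm_symm inf_le_right) (comm_symm (inf_le_left.trans hAZ))))
  have e2 : (centralizer (A : Set G)).relIndex (NB ⊔ (zc (S : Subgroup G) ⊓ B)) = (centralizer (A : Set G)).relIndex NB := by
    refine relIndex_sup_of_comm (comm_symm hAZ) ?_
    intro x hx
    rw [mem_centralizer_iff]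
    intro y hy
    exact zc_comm _ _ (hzc (le_sup_right (a := NB) hy)) _ (hzc (le_sup_left (b := zc (S : Subgroup G) ⊓ B) hx))
  rwa [e1, e2] at h1

/-- **The two sides.** -/
theorem twoD :
    Side.TwoD (o2 (CZ (S : Subgroup G))) (CZ (S : Subgroup G)) K₁ (CZ (S : Subgroup G) ⊔ E₂) E₁ E₂
      (zl (S : Subgroup G) K₁) (hul V K₂) (hul V (centralizer (R₁ : Set G))) (hul Z₀ (centralizer (B : Set G))) := by
  have l1 := h.l1
  have l2 := h.l2
  have hnn := nn_hul hM h.ctx l2 (h.kg l2) h.nn h.low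
  have hO1 : o2 K₁ ≤ o2 (CZ (S : Subgroup G)) := o2_le_o2 S (le_CZ S) h.C1
  have hO2 : o2 K₂ ≤ o2 (CZ (S : Subgroup G)) := o2_le_o2 S (le_CZ S) h.C2
  have hz1 := l1.zl_le S h.ctx.char2
  have hK2 : CZ (S : Subgroup G) ⊔ E₂ ≤ K₂ := sup_le h.C2 h.e2
  exact
  { OD := o2_le _
    DO := le_normalizer_o2 _
    D1 := h.C1
    D2 := le_sup_left
    e1 := h.e1
    g1 := h.g1
    e2 := le_sup_right
    g2 := sup_le ((le_inf h.C1 le_sup_left).trans le_sup_left) le_sup_right
    el1 := eab_iff.2 ⟨fun x hx => mem_centralizer_iff.2 fun y hy => zc_comm _ _ (hz1 hy) _ (hz1 hx),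
      fun x hx => zc_sq _ _ (hz1 hx)⟩
    el2 := hul_eab hM h.ctx l2 (h.kg l2) h.nn h.low
    UO := (hz1.trans (zc_le _)).trans hO1
    WO := hnn.le.trans hO2
    KU := le_normalizer_zl _ _
    KW := hK2.trans (le_normalizer_hul _ _)
    q1 := norm_inf h.C1 (zc_le_zl _ _) (le_normalizer_zl _ _)
    q2 := hK2.trans (norm_inf h.C2 (h.ZV.trans (le_hul _ _)) (le_normalizer_hul _ _))
    core1 := by
      intro X hX hn
      have h1 : X ≤ o2 K₁ := le_o2 (hX.trans ((o2_le _).trans h.C1)) ((o2_isPGroup _).to_le hX) hn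
      intro x hx
      rw [mem_centralizer_iff]
      intro y hy
      exact ((mem_zc.1 (hz1 hy)).2.1 _ (h1 hx)).symm
    no1 := fun A hel hA => gml hM h.ctx l1 (h.kg l1) hA (eab_iff.1 hel).2
    no2 := noOn_hul hM h.ctx l2 (h.kg l2) h.nn h.low h.ZV
    RW := h.hRW
    ER := h.EN
    noR := fun A hA => h.noOnR hM A hA.1 (hA.2.1.trans inf_le_left)
    BU := h.BU
    EB := norm_hul h.EZ (h.EB.trans (nc _))
    noB := fun A hA => h.noB hM hA.1 (hA.2.1.trans inf_le_left)
      ((hA.2.1.trans inf_le_right).trans (centralizer_le h.BW))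
    nonloc := fun X hX h1 h2 => h.nl X ((o2_isPGroup _).to_le hX) h1 (le_sup_right.trans h2)
    ne := fun e => h.zc_ne (le_bot_iff.1 (e ▸ zc_le_zl _ _)) }

end AbK

end Cfsg.Agent.Omega.NOThreeL.RZ.TwoC

end

end
end

-- part: Mrg/Omega/NOThreeL/RZ/TwoC/FrEOf
section
set_option linter.all false
open scoped Cfsg.Agent.FastGrp


/-!
# [R-z] (#25243): the frame `FrE` from the blocks

`V* = zl S Y`, `Y = YS S`. `JB S V` is the product of the best offenders of `S` on `V`, `E1 S = ⟨JB^Y⟩`.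

* `best_of_mem` : Thompson, `A ∈ AA(O)`, `V ≤ O` : `A` is a best offender on `V` (or centralises `V`);
* `nS_E1` : `N_G(S)` normalises `E1 S`;
* `low_of` : `V* ≤ O₂(C_G(Z))` if `1 ≠ Z₀ ≤ Z ∩ R₀`;
* **`frE_of`** : `Dec S Y V* N E R₀`, `Orbs`, `R₀ = C_{V*}(E1)`, `∏ N b = [V*, E1]`, `R₀ ∩ Z ≠ 1`, imply `FrE S R₀ (∏ N b) e`
  for the vector `e` of full support.
-/

set_option autoImplicit false
set_option linter.unusedSectionVars false

namespace Cfsg.Agent.Omega.NOThreeL.RZ.TwoC.FrEOf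

open Subgroup Cfsg
open Cfsg.Agent.ZN (o2 zc zl jj)
open Cfsg.Agent.ZN.ChoiceBase hiding mem_zc
open Cfsg.Agent.Omega.MinPar Cfsg.Agent.Omega.Frame Cfsg.Agent.Omega.FrameNOFF
open Cfsg.Agent.Omega.FFThm (ElemM OffM)
open Cfsg.Agent.Omega.NO1.BestOff (Best exists_best)
open Cfsg.Agent.Omega.NO3b.Bang (le_normalizer_sup cent_symm offM_of_abel)
open Cfsg.Agent.Omega.NOThreeL.Star (YS le_YS S_le_YS zl_mono)
open Cfsg.Agent.Omega.NOThreeL.RRed.Blk
open Cfsg.Agent.Omega.NO3S.EThree.ExactA (eab_iff eab_mono)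
open Cfsg.Agent.MinSimple.VModule (zc_le_zl le_normalizer_zl zl_le zc_le zc_sq zc_comm mem_zc le_centralizer_zc
  le_normalizer_o2 o2_isPGroup o2_le le_o2 normalizer_le_normalizer_zc)
open Cfsg.Agent.Omega.NOThreeL.RTree (RB)
open scoped Pointwise

universe u v

variable {G : Type u} [Group G]

/-- The product of the best offenders of `S` on `V` (it contains `C_S(V)`). -/
def JB (S V : Subgroup G) : Subgroup G := sSup {A : Subgroup G | A ≤ S ∧ Best V A}

/-- `E₁ = ⟨JB^Y⟩` -/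
def E1 (S : Subgroup G) : Subgroup G := NoFF.Basic.V (JB S (zl S (YS S))) (YS S)

section fin

variable [Finite G] {S : Sylow 2 G}

/-- **Thompson.** -/
theorem best_of_mem {O V A : Subgroup G} (hV : IsElementaryAbelian 2 V) (hVO : V ≤ O) (hA : A ∈ AA O) : Best V A := by
  refine ⟨offM_of_abel (eab_iff.1 hA.1).1 (eab_iff.1 hA.1).2, fun F hF2 _ => ?_⟩
  have hc : F ≤ centralizer ((V ⊓ centralizer (F : Set G) : Subgroup G) : Set G) := fun f hf =>
    mem_centralizer_iff.2 fun v hv => (mem_centralizer_iff.1 hv.2 f hf).symm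
  have hFe := eab_mono hA.1 hF2
  have hCe := eab_mono hV (inf_le_left (b := centralizer (F : Set G)))
  have h1 := Cfsg.Agent.PLocal.ElemAbSup.isElementaryAbelian_sup hCe hFe hc
  have h2 := hA.2.2 _ h1 (sup_le (inf_le_left.trans hVO) (hF2.trans hA.2.1))
  have h3 := Cfsg.Agent.PLocal.ElemAbSup.card_sup_mul_card_inf hc
  have h4 : Nat.card ↥((V ⊓ centralizer (F : Set G)) ⊓ F) ≤ Nat.card ↥(V ⊓ centralizer (A : Set G)) := by
    refine Subgroup.card_le_of_le (le_inf (inf_le_left.trans inf_le_left) fun x hx => mem_centralizer_iff.2 fun a ha => ?_)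
    exact congrArg (fun t : A => (t : G)) (hA.1.1.is_comm.comm ⟨a, ha⟩ ⟨x, hF2 hx.2⟩)
  calc Nat.card F * Nat.card ↥(V ⊓ centralizer (F : Set G)) =
      Nat.card ↥(V ⊓ centralizer (F : Set G)) * Nat.card F := mul_comm _ _
    _ = _ := h3.symm
    _ ≤ _ := Nat.mul_le_mul h2 h4

theorem nS_Vs : normalizer ((S : Subgroup G) : Set G) ≤ normalizer (zl (S : Subgroup G) (YS S) : Set G) :=
  norm_V_of (normalizer_le_normalizer_zc _) nS_ys

theorem norm_inf_cent {X V E : Subgroup G} (h1 : X ≤ normalizer (V : Set G)) (h2 : X ≤ normalizer (E : Set G)) :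
    X ≤ normalizer ((V ⊓ centralizer (E : Set G) : Subgroup G) : Set G) := by
  intro x hx
  rw [mem_normalizer_iff_cj, cj_inf, cj_centralizer, cj_eq_of_mem_normalizer (h1 hx), cj_eq_of_mem_normalizer (h2 hx)]

end fin

/-! ### `V* ≤ O` -/

section low

variable {ι : Type v} {L U : Subgroup G} {N E : ι → Subgroup G} {R₀ : Subgroup G} {O : ι → Set G}

theorem le_norm_E [Finite G] {S : Subgroup G} (h : Dec S L U N E R₀) :
    L ≤ normalizer ((⨆ b, E b : Subgroup G) : Set G) := by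
  intro g hg
  refine mem_normalizer_of_cj_le ?_
  change (⨆ b, E b).map (MulAut.conj g).toMonoidHom ≤ _
  rw [Subgroup.map_iSup]
  refine iSup_le fun b => ?_
  obtain ⟨c, _, hc⟩ := h.perm g hg b
  exact hc.le.trans (le_iSup E c)

/-- `y x⁻¹ ∈ X` for `x, y ∈ O b` if `X` contains all conjugates of `e` under `E b` -/
theorem dif_mem {S : Subgroup G} (h : Dec S L U N E R₀) (o : DecE.Orbs L N E O) {e : G} (he : e ∈ DecE.PP N R₀ O)
    {X : Subgroup G} (hX : ∀ b, ∀ g ∈ E b, g * e * g⁻¹ ∈ X) {b : ι} {x y : G} (hx : x ∈ O b) (hy : y ∈ O b) :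
    y * x⁻¹ ∈ X := by
  obtain ⟨n, hn, hc⟩ := he.2 b
  have key : ∀ x ∈ O b, x * n⁻¹ ∈ X := by
    intro x hx
    obtain ⟨g, hg, rfl⟩ := o.tr b n hn x hx
    have hw : g * (n⁻¹ * e) * g⁻¹ = n⁻¹ * e := by
      have h1 : Co N R₀ b ≤ centralizer ({g} : Set G) := by
        refine sup_le (iSup_le fun c => ?_) ?_
        · intro w hw
          rw [mem_centralizer_singleton_iff]
          exact (mem_centralizer_iff.1 (h.EC b c.1 (Ne.symm c.2) hg) w hw)
        · intro w hw
          rw [mem_centralizer_singleton_iff]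
          exact (mem_centralizer_iff.1 (h.ER b hg) w hw)
      have h2 := mem_centralizer_singleton_iff.1 (h1 hc.2)
      rw [← h2, mul_inv_cancel_right]
    have h3 : g * e * g⁻¹ * e⁻¹ = g * n * g⁻¹ * n⁻¹ := by
      have e1 : g * e * g⁻¹ = (g * n * g⁻¹) * (g * (n⁻¹ * e) * g⁻¹) := by group
      rw [e1, hw]; group
    have h4 : e ∈ X := by simpa using hX b 1 (one_mem _)
    rw [← h3]
    exact mul_mem (hX b g hg) (inv_mem h4)
  have e2 : y * x⁻¹ = (y * n⁻¹) * (x * n⁻¹)⁻¹ := by group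
  rw [e2]
  exact mul_mem (key y hy) (inv_mem (key x hx))

end low

section frame

variable [Finite G] {S : Sylow 2 G} {ι : Type v} [Finite ι] {N E : ι → Subgroup G} {R₀ : Subgroup G} {O : ι → Set G}

theorem zl_le_O (hc : Ctx G) {K : Subgroup G} (hK : IsLoc (S : Subgroup G) K) (hC : CZ (S : Subgroup G) ≤ K) :
    zl (S : Subgroup G) K ≤ o2 (CZ (S : Subgroup G)) :=
  ((hK.zl_le S hc.char2).trans (zc_le _)).trans (o2_le_o2 S (le_CZ S) hC)

/-- **`V* ≤ O₂(C_G(Z))`** -/
theorem low_of (hB : RB S) (h : Dec (S : Subgroup G) (YS (S : Subgroup G)) (zl (S : Subgroup G) (YS S)) N E R₀)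
    (o : DecE.Orbs (YS (S : Subgroup G)) N E O)
    (hdif : ∀ b, N b ≤ closure {g | ∃ x ∈ O b, ∃ y ∈ O b, g = y * x⁻¹})
    (ne : R₀ ⊓ zc (S : Subgroup G) ≠ ⊥) {e : G} (he : e ∈ DecE.PP N R₀ O) (eZ : e ∈ zc (S : Subgroup G)) (e1 : e ≠ 1) :
    zl (S : Subgroup G) (YS S) ≤ o2 (CZ (S : Subgroup G)) := by
  have hsq : ∀ v ∈ zl (S : Subgroup G) (YS S), v ^ 2 = 1 := Star.zl_sq hB.ctx.char2 hB.data.noff
  have hP : IsPGroup 2 (zl (S : Subgroup G) (YS S)) := fun x => ⟨1, Subtype.ext (by simpa using hsq x x.2)⟩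
  have hUS : zl (S : Subgroup G) (YS S) ≤ (S : Subgroup G) :=
    le_of_le_normalizer S hP (h.SL.trans (le_normalizer_zl _ _))
  have hR2 : IsPGroup 2 R₀ := S.isPGroup'.to_le (h.RU.trans hUS)
  have l1 : IsLoc (S : Subgroup G) (centralizer ({e} : Set G)) := RZ.LowR.isLoc_cent eZ e1
  have c1 : CZ (S : Subgroup G) ≤ centralizer ({e} : Set G) := centralizer_le (Set.singleton_subset_iff.2 eZ)
  have c2 : CZ (S : Subgroup G) ≤ centralizer ((R₀ ⊓ zc (S : Subgroup G) : Subgroup G) : Set G) :=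
    centralizer_le inf_le_right
  have l2 : IsLoc (S : Subgroup G) (centralizer ((R₀ ⊓ zc (S : Subgroup G) : Subgroup G) : Set G)) :=
    isLoc_of_le_normalizer S ((le_CZ S).trans c2) (hR2.to_le inf_le_left) ne (centralizer_le_normalizer _)
  have z1 := zl_le_O hB.ctx l1 c1
  have z2 := zl_le_O hB.ctx l2 c2
  have hgR := (DecE.gen_eq h hUS hsq rfl).2
  have hEK : ∀ b, E b ≤ centralizer ((R₀ ⊓ zc (S : Subgroup G) : Subgroup G) : Set G) := fun b =>
    (h.ER b).trans (centralizer_le inf_le_left)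
  rw [← h.sup]
  refine sup_le (iSup_le fun b => (hdif b).trans ?_) ?_
  · refine le_trans ?_ z2
    rw [closure_le]
    rintro _ ⟨x, hx, y, hy, rfl⟩
    refine dif_mem h o he (fun b g hg => ?_) hx hy
    exact (mem_normalizer_iff.1 (le_normalizer_zl (S : Subgroup G) _ (hEK b hg)) e).1 (zc_le_zl _ _ eZ)
  · rw [hgR]
    refine NoFF.Basic.V_le fun y hy => ?_
    have hy' := DecE.le_of h o he hy
    obtain ⟨c, hc, x, hx, rfl⟩ := mem_sup_of (inf_le_left.trans (le_norm_E h)) hy'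
    refine le_trans ?_ z1
    rw [map_mul, mul_smul]
    have h1 : MulAut.conj x • (zc (S : Subgroup G) ⊓ R₀) = zc (S : Subgroup G) ⊓ R₀ :=
      DecE.smul_of_norm ((centralizer_le_normalizer _) (by
        have h2 := DecE.E_cent h hx
        exact (centralizer_le (inf_le_right : zc (S : Subgroup G) ⊓ R₀ ≤ R₀)) h2))
    rw [h1]
    rintro _ ⟨w, hw, rfl⟩
    exact (mem_normalizer_iff.1 (le_normalizer_zl (S : Subgroup G) _ hc.2) w).1 (zc_le_zl _ _ hw.1)

end frame

end Cfsg.Agent.Omega.NOThreeL.RZ.TwoC.FrEOf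
end

-- part: Mrg/Omega/NOThreeL/RRed/WRunA
section
prune_inst 0x400000000000000000002000040000000000000000000000000000400000a0010000304000000010040000080000059010042020000000000800000000000000000080080000000000000000000000000000000000000000000000000000000000000
set_option linter.all false
open scoped Cfsg.Agent.FastGrp

-- merged: Cfsg.Agent.Mrg.Omega.NOThreeL.RZ.TwoC.PairV
section

/-!
# [K], [H], [I3] (bb #25865, #25809, #26298): two complementary classes `R`, `B` of `V*`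

`V* = R × B`, `z ∈ R ∩ Z`, `e ∈ B ∩ Z` with `Y = C_Y(B) C_Y(z) = C_Y(R) C_Y(e)`.

* `PairV S R B z e` : the data;  `PairV.frV` : `FrV S R B ⟨z⟩ e`, if every `A ∈ AA(O₂(C(z) ∩ C(e)))` centralises `R`;
* **`PairV.false_of`** : then a contradiction (with `BadG` on both sides).
-/

set_option autoImplicit false
set_option linter.unusedSectionVars false

namespace Cfsg.Agent.Omega.NOThreeL.RZ.TwoC

open Subgroup Cfsg
open Cfsg.Agent.ZN (o2 zc zl jj)
open Cfsg.Agent.ZN.ChoiceBase hiding mem_zc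
open Cfsg.Agent.Omega.ML.Final (MLK)
open Cfsg.Agent.Omega.MinPar Cfsg.Agent.Omega.Frame Cfsg.Agent.Omega.FrameNOFF
open Cfsg.Agent.Omega.NOThreeL.Star (YS le_YS S_le_YS zl_mono)
open Cfsg.Agent.Omega.NO3S.EThree.ExactA (eab_iff)
open Cfsg.Agent.Omega.NoFF.Basic (V)
open Cfsg.Agent.MinSimple.VModule (le_normalizer_o2 o2_isPGroup o2_le le_o2)
open Cfsg.Agent.Omega.NO3b.EndX (RedP)
open Cfsg.Agent.Omega.KL.TwoS (Mx)
open scoped Pointwise

universe u

variable {G : Type u} [Group G]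

/-- **two complementary classes** -/
structure PairV [Finite G] (S : Sylow 2 G) (R B : Subgroup G) (z e : G) : Prop where
  ctx : Ctx G
  full : Full (S : Subgroup G)
  vc : zl (S : Subgroup G) (YS S) ≤ centralizer (zl (S : Subgroup G) (YS S) : Set G)
  vs : ∀ v ∈ zl (S : Subgroup G) (YS S), v ^ 2 = 1
  nR : YS (S : Subgroup G) ≤ normalizer (R : Set G)
  nB : YS (S : Subgroup G) ≤ normalizer (B : Set G)
  sE : centralizer ({e} : Set G) ⊓ normalizer ((S : Subgroup G) : Set G) ≤ normalizer (R : Set G) ⊓ normalizer (B : Set G)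
  sZ : centralizer ({z} : Set G) ⊓ normalizer ((S : Subgroup G) : Set G) ≤ normalizer (R : Set G) ⊓ normalizer (B : Set G)
  gR : R ≤ V (R ⊓ zc (S : Subgroup G)) (YS (S : Subgroup G))
  gB : B ≤ V (B ⊓ zc (S : Subgroup G)) (YS (S : Subgroup G))
  sup : zl (S : Subgroup G) (YS S) ≤ R ⊔ B
  spl : B ⊓ R = ⊥
  zR : z ∈ R
  zZ : z ∈ zc (S : Subgroup G)
  z1 : z ≠ 1
  eB : e ∈ B
  eZ : e ∈ zc (S : Subgroup G)
  e1 : e ≠ 1
  trZ : YS (S : Subgroup G) ≤ (YS (S : Subgroup G) ⊓ centralizer (B : Set G)) ⊔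
    (YS (S : Subgroup G) ⊓ centralizer ({z} : Set G))
  trE : YS (S : Subgroup G) ≤ (YS (S : Subgroup G) ⊓ centralizer (R : Set G)) ⊔
    (YS (S : Subgroup G) ⊓ centralizer ({e} : Set G))

theorem cent_zp (z : G) : centralizer (zpowers z : Set G) = centralizer ({z} : Set G) := by
  refine le_antisymm (centralizer_le (Set.singleton_subset_iff.2 (mem_zpowers z))) fun g hg => ?_
  rw [mem_centralizer_iff]
  rintro _ ⟨n, rfl⟩
  have h1 : Commute g z := mem_centralizer_singleton_iff.1 hg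
  exact (h1.zpow_right n).eq.symm

/-- `V U K` is monotone in `U` -/
theorem v_mono {A B K : Subgroup G} (h : A ≤ B) : V A K ≤ V B K :=
  iSup_mono fun k => (Subgroup.pointwise_smul_le_pointwise_smul_iff (a := MulAut.conj (k : G))).2 h

namespace PairV

variable [Finite G] {S : Sylow 2 G} {R B : Subgroup G} {z e : G} (h : PairV S R B z e)
include h

theorem low : zl (S : Subgroup G) (YS S) ≤ o2 (CZ (S : Subgroup G)) :=
  h.sup.trans (sup_le (LowP.lowR h.ctx.char2 h.nR h.gR h.eZ h.e1 h.trE)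
    (LowP.lowR h.ctx.char2 h.nB h.gB h.zZ h.z1 h.trZ))

theorem frV (hA : ∀ A, Mx (o2 (centralizer ({z} : Set G) ⊓ centralizer ({e} : Set G))) A →
    A ≤ centralizer (R : Set G)) : FrV S R B (zpowers z) e where
  ctx := h.ctx
  full := h.full
  nR := h.nR
  nB := h.nB
  sE := h.sE
  sZ := by
    rw [cent_zp]
    exact h.sZ
  RV := by
    rw [← v_eq]
    exact h.gR.trans (v_mono inf_le_right)
  BV := by
    rw [← v_eq]
    exact h.gB.trans (v_mono inf_le_right)
  Z0R := by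
    rw [zpowers_le]
    exact ⟨h.zR, h.zZ⟩
  ne := by
    rw [Ne, zpowers_eq_bot]
    exact h.z1
  hA := by
    intro A hA' hAz
    have hC1 : CZ (S : Subgroup G) ≤ centralizer ({z} : Set G) ⊓ centralizer ({e} : Set G) :=
      le_inf (centralizer_le (Set.singleton_subset_iff.2 h.zZ)) (centralizer_le (Set.singleton_subset_iff.2 h.eZ))
    have h1 : o2 (centralizer ({z} : Set G) ⊓ centralizer ({e} : Set G)) ≤ o2 (CZ (S : Subgroup G)) :=
      o2_le_o2 S (le_CZ S) hC1
    have h2 : A ≤ o2 (centralizer ({z} : Set G) ⊓ centralizer ({e} : Set G)) := by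
      rw [cent_zp] at hAz
      exact hAz.trans (o2_le_o2 S ((le_CZ S).trans hC1) inf_le_left)
    exact hA A ⟨h2, (eab_iff.1 hA'.1).2, fun B hB hB2 =>
      hA'.2.2 B (eab_iff.2 ⟨KL.TwoS.comm_of_sq hB2, hB2⟩) (hB.trans h1)⟩
  low := h.low
  vc := h.vc
  vs := h.vs
  eZ := h.eZ
  eB := h.eB
  e1 := h.e1
  tr := h.trE
  spl := h.spl

/-- **two complementary classes, `R` centralised by `AA(O₂(C(z) ∩ C(e)))`** -/
theorem false_of (hA : ∀ A, Mx (o2 (centralizer ({z} : Set G) ⊓ centralizer ({e} : Set G))) A →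
      A ≤ centralizer (R : Set G)) (hM : MLK.{u, u}) (hR : RedP.{u, u}) (hE : ML.Ex.Two.Ext.{u, u})
    (b1 : BadG (centralizer ({e} : Set G) ⊓ QQ (S : Subgroup G) R B ((S : Subgroup G) ⊓ centralizer (R : Set G)))
      ((S : Subgroup G) ⊓ centralizer (R : Set G)) B)
    (b2 : BadG (centralizer ({z} : Set G) ⊓ QQ (S : Subgroup G) R B ((S : Subgroup G) ⊓ centralizer (B : Set G)))
      ((S : Subgroup G) ⊓ centralizer (B : Set G)) R) : False := by
  refine (h.frV hA).false_of hM hR hE b1 (Or.inr ?_)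
  rw [cent_zp]
  exact b2

end PairV

end Cfsg.Agent.Omega.NOThreeL.RZ.TwoC

end

-- merged: Cfsg.Agent.Mrg.Omega.NOThreeL.RRed.WRunA
section

section


/-!
# Box R, at least two classes (bb #25865, #25809, #26298): `PairV` from the class modules

* `CM.conj_co` : `n ∈ N(S) ∩ N(W i)` normalises `∏_{j ≠ i} W j`;
* `CM.nrm_of_fix` : `n ∈ N(S)` which fixes a vector `≠ 1` of `W i` normalises `W i`;
* **`CM.pairV`** : `PairV S (W i) (∏_{j ≠ i} W j) z e`.
-/

set_option autoImplicit false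
set_option linter.unusedSectionVars false

namespace Cfsg.Agent.Omega.NOThreeL.RRed.WideTree

open Subgroup Cfsg Cfsg.Agent.ZN Cfsg.Agent.Omega.MinPar Cfsg.Agent.Omega.Frame Cfsg.Agent.Omega.FrameNOFF
open Cfsg.Agent.Omega.NOThreeL.RTree
open Cfsg.Agent.Omega.NOThreeL.Merge (MZ)
open Cfsg.Agent.Omega.NOThreeL.Star (YS)
open Cfsg.Agent.Omega.NOThreeL.RZ.TwoC (PairV v_mono)
open Cfsg.Agent.Omega.NoFF.Basic (V)
open scoped Pointwise

universe u v

section

variable {G : Type u} [Group G] {ι : Type u}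

theorem conj_sup {n : G} {W : ι → Subgroup G} (i : ι) :
    MulAut.conj n • (⨆ j : {j // j ≠ i}, W j : Subgroup G) = ⨆ j : {j // j ≠ i}, MulAut.conj n • W j := by
  change (⨆ j : {j // j ≠ i}, W j : Subgroup G).map (MulAut.conj n).toMonoidHom = _
  rw [Subgroup.map_iSup]
  rfl

theorem nrm_iff {n : G} {X : Subgroup G} : n ∈ normalizer (X : Set G) ↔ MulAut.conj n • X = X := by
  constructor
  · intro hn
    ext x
    rw [NoFF.Basic.mem_conj]
    have h1 := mem_normalizer_iff.1 hn (n⁻¹ * x * n)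
    rw [h1]
    have e : n * (n⁻¹ * x * n) * n⁻¹ = x := by group
    rw [e]
  · intro hn
    rw [mem_normalizer_iff]
    intro x
    have h1 : n * x * n⁻¹ ∈ MulAut.conj n • X ↔ x ∈ X := by
      rw [NoFF.Basic.mem_conj]
      have e : n⁻¹ * (n * x * n⁻¹) * n = x := by group
      rw [e]
    rw [hn] at h1
    exact h1.symm

variable [Finite G] {S : Sylow 2 G} {W : ι → Subgroup G}

/-- two classes which meet are equal -/
theorem CM.eq_of (h : CM (S : Subgroup G) W) {i j : ι} {x : G} (hi : x ∈ W i) (hj : x ∈ W j) (h1 : x ≠ 1) : j = i := by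
  by_contra hc
  apply h1
  have h2 : x ∈ W i ⊓ (⨆ j : {j // j ≠ i}, W j) := ⟨hi, (le_iSup (fun j : {j // j ≠ i} => W j) ⟨j, hc⟩) hj⟩
  rw [h.ind i] at h2
  exact mem_bot.1 h2

/-- `n ∈ N(S)` which fixes a vector `≠ 1` of `W i` normalises `W i` -/
theorem CM.nrm_of_fix (h : CM (S : Subgroup G) W) {i : ι} {n z : G} (hn : n ∈ normalizer ((S : Subgroup G) : Set G))
    (hz : z ∈ W i) (z1 : z ≠ 1) (hc : n * z = z * n) : n ∈ normalizer (W i : Set G) := by
  obtain ⟨j, hj⟩ := h.nS n hn i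
  have h1 : z ∈ W j := by
    rw [← hj, NoFF.Basic.mem_conj]
    have e : n⁻¹ * z * n = z := by rw [mul_assoc, ← hc, inv_mul_cancel_left]
    rw [e]
    exact hz
  rw [h.eq_of hz h1 z1] at hj
  exact nrm_iff.2 hj

/-- then it normalises the product of the other classes -/
theorem CM.conj_co (h : CM (S : Subgroup G) W) {i : ι} {n : G} (hn : n ∈ normalizer ((S : Subgroup G) : Set G))
    (hi : n ∈ normalizer (W i : Set G)) : n ∈ normalizer ((⨆ j : {j // j ≠ i}, W j : Subgroup G) : Set G) := by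
  have key : ∀ n ∈ normalizer ((S : Subgroup G) : Set G), n ∈ normalizer (W i : Set G) →
      MulAut.conj n • (⨆ j : {j // j ≠ i}, W j : Subgroup G) ≤ ⨆ j : {j // j ≠ i}, W j := by
    intro n hn hi
    rw [conj_sup]
    refine iSup_le fun j => ?_
    obtain ⟨k, hk⟩ := h.nS n hn j
    rw [hk]
    refine le_iSup (fun j : {j // j ≠ i} => W j) ⟨k, fun hki => j.2 ?_⟩
    have h1 : W j = W i := by
      have h2 : MulAut.conj n • W j = MulAut.conj n • W i := by rw [hk, hki, nrm_iff.1 hi]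
      have h3 := congrArg (fun X => MulAut.conj n⁻¹ • X) h2
      simpa only [smul_smul, ← map_mul, _root_.ne_eq, _root_.map_inv, _root_.inv_mul_cancel, _root_.one_smul] using h3
    obtain ⟨w, hw, w1⟩ := (W j).bot_or_exists_ne_one.resolve_left (h.ne j)
    exact h.eq_of (h1 ▸ hw) hw w1
  rw [nrm_iff]
  refine le_antisymm (key n hn hi) ?_
  have h1 := key n⁻¹ (inv_mem hn) (inv_mem hi)
  have h2 := (Subgroup.pointwise_smul_le_pointwise_smul_iff (a := MulAut.conj n)).2 h1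
  simpa only [smul_smul, ← map_mul, _root_.ne_eq, _root_.iSup_le_iff, _root_.Subtype.forall, _root_.map_inv, _root_.mul_inv_cancel, _root_.one_smul] using h2

/-- `W i ≤ ⟨(W i ∩ Z)^Y⟩` -/
theorem CM.gen_zc (B : RB S) (h : CM (S : Subgroup G) W) (i : ι) :
    W i ≤ V (W i ⊓ zc (S : Subgroup G)) (MZ (S : Subgroup G)) := by
  have hW : W i ≤ Wd (S : Subgroup G) := by
    rw [← h.sup]
    exact le_iSup W i
  obtain ⟨z, hz, z1, hzW⟩ := FFB.exists_zc (hW.trans (WS B)) (fun d hd => by rw [pow_two]; exact wsq B d (hW hd))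
    ((SM B).trans (h.inv i)) (h.ne i)
  refine fun w hw => h.zero i _ le_rfl (fun h0 => z1 ?_) w hw
  have h2 : z ∈ W i ⊓ zc (S : Subgroup G) := ⟨hzW, hz⟩
  rw [h0] at h2
  exact mem_bot.1 h2

/-- **`PairV` from the class modules** -/
theorem CM.pairV (B : RB S) (h : CM (S : Subgroup G) W) (i : ι) {z e : G}
    (zR : z ∈ W i) (zZ : z ∈ zc (S : Subgroup G)) (z1 : z ≠ 1)
    (eB : e ∈ (⨆ j : {j // j ≠ i}, W j : Subgroup G)) (eZ : e ∈ zc (S : Subgroup G)) (e1 : e ≠ 1)
    (trZ : MZ (S : Subgroup G) ≤ (MZ (S : Subgroup G) ⊓ centralizer ((⨆ j : {j // j ≠ i}, W j : Subgroup G) : Set G)) ⊔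
      (MZ (S : Subgroup G) ⊓ centralizer ({z} : Set G)))
    (trE : MZ (S : Subgroup G) ≤ (MZ (S : Subgroup G) ⊓ centralizer (W i : Set G)) ⊔
      (MZ (S : Subgroup G) ⊓ centralizer ({e} : Set G)))
    (nE : centralizer ({e} : Set G) ⊓ normalizer ((S : Subgroup G) : Set G) ≤ normalizer (W i : Set G)) :
    PairV S (W i) (⨆ j : {j // j ≠ i}, W j) z e where
  ctx := B.ctx
  full := B.full
  vc := Wd_abel B
  vs := fun v hv => by rw [pow_two]; exact wsq B v hv
  nR := h.inv i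
  nB := by
    refine fun g hg => nrm_iff.2 ?_
    rw [conj_sup]
    exact iSup_congr fun j => nrm_iff.1 (h.inv j hg)
  sE := fun n hn => ⟨nE hn, h.conj_co hn.2 (nE hn)⟩
  sZ := fun n hn => by
    have h1 := h.nrm_of_fix hn.2 zR z1 (mem_centralizer_singleton_iff.1 hn.1)
    exact ⟨h1, h.conj_co hn.2 h1⟩
  gR := h.gen_zc B i
  gB := iSup_le fun j => (h.gen_zc B j).trans
    (v_mono (inf_le_inf_right _ (le_iSup (fun j : {j // j ≠ i} => W j) j)))
  sup := by
    change Wd (S : Subgroup G) ≤ _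
    rw [← h.sup]
    refine iSup_le fun j => ?_
    by_cases hj : j = i
    · rw [hj]
      exact le_sup_left
    · exact (le_iSup (fun j : {j // j ≠ i} => W j) ⟨j, hj⟩).trans le_sup_right
  spl := by rw [inf_comm]; exact h.ind i
  zR := zR
  zZ := zZ
  z1 := z1
  eB := eB
  eZ := eZ
  e1 := e1
  trZ := trZ
  trE := trE

end

end Cfsg.Agent.Omega.NOThreeL.RRed.WideTree

end

section


/-!
# NO-3L, box R: `⟨C_G(l a : a ≠ b) : b⟩` is nonlocal as soon as `C_G(Z)` permutes the lines (#25652, case (ii))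

* `nloc` (abstract): lines `l b` in an abelian 2-group, groups `E b` centralising the other lines,
  `M₀ ≤ ⟨E b⟩ Stab(lines)`, `C_G(Z)` permutes the lines ⟹ no 2-group `U ≠ 1` is normalised by all
  `Y_b = C_G(l a : a ≠ b)`  [`G₁ = ⟨Y_b⟩` is normalised by `⟨M₀, C⟩`; `1 ≠ C_U(∏ l b) ≤ O₂(G₁)`];
* `perm_l` : over `NBs`: `n ∈ M₀ ∩ N(S ∩ ⟨E b⟩)` permutes the lines (only `ln`, `root`, `sylow`; `A₇` on `2⁴` allowed);
* **`g1_nloc`**, **`nonLocF_of`** (any set of classes), **`nonLoc_of`** (two classes).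
-/

set_option autoImplicit false
set_option linter.unusedSectionVars false

namespace Cfsg.Agent.Omega.NOThreeL.RRed.GOne

open Subgroup Cfsg Cfsg.Agent.ZN Cfsg.Agent.Omega.MinPar Cfsg.Agent.Omega.Frame Cfsg.Agent.Omega.FrameNOFF
open Cfsg.Agent.Omega.Node.NO3L Cfsg.Agent.Omega.NOThreeL.Basic Cfsg.Agent.Omega.NOThreeL.RTree
open Cfsg.Agent.Omega.NOThreeL.Merge (MZ nonLoc_MZ)
open Cfsg.Agent.Omega.NOThreeL.RRed.WideTree
open Cfsg.Agent.Omega.NOThreeL.RWide (YY YY_le_cent le_YY)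

open scoped Pointwise

universe u v w

section abs

variable {G : Type u} [Group G] {ι : Type v} {l E : ι → Subgroup G}

theorem mem_norm [Finite G] {g : G} {K : Subgroup G} (h : MulAut.conj g • K ≤ K) : g ∈ normalizer (K : Set G) := by
  have h1 : MulAut.conj g • K = K := by
    refine Subgroup.eq_of_le_of_card_ge h ?_
    exact (Nat.card_congr (Subgroup.equivSMul (MulAut.conj g) K).toEquiv).le
  rw [mem_normalizer_iff]
  intro x
  exact Blk.conj_smul h1

end abs

section nbs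

variable {G : Type u} [Group G] {S : Subgroup G}

theorem natblk_one {D N l : Subgroup G} {F : Type} [Field F] {e : G → Fin 2 → F} (h : NatBlk S D N l F e) :
    e 1 = 0 := by
  have h1 := h.mul 1 (one_mem _) 1 (one_mem _)
  rw [mul_one] at h1
  exact left_eq_add.1 h1

theorem natblk_inv {D N l : Subgroup G} {F : Type} [Field F] {e : G → Fin 2 → F} (h : NatBlk S D N l F e) {v : G}
    (hv : v ∈ N) : e v⁻¹ = - e v := by
  have h1 := h.mul v hv v⁻¹ (inv_mem hv)
  rw [mul_inv_cancel, natblk_one h] at h1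
  exact (neg_eq_of_add_eq_zero_right h1.symm).symm

theorem natblk_inj {D N l : Subgroup G} {F : Type} [Field F] {e : G → Fin 2 → F} (h : NatBlk S D N l F e) {v w : G}
    (hv : v ∈ N) (hw : w ∈ N) (hvw : e v = e w) : v = w := by
  have h1 := h.mul v hv w⁻¹ (inv_mem hw)
  rw [natblk_inv h hw, hvw, add_neg_cancel] at h1
  exact mul_inv_eq_one.1 (h.inj _ (mul_mem hv (inv_mem hw)) h1)

theorem natblk_l_le {D N l : Subgroup G} {F : Type} [Field F] {e : G → Fin 2 → F} (h : NatBlk S D N l F e) :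
    l ≤ N := fun v hv => ((h.line v).1 hv).1

theorem natblk_card {D N l : Subgroup G} {F : Type} [Field F] [Finite F] {e : G → Fin 2 → F}
    (h : NatBlk S D N l F e) : Nat.card l = Nat.card F := by
  refine Nat.card_congr (Equiv.ofBijective (fun v : l => e v 0) ⟨?_, ?_⟩)
  · intro v w hvw
    refine Subtype.ext (natblk_inj h (natblk_l_le h v.2) (natblk_l_le h w.2) ?_)
    funext i
    fin_cases i
    · exact hvw
    · exact ((h.line v).1 v.2).2.trans ((h.line w).1 w.2).2.symm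
  · intro c
    obtain ⟨v, hv, hc⟩ := h.sur ![c, 0]
    exact ⟨⟨v, (h.line v).2 ⟨hv, by rw [hc]; rfl⟩⟩, by show e v 0 = c; rw [hc]; rfl⟩

variable {ι : Type u} {N E D l : ι → Subgroup G} {q : ι → ℕ}

theorem l_le (h : NBs S N E D l q) (b : ι) : l b ≤ N b := by
  obtain ⟨F, _, _, _, e, _, nb⟩ := h.nat b
  exact natblk_l_le nb

theorem card_l (h : NBs S N E D l q) (b : ι) : Nat.card (l b) = q b := by
  obtain ⟨F, _, _, _, e, hq, nb⟩ := h.nat b
  rw [natblk_card nb, hq]

theorem l_ne (h : NBs S N E D l q) (b : ι) : l b ≠ ⊥ := by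
  obtain ⟨F, _, _, _, e, hq, nb⟩ := h.nat b
  intro hb
  have h1 := natblk_card nb
  rw [hb, Subgroup.card_bot] at h1
  exact (Finite.one_lt_card (α := F)).ne h1

/-- `Z ∩ ∏_{b ∈ T} N b ≤ ∏_{b ∈ T} l b` -/
theorem mem_lines (h : NBs S N E D l q) (T : Finset ι) : ∀ x ∈ (⨆ b ∈ T, N b : Subgroup G),
    (∀ b, ∀ s ∈ S ⊓ D b, s * x * s⁻¹ = x) → x ∈ (⨆ b ∈ T, l b : Subgroup G) := by
  classical
  induction T using Finset.induction_on with
  | empty => intro x hx _; simpa only [_root_.Finset.notMem_empty, _root_.not_false_eq_true, _root_.iSup_neg, _root_.iSup_bot, _root_.Subgroup.mem_bot] using hx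
  | insert b T hb ih =>
    intro x hx hs
    have hle : (⨆ c ∈ T, N c) ≤ Wd S := iSup₂_le fun c _ => h.dec.NU c
    rw [Finset.iSup_insert] at hx ⊢
    obtain ⟨n, hn, y, hy, e⟩ := Blk.mem_sup_of (h.dec.nor (h.dec.NU b) hle) hx
    have hDc : ∀ a c, a ≠ c → ∀ s ∈ S ⊓ D a, ∀ z ∈ N c, s * z * s⁻¹ = z := fun a c hac s hs' z hz =>
      Blk.cent (h.dec.EC a c hac (h.DE a hs'.2)) hz
    have hyb : ∀ s ∈ S ⊓ D b, s * y * s⁻¹ = y := by
      intro s hs'
      have h1 : s ∈ centralizer ((⨆ c ∈ T, N c : Subgroup G) : Set G) := by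
        have h2 : (⨆ c ∈ T, N c : Subgroup G) ≤ centralizer ((zpowers s : Subgroup G) : Set G) := by
          refine iSup₂_le fun c hc => ?_
          rw [le_centralizer_iff, zpowers_le]
          exact h.dec.EC b c (fun e => hb (e ▸ hc)) (h.DE b hs'.2)
        exact (le_centralizer_iff.1 h2) (mem_zpowers s)
      exact Blk.cent h1 hy
    have hnb : ∀ s ∈ S ⊓ D b, s * n * s⁻¹ = n := by
      intro s hs'
      have h1 := hs b s hs'
      have e1 : s * x * s⁻¹ = (s * n * s⁻¹) * (s * y * s⁻¹) := by rw [e]; group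
      rw [e1, hyb s hs', e] at h1
      exact mul_right_cancel h1
    have hnl : n ∈ l b := by
      obtain ⟨F, _, _, _, ev, _, nb⟩ := h.nat b
      obtain ⟨s, hs1, hs2⟩ := nb.sylow 1
      have h1 := hs2 n hn
      rw [hnb s hs1] at h1
      have h2 := congrFun h1 0
      simp only [Matrix.cons_val_zero, one_mul] at h2
      exact (nb.line n).2 ⟨hn, left_eq_add.1 h2⟩
    have hyl : y ∈ (⨆ c ∈ T, l c : Subgroup G) := by
      refine ih y hy fun a s hs' => ?_
      by_cases hab : a = b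
      · rw [hab] at hs'; exact hyb s hs'
      · have h1 := hs a s hs'
        have e1 : s * x * s⁻¹ = (s * n * s⁻¹) * (s * y * s⁻¹) := by rw [e]; group
        rw [e1, hDc a b hab s hs' n hn, e] at h1
        exact mul_left_cancel h1
    rw [e]
    exact mul_mem ((le_sup_left : l b ≤ _) hnl) ((le_sup_right : (⨆ c ∈ T, l c : Subgroup G) ≤ _) hyl)

variable {κ : Type w} {W : κ → Subgroup G} {side : ι → κ}

/-- `W i ∩ Z ≤ ∏_{side b = i} l b` -/
theorem zs_le (h : NBs S N E D l q) [Finite ι] (hW : ∀ i, W i = ⨆ b : {b // side b = i}, N b) (i : κ) :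
    W i ⊓ zc S ≤ ⨆ b : {b // side b = i}, l b := by
  classical
  have := Fintype.ofFinite ι
  intro x hx
  have h1 : (⨆ b : {b // side b = i}, N b) = ⨆ b ∈ Finset.univ.filter (fun b => side b = i), N b := by
    rw [iSup_subtype]
    refine iSup_congr fun b => ?_
    simp only [_root_.Finset.mem_filter, _root_.Finset.mem_univ, _root_.true_and]
  have h2 : (⨆ b : {b // side b = i}, l b) = ⨆ b ∈ Finset.univ.filter (fun b => side b = i), l b := by
    rw [iSup_subtype]
    refine iSup_congr fun b => ?_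
    simp only [_root_.Finset.mem_filter, _root_.Finset.mem_univ, _root_.true_and]
  rw [h2]
  refine mem_lines h _ x ?_ fun b s hs => ?_
  · rw [← h1, ← hW i]
    exact hx.1
  · have h3 := (mem_zc.1 hx.2).2.1 s hs.1
    rw [h3]; group

end nbs

end Cfsg.Agent.Omega.NOThreeL.RRed.GOne

end

section


/-!
# NO-3L, box R: the normaliser of `SL₂(F)` acts semilinearly on a natural block

* `semi_abs` : an additive bijection of `F²` which normalises the set of maps `SL₂(F)` is semilinear (`F` finite,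
  `|F| = 2` allowed) [it normalises the ring `M₂(F)` generated by `SL₂(F)`, so its centre];
* `natblk_semi` : `s ∈ N(N) ∩ N(D)` is semilinear on the natural block `N` of `D`;
* **`natblk_semi'`** : if moreover `s ∈ N(l)`: `e (s v s⁻¹) = ![a σ(e v 0) + b σ(e v 1), d σ(e v 1)]` (655's `semi`).
-/

set_option autoImplicit false
set_option linter.unusedSectionVars false

namespace Cfsg.Agent.Omega.NOThreeL.RRed.Semi

open Subgroup Cfsg Cfsg.Agent.Omega.NOThreeL.RRed.WideTree Cfsg.Agent.Omega.NOThreeL.RRed.GOne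
open Matrix

section abs

variable {F : Type*} [Field F]

/-- every matrix is transported, given the elements of `SL₂(F)` -/
theorem all_matrix (g : (Fin 2 → F) → (Fin 2 → F)) (hadd : ∀ x y, g (x + y) = g x + g y)
    (H : ∀ M : Matrix.SpecialLinearGroup (Fin 2) F, ∃ M' : Matrix.SpecialLinearGroup (Fin 2) F,
      ∀ x, g (M.1 *ᵥ x) = M'.1 *ᵥ g x) :
    ∀ M : Matrix (Fin 2) (Fin 2) F, ∃ M' : Matrix (Fin 2) (Fin 2) F, ∀ x, g (M *ᵥ x) = M' *ᵥ g x := by
  have hneg : ∀ x, g (-x) = - g x := by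
    intro x
    have h0 : g 0 = 0 := by
      have h1 := hadd 0 0
      rw [add_zero] at h1
      exact left_eq_add.1 h1
    have h2 := hadd x (-x)
    rw [add_neg_cancel, h0] at h2
    exact (neg_eq_of_add_eq_zero_right h2.symm).symm
  let P : Matrix (Fin 2) (Fin 2) F → Prop := fun M => ∃ M' : Matrix (Fin 2) (Fin 2) F, ∀ x, g (M *ᵥ x) = M' *ᵥ g x
  have hA : ∀ M N, P M → P N → P (M + N) := by
    rintro M N ⟨M', hM⟩ ⟨N', hN⟩
    exact ⟨M' + N', fun x => by rw [add_mulVec, hadd, hM, hN, add_mulVec]⟩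
  have hS : ∀ M N, P M → P N → P (M - N) := by
    rintro M N ⟨M', hM⟩ ⟨N', hN⟩
    exact ⟨M' - N', fun x => by rw [sub_mulVec, sub_eq_add_neg, hadd, hneg, hM, hN, sub_mulVec, sub_eq_add_neg]⟩
  have hP : ∀ M N, P M → P N → P (M * N) := by
    rintro M N ⟨M', hM⟩ ⟨N', hN⟩
    exact ⟨M' * N', fun x => by rw [← mulVec_mulVec, hM, hN, mulVec_mulVec]⟩
  have hSL : ∀ M : Matrix.SpecialLinearGroup (Fin 2) F, P M.1 := fun M => by
    obtain ⟨M', hM⟩ := H M
    exact ⟨M'.1, hM⟩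
  have h1 : P 1 := ⟨1, fun x => by rw [one_mulVec, one_mulVec]⟩
  have h01 : ∀ c : F, P !![0, c; 0, 0] := by
    intro c
    have h2 := hS _ _ (hSL ⟨!![1, c; 0, 1], by simp [det_fin_two]⟩) h1
    have e : (!![1, c; 0, 1] : Matrix (Fin 2) (Fin 2) F) - 1 = !![0, c; 0, 0] := by
      ext i j
      (revert i j; simp only [_root_.Fin.forall_fin_succ, _root_.Matrix.sub_apply, _root_.Matrix.of_apply, _root_.Matrix.cons_val', _root_.Matrix.cons_val_fin_one, Fin.isValue, _root_.Matrix.cons_val_zero, _root_.Matrix.cons_val_succ, _root_.IsEmpty.forall_iff, _root_.and_true, _root_.Matrix.one_apply_eq, _root_.sub_self, Nat.reduceAdd, _root_.Fin.succ_zero_eq_one, _root_.ne_eq, _root_.zero_ne_one, _root_.not_false_eq_true, _root_.Matrix.one_apply_ne, _root_.sub_zero, _root_.and_self, _root_.Fin.succ_ne_zero, _root_.true_and])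
    rwa [show ((⟨!![1, c; 0, 1], by simp [det_fin_two]⟩ : Matrix.SpecialLinearGroup (Fin 2) F).1 - 1) =
      !![0, c; 0, 0] from e] at h2
  have h10 : ∀ c : F, P !![0, 0; c, 0] := by
    intro c
    have h2 := hS _ _ (hSL ⟨!![1, 0; c, 1], by simp [det_fin_two]⟩) h1
    have e : (!![1, 0; c, 1] : Matrix (Fin 2) (Fin 2) F) - 1 = !![0, 0; c, 0] := by
      ext i j
      (revert i j; simp only [_root_.Fin.forall_fin_succ, _root_.Matrix.sub_apply, _root_.Matrix.of_apply, _root_.Matrix.cons_val', _root_.Matrix.cons_val_fin_one, Fin.isValue, _root_.Matrix.cons_val_zero, _root_.Matrix.cons_val_succ, _root_.IsEmpty.forall_iff, _root_.and_true, _root_.Matrix.one_apply_eq, _root_.sub_self, Nat.reduceAdd, _root_.Fin.succ_zero_eq_one, _root_.ne_eq, _root_.zero_ne_one, _root_.not_false_eq_true, _root_.Matrix.one_apply_ne, _root_.and_self, _root_.Fin.succ_ne_zero, _root_.sub_zero, _root_.true_and])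
    rwa [show ((⟨!![1, 0; c, 1], by simp [det_fin_two]⟩ : Matrix.SpecialLinearGroup (Fin 2) F).1 - 1) =
      !![0, 0; c, 0] from e] at h2
  have h00 : ∀ c : F, P !![c, 0; 0, 0] := by
    intro c
    have h2 := hP _ _ (h01 c) (h10 1)
    have e : (!![0, c; 0, 0] : Matrix (Fin 2) (Fin 2) F) * !![0, 0; 1, 0] = !![c, 0; 0, 0] := by
      ext i j
      (revert i j; simp only [Matrix.mul_apply, _root_.Fin.forall_fin_succ, _root_.Matrix.of_apply, _root_.Matrix.cons_val', _root_.Matrix.cons_val_fin_one, _root_.Fin.sum_univ_two, Fin.isValue, _root_.Matrix.cons_val_zero, _root_.Matrix.cons_val_one, _root_.MulZeroClass.mul_zero, _root_.mul_one, _root_.zero_add, _root_.Matrix.cons_val_succ, _root_.add_zero, _root_.forall_const, _root_.true_and, _root_.implies_true, _root_.and_self])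
    rwa [e] at h2
  have h11 : ∀ c : F, P !![0, 0; 0, c] := by
    intro c
    have h2 := hP _ _ (h10 1) (h01 c)
    have e : (!![0, 0; 1, 0] : Matrix (Fin 2) (Fin 2) F) * !![0, c; 0, 0] = !![0, 0; 0, c] := by
      ext i j
      (revert i j; simp only [Matrix.mul_apply, _root_.Fin.forall_fin_succ, _root_.Matrix.of_apply, _root_.Matrix.cons_val', _root_.Matrix.cons_val_fin_one, _root_.Fin.sum_univ_two, Fin.isValue, _root_.Matrix.cons_val_zero, _root_.Matrix.cons_val_one, _root_.MulZeroClass.mul_zero, _root_.add_zero, _root_.Matrix.cons_val_succ, _root_.forall_const, _root_.MulZeroClass.zero_mul, _root_.and_self, _root_.one_mul, _root_.implies_true])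
    rwa [e] at h2
  intro M
  have e : M = (!![M 0 0, 0; 0, 0] + !![0, M 0 1; 0, 0]) + (!![0, 0; M 1 0, 0] + !![0, 0; 0, M 1 1]) := by
    ext i j
    (revert i j; simp only [_root_.Fin.forall_fin_succ, Fin.isValue, _root_.Matrix.of_add_of, _root_.Matrix.add_cons, _root_.Matrix.head_cons, _root_.add_zero, _root_.Matrix.tail_cons, _root_.zero_add, _root_.Matrix.empty_add_empty, _root_.Matrix.add_apply, _root_.Matrix.of_apply, _root_.Matrix.cons_val', _root_.Matrix.cons_val_fin_one, _root_.Matrix.cons_val_zero, _root_.Matrix.cons_val_succ, _root_.Fin.succ_zero_eq_one, _root_.IsEmpty.forall_iff, _root_.and_true, _root_.and_self])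
  rw [e]
  exact hA _ _ (hA _ _ (h00 _) (h01 _)) (hA _ _ (h10 _) (h11 _))

/-- **An additive bijection of `F²` which normalises `SL₂(F)` is semilinear.** -/
theorem semi_abs [Finite F] (g : (Fin 2 → F) → (Fin 2 → F)) (hadd : ∀ x y, g (x + y) = g x + g y)
    (hbij : Function.Bijective g)
    (H : ∀ M : Matrix.SpecialLinearGroup (Fin 2) F, ∃ M' : Matrix.SpecialLinearGroup (Fin 2) F,
      ∀ x, g (M.1 *ᵥ x) = M'.1 *ᵥ g x) :
    ∃ σ : F ≃+* F, ∀ x i, g x i = σ (x 0) * g ![1, 0] i + σ (x 1) * g ![0, 1] i := by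
  classical
  choose φ hφ using all_matrix g hadd H
  have hφi : Function.Injective φ := by
    intro M N hMN
    have h1 : ∀ x, M *ᵥ x = N *ᵥ x := fun x => hbij.1 (by rw [hφ, hφ, hMN])
    exact Matrix.mulVec_injective (funext h1)
  have hφs : Function.Surjective φ := Finite.surjective_of_injective hφi
  have hsc : ∀ c : F, ∃ d : F, ∀ x, g (c • x) = d • g x := by
    intro c
    have h1 : ∀ N : Matrix (Fin 2) (Fin 2) F, φ (c • 1) * N = N * φ (c • 1) := by
      intro N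
      obtain ⟨M, rfl⟩ := hφs N
      refine Matrix.mulVec_injective (funext fun y => ?_)
      obtain ⟨x, rfl⟩ := hbij.2 y
      show (φ (c • 1) * φ M) *ᵥ g x = (φ M * φ (c • 1)) *ᵥ g x
      rw [← mulVec_mulVec, ← mulVec_mulVec, ← hφ, ← hφ, ← hφ, ← hφ]
      congr 1
      rw [mulVec_mulVec, mulVec_mulVec]
      congr 1
      rw [Matrix.smul_mul, Matrix.one_mul, Matrix.mul_smul, Matrix.mul_one]
    have h2 : φ (c • 1) ∈ Set.range (Matrix.scalar (Fin 2)) :=
      Matrix.mem_range_scalar_of_commute_single fun i j _ => (h1 _).symm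
    obtain ⟨d, hd⟩ := h2
    refine ⟨d, fun x => ?_⟩
    have h3 := hφ (c • 1) x
    rw [smul_mulVec, one_mulVec, ← hd] at h3
    rw [h3]
    ext i
    simp [Matrix.scalar_apply, Matrix.mulVec_diagonal]
  choose σ hσ using hsc
  have h0 : g 0 = 0 := by
    have h1 := hadd 0 0
    rw [add_zero] at h1
    exact left_eq_add.1 h1
  have hne : g ![1, 0] ≠ 0 := by
    intro h1
    have h2 : (![1, 0] : Fin 2 → F) = 0 := hbij.1 (by rw [h1, h0])
    exact one_ne_zero (congrFun h2 0)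
  have hcan : ∀ c d : F, c • g ![1, 0] = d • g ![1, 0] → c = d := fun c d h1 => smul_left_injective F hne h1
  have hs1 : σ 1 = 1 := hcan _ _ (by rw [← hσ, one_smul, one_smul])
  have hsm : ∀ c d, σ (c * d) = σ c * σ d := fun c d => hcan _ _ (by
    rw [← hσ, mul_smul, hσ, hσ, ← mul_smul])
  have hsa : ∀ c d, σ (c + d) = σ c + σ d := fun c d => hcan _ _ (by
    rw [← hσ, add_smul, hadd, hσ, hσ, ← add_smul])
  have hs0 : σ 0 = 0 := hcan _ _ (by rw [← hσ, zero_smul, zero_smul, h0])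
  let τ : F →+* F := { toFun := σ, map_one' := hs1, map_mul' := hsm, map_zero' := hs0, map_add' := hsa }
  have hτ : Function.Bijective τ := ⟨τ.injective, Finite.surjective_of_injective τ.injective⟩
  refine ⟨RingEquiv.ofBijective τ hτ, fun x i => ?_⟩
  have e : x = x 0 • ![1, 0] + x 1 • ![0, 1] := by
    ext j
    fin_cases j <;> simp
  have h3 : g x = σ (x 0) • g ![1, 0] + σ (x 1) • g ![0, 1] := by
    conv_lhs => rw [e]
    rw [hadd, hσ, hσ]
  rw [h3]
  rfl

end abs

section blk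

universe u

variable {G : Type u} [Group G] {S D N l : Subgroup G} {F : Type} [Field F] [Finite F] {e : G → Fin 2 → F}

/-- `s ∈ N(N) ∩ N(D)` is semilinear on the natural block. -/
theorem natblk_semi (h : NatBlk S D N l F e) {s : G} (hs : s ∈ normalizer (N : Set G))
    (hD : ∀ d ∈ D, s * d * s⁻¹ ∈ D) (hDN : D ≤ normalizer (N : Set G)) :
    ∃ (σ : F ≃+* F) (A : Fin 2 → Fin 2 → F), ∀ v ∈ N, ∀ i,
      e (s * v * s⁻¹) i = σ (e v 0) * A 0 i + σ (e v 1) * A 1 i := by
  choose w hwN hwe using h.sur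
  have hwv : ∀ v ∈ N, w (e v) = v := fun v hv => natblk_inj h (hwN _) hv (hwe _)
  have hN : ∀ v ∈ N, s * v * s⁻¹ ∈ N := fun v hv => (mem_normalizer_iff.1 hs v).1 hv
  let g : (Fin 2 → F) → (Fin 2 → F) := fun x => e (s * w x * s⁻¹)
  have hg : ∀ v ∈ N, g (e v) = e (s * v * s⁻¹) := fun v hv => by show e (s * w (e v) * s⁻¹) = _; rw [hwv v hv]
  have hadd : ∀ x y, g (x + y) = g x + g y := by
    intro x y
    have h1 : x + y = e (w x * w y) := by rw [h.mul _ (hwN x) _ (hwN y), hwe, hwe]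
    rw [h1, hg _ (mul_mem (hwN x) (hwN y))]
    have e1 : s * (w x * w y) * s⁻¹ = (s * w x * s⁻¹) * (s * w y * s⁻¹) := by group
    rw [e1, h.mul _ (hN _ (hwN x)) _ (hN _ (hwN y))]
  have hinj : Function.Injective g := by
    intro x y hxy
    have h1 := natblk_inj h (hN _ (hwN x)) (hN _ (hwN y)) hxy
    have h2 : w x = w y := by
      have h3 := congrArg (fun z => s⁻¹ * z * s) h1
      simpa only [mul_assoc, _root_.inv_mul_cancel_left, _root_.inv_mul_cancel, _root_.mul_one] using h3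
    rw [← hwe x, ← hwe y, h2]
  have hbij : Function.Bijective g := ⟨hinj, Finite.surjective_of_injective hinj⟩
  obtain ⟨σ, hσ⟩ := semi_abs g hadd hbij (by
    intro M
    obtain ⟨d, hd, hdM⟩ := h.full M
    obtain ⟨M', hM'⟩ := h.act _ (hD d hd)
    refine ⟨M', fun x => ?_⟩
    have h1 : M.1 *ᵥ x = e (d * w x * d⁻¹) := by rw [hdM _ (hwN x), hwe]
    have h2 : d * w x * d⁻¹ ∈ N := (mem_normalizer_iff.1 (hDN hd) _).1 (hwN x)
    rw [h1, hg _ h2]
    have e1 : s * (d * w x * d⁻¹) * s⁻¹ = (s * d * s⁻¹) * (s * w x * s⁻¹) * (s * d * s⁻¹)⁻¹ := by group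
    rw [e1, hM' _ (hN _ (hwN x))])
  refine ⟨σ, ![g ![1, 0], g ![0, 1]], fun v hv i => ?_⟩
  rw [← hg v hv, hσ]
  rfl

/-- **655's `semi`.** -/
theorem natblk_semi' (h : NatBlk S D N l F e) {s : G} (hs : s ∈ normalizer (N : Set G))
    (hD : ∀ d ∈ D, s * d * s⁻¹ ∈ D) (hDN : D ≤ normalizer (N : Set G)) (hl : ∀ v ∈ l, s * v * s⁻¹ ∈ l) :
    ∃ (σ : F ≃+* F) (a b d : F), ∀ v ∈ N,
      e (s * v * s⁻¹) = ![a * σ (e v 0) + b * σ (e v 1), d * σ (e v 1)] := by
  obtain ⟨σ, A, hA⟩ := natblk_semi h hs hD hDN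
  have h1 : A 0 1 = 0 := by
    obtain ⟨v, hv, hv1⟩ := h.sur ![1, 0]
    have hvl : v ∈ l := (h.line v).2 ⟨hv, by rw [hv1]; rfl⟩
    have h2 := ((h.line _).1 (hl v hvl)).2
    rw [hA v hv, hv1] at h2
    simpa using h2
  refine ⟨σ, A 0 0, A 1 0, A 1 1, fun v hv => ?_⟩
  funext i
  rw [hA v hv]
  fin_cases i
  · simp only [mul_comm, _root_.Fin.isValue, _root_.Fin.zero_eta, _root_.mul_comm, _root_.Nat.succ_eq_add_one, _root_.Nat.reduceAdd, _root_.Matrix.cons_val_zero]
  · simp [mul_comm, h1]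

end blk

end Cfsg.Agent.Omega.NOThreeL.RRed.Semi

end

end
end

-- part: Mrg/Omega/NOThreeL/RZ/TwoE/Tv
section
prune_inst 0x14200100040200000000000220002004680001000020000178000a00034633228801210044a00a000802a2000000004002dc0010001000000000000040000401002812060100a00000000600b007180c00000000000000000000000000041000200000000
set_option linter.all false
open scoped Cfsg.Agent.FastGrp


/-!
# [R-z] (#25243): the frame `FrE` from blocks of one kind, in particular from the transvection blocks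

* **`frE_ofR`** : `Dec S Y V* N E R₀`, `Orbs`, `R ≤ R₀`, `R ∩ Z ≠ 1` imply `FrE S R (∏ N b) e`;
* `tv_best`, `tv_mx` : an element of `S` which acts as a transvection generates a best (minimal exact) offender;
* `le_R₀` : `C_{V*}(E₁) ≤ R₀`, `R₀` = the elements fixed by all transvections;
* `norm_B` : `N_G(S)` normalises the product of the transvection blocks;
* **`frE_tvS`** : a transvection in `S`, `C_Z(E₁) ≠ 1`, the best offenders of `S` centralise `R₁ = ⟨C_Z(E₁)^Y⟩`: the frame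
  `FrE S R₁ (∏ N b) e`;
* **`frE_tv`** : the same without the last hypothesis, if no `P` is of type `q ≥ 4`.
-/

set_option autoImplicit false
set_option linter.unusedSectionVars false

namespace Cfsg.Agent.Omega.NOThreeL.RZ.TwoE.Tv

open Subgroup Cfsg
open Cfsg.Agent.ZN (o2 zc zl jj)
open Cfsg.Agent.ZN.ChoiceBase hiding mem_zc
open Cfsg.Agent.Omega.MinPar Cfsg.Agent.Omega.Frame Cfsg.Agent.Omega.FrameNOFF
open Cfsg.Agent.Omega.FFThm (ElemM OffM NoOverM)
open Cfsg.Agent.Omega.NO1.BestOff (Best)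
open Cfsg.Agent.Omega.NO3b.Bang (cent_symm)
open Cfsg.Agent.Omega.NOThreeL.Star (YS le_YS S_le_YS)
open Cfsg.Agent.Omega.NOThreeL.RRed
open Cfsg.Agent.Omega.NOThreeL.RRed.Blk
open Cfsg.Agent.Omega.NOThreeL.RRed.TvFin (TvV)
open Cfsg.Agent.Omega.NOThreeL.RRed.FourTree (TvS Fld Bks)
open Cfsg.Agent.Omega.NOThreeL.RRed.EOne (E1 E1S Z1 R1 B1)
open Cfsg.Agent.Omega.NOThreeL.RTreeF (RBF)
open Cfsg.Agent.Omega.NOThreeL.RTree (RB)
open Cfsg.Agent.Omega.NOThreeL.RZ.TwoC (FrE)
open Cfsg.Agent.Omega.NOThreeL.RZ.TwoC.FrEOf (low_of best_of_mem nS_Vs)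
open Cfsg.Agent.Omega.KL.TwoS (Rel Lett)
open Cfsg.Agent.Omega.NO3S.EThree.ExactA (eab_iff)
open Cfsg.Agent.MinSimple.VModule (zc_le_zl le_normalizer_zl mem_zc)
open scoped Pointwise

universe u v

variable {G : Type u} [Group G]

/-! ### The frame from the blocks -/

section frame

variable [Finite G] {S : Sylow 2 G} {ι : Type v} [Finite ι] {N E : ι → Subgroup G} {R₀ R : Subgroup G} {O : ι → Set G}

/-- **The frame `FrE` from blocks of one kind**, `R ≤ R₀`. -/
theorem frE_ofR [Nonempty ι] (hB : RB S)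
    (h : Dec (S : Subgroup G) (YS (S : Subgroup G)) (zl (S : Subgroup G) (YS S)) N E R₀)
    (o : TwoC.DecE.Orbs (YS (S : Subgroup G)) N E O)
    (hdif : ∀ b, N b ≤ closure {g | ∃ x ∈ O b, ∃ y ∈ O b, g = y * x⁻¹})
    (hRR : R ≤ R₀) (nR : YS (S : Subgroup G) ≤ normalizer (R : Set G))
    (sR : normalizer ((S : Subgroup G) : Set G) ≤ normalizer (R : Set G))
    (ne : R ⊓ zc (S : Subgroup G) ≠ ⊥)
    (hA : zl (S : Subgroup G) (YS S) ≤ o2 (CZ (S : Subgroup G)) →
      ∀ A ∈ AA (o2 (CZ (S : Subgroup G))), A ≤ centralizer (R : Set G))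
    (sB : normalizer ((S : Subgroup G) : Set G) ≤ normalizer ((⨆ b, N b : Subgroup G) : Set G)) :
    ∃ e ∈ TwoC.DecE.PP N R₀ O, FrE S R (⨆ b, N b) e := by
  have hsq : ∀ v ∈ zl (S : Subgroup G) (YS S), v ^ 2 = 1 := Star.zl_sq hB.ctx.char2 hB.data.noff
  have hP : IsPGroup 2 (zl (S : Subgroup G) (YS S)) := fun x => ⟨1, Subtype.ext (by simpa using hsq x x.2)⟩
  have hUS : zl (S : Subgroup G) (YS S) ≤ (S : Subgroup G) :=
    le_of_le_normalizer S hP (h.SL.trans (le_normalizer_zl _ _))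
  obtain ⟨e, he, heS⟩ := TwoC.DecE.exists_e h o S.isPGroup'
  have e1 : e ≠ 1 := TwoC.DecE.ne_one h o he
  have eU : e ∈ zl (S : Subgroup G) (YS S) := TwoC.DecE.B_le h he.1
  have eZ : e ∈ zc (S : Subgroup G) :=
    mem_zc.2 ⟨hUS eU, fun s hs => (mem_centralizer_iff.1 (heS hs) e rfl).symm, hsq e eU⟩
  have ne0 : R₀ ⊓ zc (S : Subgroup G) ≠ ⊥ := fun h0 => ne (eq_bot_iff.2 (h0 ▸ inf_le_inf_right _ hRR))
  have low := low_of hB h o hdif ne0 he eZ e1
  have tr : YS (S : Subgroup G) ≤ (YS (S : Subgroup G) ⊓ centralizer (R : Set G)) ⊔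
      (YS (S : Subgroup G) ⊓ centralizer ({e} : Set G)) := by
    refine (TwoC.DecE.le_of h o he).trans (sup_le le_sup_right ?_)
    exact (le_inf (TwoC.DecE.E_le h) ((TwoC.DecE.E_cent h).trans (centralizer_le hRR))).trans le_sup_left
  refine ⟨e, he, FrE.of_norm hB.ctx hB.full nR (TwoC.DecE.le_norm_B h) sR sB (hRR.trans (TwoC.DecE.R_le h))
    (TwoC.DecE.B_le h) ne (hA low) low h.ab hsq ?_ eZ he.1 e1 tr⟩
  rw [eq_bot_iff, ← TwoC.DecE.disj h]
  exact inf_le_inf_left _ hRR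

/-- every `A ∈ 𝒜(O₂(C_G(Z)))` is a best offender of `S` on `V*` (Thompson) -/
theorem hA_best (hB : RB S) (hb : ∀ A ≤ (S : Subgroup G), Best (zl (S : Subgroup G) (YS S)) A →
      A ≤ centralizer (R : Set G)) (low : zl (S : Subgroup G) (YS S) ≤ o2 (CZ (S : Subgroup G))) :
    ∀ A ∈ AA (o2 (CZ (S : Subgroup G))), A ≤ centralizer (R : Set G) := by
  intro A hA
  exact hb A (hA.2.1.trans TwoC.Loc.o2C_le) (best_of_mem (eab_iff.2 ⟨EOne.VC hB, EOne.Vsq hB⟩) low hA)

end frame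

/-! ### Transvections -/

section tv

variable {V : Subgroup G} {c s : G}

theorem tv_two (hc : c ∈ V) (hsq : ∀ v ∈ V, v ^ 2 = 1) (hT : TvV V c s) : s ^ 2 ∈ centralizer (V : Set G) := by
  have hcc : c * c = 1 := by rw [← pow_two]; exact hsq c hc
  have h1 : s * c * s⁻¹ = c := by
    rcases hT c hc with h | h
    · exact h
    · rw [hcc] at h
      have h2 : c = 1 := by
        have e : c = s⁻¹ * (s * c * s⁻¹) * s := by group
        rw [e, h]; group
      rw [h2]; group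
  rw [mem_centralizer_iff]
  intro w hw
  have key : s ^ 2 * w * (s ^ 2)⁻¹ = w := by
    have e : s ^ 2 * w * (s ^ 2)⁻¹ = s * (s * w * s⁻¹) * s⁻¹ := by rw [pow_two]; group
    rw [e]
    rcases hT w hw with h | h
    · rw [h, h]
    · rw [h]
      have e2 : s * (w * c) * s⁻¹ = (s * w * s⁻¹) * (s * c * s⁻¹) := by group
      rw [e2, h, h1, mul_assoc, hcc, mul_one]
  calc w * s ^ 2 = (s ^ 2 * w * (s ^ 2)⁻¹) * s ^ 2 := by rw [key]
    _ = s ^ 2 * w := by group

theorem tv_elem (h2 : s ^ 2 ∈ centralizer (V : Set G)) : ElemM V (zpowers s) := by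
  constructor
  · rintro a ⟨k, rfl⟩
    have e : (s ^ k) ^ 2 = (s ^ 2) ^ k := by
      rw [← zpow_natCast, ← zpow_mul, ← zpow_natCast, ← zpow_mul, mul_comm]
    change (s ^ k) ^ 2 ∈ _
    rw [e]
    exact zpow_mem h2 k
  · rintro a ⟨k, rfl⟩ b ⟨l, rfl⟩
    have e : s ^ k * s ^ l * (s ^ k)⁻¹ * (s ^ l)⁻¹ = 1 := by
      rw [← zpow_add, add_comm, zpow_add]; group
    change s ^ k * s ^ l * (s ^ k)⁻¹ * (s ^ l)⁻¹ ∈ _
    rw [e]
    exact one_mem _

/-- a subgroup of `⟨s⟩` which contains `⟨s⟩ ∩ C(V)` lies in `C(V)` or is `⟨s⟩` -/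
theorem tv_sub (h2 : s ^ 2 ∈ centralizer (V : Set G)) {Y : Subgroup G} (hY : Y ≤ zpowers s)
    (hC : zpowers s ⊓ centralizer (V : Set G) ≤ Y) : Y ≤ centralizer (V : Set G) ∨ Y = zpowers s := by
  by_cases h : Y ≤ centralizer (V : Set G)
  · exact Or.inl h
  right
  obtain ⟨y, hy, hyn⟩ := Set.not_subset.1 h
  obtain ⟨k, hk⟩ := hY hy
  refine le_antisymm hY (zpowers_le.2 ?_)
  change s ^ k = y at hk
  rcases Int.even_or_odd' k with ⟨m, hm | hm⟩
  · exfalso
    apply hyn
    rw [← hk, hm, zpow_mul, zpow_ofNat]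
    exact zpow_mem h2 m
  · have h3 : (s ^ 2) ^ m ∈ Y := hC ⟨zpow_mem (pow_mem (mem_zpowers s) 2) m, zpow_mem h2 m⟩
    have e : s = (((s ^ 2) ^ m)⁻¹) * y := by
      rw [← hk, hm, zpow_add, zpow_mul, zpow_ofNat, zpow_one]; group
    rw [e]
    exact mul_mem (inv_mem h3) hy

variable [Finite G]

theorem cent_zpowers (s : G) : centralizer ((zpowers s : Subgroup G) : Set G) = centralizer ({s} : Set G) := by
  apply le_antisymm
  · exact centralizer_le (Set.singleton_subset_iff.2 (mem_zpowers s))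
  · rw [le_centralizer_iff, zpowers_le, mem_centralizer_iff]
    exact fun v hv => mem_centralizer_singleton_iff.1 hv

theorem two_card {Y : Subgroup G} (hY : Y ≤ zpowers s) (hne : Y ≠ zpowers s) :
    2 * Nat.card Y ≤ Nat.card (zpowers s) := by
  have h5 := card_mul_index (Y.subgroupOf (zpowers s))
  rw [Nat.card_congr (subgroupOfEquivOfLe hY).toEquiv] at h5
  have h6 : (Y.subgroupOf (zpowers s)).index ≠ 1 := by
    rw [Ne, index_eq_one, subgroupOf_eq_top]
    exact fun h7 => hne (le_antisymm hY h7)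
  have h7 : (Y.subgroupOf (zpowers s)).index ≠ 0 := index_ne_zero_of_finite
  have h8 : 2 ≤ (Y.subgroupOf (zpowers s)).index := by omega
  calc 2 * Nat.card Y = Nat.card Y * 2 := mul_comm _ _
    _ ≤ _ := Nat.mul_le_mul_left _ h8
    _ = _ := h5

/-- **a transvection is a best offender** -/
theorem tv_best (hc : c ∈ V) (hsq : ∀ v ∈ V, v ^ 2 = 1) (hT : TvV V c s) (_hn : s ∉ centralizer (V : Set G)) :
    Best V (zpowers s) := by
  have h2 := tv_two hc hsq hT
  refine { toElemM := tv_elem h2, max := fun Y hY hC => ?_ }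
  rcases eq_or_ne Y (zpowers s) with rfl | hne
  · exact le_rfl
  have h3 := two_card hY hne
  have h4 := RRed.TvAtom.card_le_tv hT
  rw [cent_zpowers]
  calc Nat.card Y * Nat.card ↥(V ⊓ centralizer (Y : Set G)) ≤ Nat.card Y * Nat.card V :=
        Nat.mul_le_mul_left _ (Subgroup.card_le_of_le inf_le_left)
    _ ≤ Nat.card Y * (2 * Nat.card ↥(V ⊓ centralizer ({s} : Set G))) := Nat.mul_le_mul_left _ h4
    _ = (2 * Nat.card Y) * Nat.card ↥(V ⊓ centralizer ({s} : Set G)) := by ring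
    _ ≤ _ := Nat.mul_le_mul_right _ h3

/-- **a transvection is a minimal exact offender** -/
theorem tv_mx {L : Subgroup G} (hno : NoOverM V L) (hsL : s ∈ L) (hs2 : IsPGroup 2 (zpowers s)) (hc : c ∈ V)
    (hsq : ∀ v ∈ V, v ^ 2 = 1) (hT : TvV V c s) (hn : s ∉ centralizer (V : Set G)) : RRed.Mx V (zpowers s) := by
  have h2 := tv_two hc hsq hT
  have hE := tv_elem h2
  have h0 : ¬ zpowers s ≤ centralizer (V : Set G) := fun h => hn (h (mem_zpowers s))
  refine { toElemM := hE, pg := hs2, ne := h0, exact := ?_, min := fun Y hY _ hC => tv_sub h2 hY hC }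
  have h3 := two_card (Y := zpowers s ⊓ centralizer (V : Set G)) inf_le_left fun h => h0 (inf_eq_left.1 h)
  have h4 := RRed.TvAtom.card_le_tv hT
  refine le_antisymm ?_ (hno _ (zpowers_le.2 hsL) hE)
  rw [cent_zpowers]
  calc Nat.card V * Nat.card ↥(zpowers s ⊓ centralizer (V : Set G))
      ≤ (2 * Nat.card ↥(V ⊓ centralizer ({s} : Set G))) * Nat.card ↥(zpowers s ⊓ centralizer (V : Set G)) :=
        Nat.mul_le_mul_right _ h4
    _ = (2 * Nat.card ↥(zpowers s ⊓ centralizer (V : Set G))) * Nat.card ↥(V ⊓ centralizer ({s} : Set G)) := by ring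
    _ ≤ _ := Nat.mul_le_mul_right _ h3

end tv

section blocks

variable {S M V : Subgroup G} {I : Type u} {N E : I → Subgroup G} {R₀ : Subgroup G} {Om : I → Type u}
    [∀ i, Fintype (Om i)] [∀ i, DecidableEq (Om i)] {phi : ∀ i, Finset (Om i) → G}
    (F : TvFin.Full S M V N E R₀ Om phi)
include F

theorem TvV.conj {V' : Subgroup G} {c x n : G} (hT : TvV V' c x) (hn : n ∈ normalizer (V' : Set G)) :
    TvV V' (n * c * n⁻¹) (n * x * n⁻¹) := by
  clear F
  intro w hw
  have hw' : n⁻¹ * w * n ∈ V' := (mem_normalizer_iff''.1 hn w).1 hw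
  rcases hT _ hw' with h | h
  · left
    calc n * x * n⁻¹ * w * (n * x * n⁻¹)⁻¹ = n * (x * (n⁻¹ * w * n) * x⁻¹) * n⁻¹ := by group
      _ = w := by rw [h]; group
  · right
    calc n * x * n⁻¹ * w * (n * x * n⁻¹)⁻¹ = n * (x * (n⁻¹ * w * n) * x⁻¹) * n⁻¹ := by group
      _ = w * (n * c * n⁻¹) := by rw [h]; group

/-- the product of the blocks is generated by the centres -/
theorem B_le_iff {K : Subgroup G} : (⨆ i, N i) ≤ K ↔
    ∀ x ∈ M, ∀ c ∈ V, TvV V c x → x ∉ centralizer (V : Set G) → c ∈ K := by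
  constructor
  · intro h x hx c hc hT hne
    obtain ⟨i, -, a, b, hab, rfl, -⟩ := F.tvs x hx c hc hT hne
    refine h (le_iSup N i ?_)
    rw [(F.lett i).mem]
    exact ⟨{a, b}, by rw [Finset.card_pair hab]; exact even_two, rfl⟩
  · intro h
    refine iSup_le fun i => RRed.TvTr.diff_le (F.lett i) fun p q => ?_
    rw [RRed.TvTr.erase_mul (F.lett i)]
    by_cases hpq : p = q
    · subst hpq
      rw [← (F.lett i).mul, symmDiff_self]
      have : phi i (⊥ : Finset (Om i)) = 1 := (F.lett i).phi_empty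
      rw [this]
      exact one_mem _
    · obtain ⟨x, hxE, hrel, hT⟩ := F.swap i p q hpq
      have e1 : phi i {p} * phi i {q} = phi i {p, q} := by
        rw [← (F.lett i).mul]
        congr 1
        ext y
        rw [Finset.mem_symmDiff, Finset.mem_singleton, Finset.mem_singleton, Finset.mem_insert, Finset.mem_singleton]
        constructor
        · rintro (⟨h1, -⟩ | ⟨h1, -⟩)
          · exact Or.inl h1
          · exact Or.inr h1
        · rintro (h1 | h1)
          · exact Or.inl ⟨h1, fun h2 => hpq (h1 ▸ h2)⟩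
          · exact Or.inr ⟨h1, fun h2 => hpq (h2 ▸ h1 ▸ rfl)⟩
      rw [e1]
      have hmem : ∀ a b : Om i, a ≠ b → phi i {a, b} ∈ N i := fun a b hab =>
        ((F.lett i).mem _).2 ⟨{a, b}, by rw [Finset.card_pair hab]; exact even_two, rfl⟩
      refine h x (F.EL i hxE) _ (F.NU i (hmem p q hpq)) hT ?_
      intro hcen
      -- a third letter
      obtain ⟨r, hr⟩ : ∃ r : Om i, r ∉ ({p, q} : Finset (Om i)) := by
        by_contra hcon
        push Not at hcon
        have h3 := F.three i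
        have h4 : Fintype.card (Om i) ≤ 2 := by
          rw [← Finset.card_univ]
          calc Finset.univ.card ≤ ({p, q} : Finset (Om i)).card := Finset.card_le_card fun y _ => hcon y
            _ ≤ 2 := Finset.card_le_two
        omega
      have hrp : p ≠ r := fun e => hr (by rw [e]; exact Finset.mem_insert_self _ _)
      have hrq : q ≠ r := fun e => hr (by rw [e]; exact Finset.mem_insert_of_mem (Finset.mem_singleton_self _))
      have h5 := hrel {p, r} (by rw [Finset.card_pair hrp]; exact even_two)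
      have h6 : x * phi i {p, r} * x⁻¹ = phi i {p, r} := by
        rw [← mem_centralizer_iff.1 hcen _ (F.NU i (hmem p r hrp))]; group
      rw [h6] at h5
      have h7 : (({p, r} : Finset (Om i)).map (Equiv.swap p q).toEmbedding) = {q, r} := by
        rw [Finset.map_insert, Finset.map_singleton]
        simp only [Equiv.toEmbedding_apply, Equiv.swap_apply_left]
        rw [Equiv.swap_apply_of_ne_of_ne (Ne.symm hrp) (Ne.symm hrq)]
      rw [h7] at h5
      have h8 := (F.lett i).phi_inj (by rw [Finset.card_pair hrp]; exact even_two)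
        (by rw [Finset.card_pair hrq]; exact even_two) h5
      have h9 : p ∈ ({q, r} : Finset (Om i)) := h8 ▸ Finset.mem_insert_self _ _
      rw [Finset.mem_insert, Finset.mem_singleton] at h9
      exact h9.elim hpq hrp

variable [Finite G]

/-- a group which normalises `M` and `V` normalises the product of the blocks -/
theorem norm_B {X : Subgroup G} (hM : X ≤ normalizer (M : Set G)) (hV : X ≤ normalizer (V : Set G)) :
    X ≤ normalizer ((⨆ i, N i : Subgroup G) : Set G) := by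
  intro n hn
  refine mem_normalizer_of_cj_le ?_
  rw [cj_le_iff, B_le_iff F]
  intro x hx c hc hT hne
  rw [mem_cj, inv_inv]
  refine (B_le_iff F).1 le_rfl (n * x * n⁻¹) ((mem_normalizer_iff.1 (hM hn) x).1 hx) _
    ((mem_normalizer_iff.1 (hV hn) c).1 hc) (TvV.conj F hT (hV hn)) fun h => hne ?_
  rw [mem_centralizer_iff] at h ⊢
  intro v hv
  have h1 := h _ ((mem_normalizer_iff.1 (hV hn) v).1 hv)
  calc v * x = n⁻¹ * ((n * v * n⁻¹) * (n * x * n⁻¹)) * n := by group
    _ = n⁻¹ * ((n * x * n⁻¹) * (n * v * n⁻¹)) * n := by rw [h1]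
    _ = x * v := by group

end blocks

/-! ### `V*` -/

section main

variable [Finite G] {S : Sylow 2 G}

/-- a transvection in `S` gives (NO) on `V*` -/
theorem no_of_tvS (h : RB S) {s c : G} (hs : s ∈ (S : Subgroup G)) (hc : c ∈ zl (S : Subgroup G) (YS S))
    (hT : TvV (zl (S : Subgroup G) (YS S)) c s) (hn : s ∉ centralizer (zl (S : Subgroup G) (YS S) : Set G)) :
    NoOverM (zl (S : Subgroup G) (YS S)) (YS (S : Subgroup G)) := by
  have hb := tv_best hc (EOne.Vsq h) hT hn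
  have hoff : OffM (zl (S : Subgroup G) (YS S)) (zpowers s) := by
    refine ⟨hb.toElemM, fun h1 => hn (h1 (mem_zpowers s)), ?_⟩
    have h2 := hb.max (zpowers s ⊓ centralizer (zl (S : Subgroup G) (YS S) : Set G)) inf_le_left le_rfl
    have h3 : zl (S : Subgroup G) (YS S) ⊓ centralizer
        ((zpowers s ⊓ centralizer (zl (S : Subgroup G) (YS S) : Set G) : Subgroup G) : Set G) =
        zl (S : Subgroup G) (YS S) := inf_eq_left.2 (le_centralizer_iff.1 inf_le_right)
    rw [h3, mul_comm] at h2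
    exact h2
  obtain ⟨P, A, hg⟩ := exists_gOne h.ctx.char2 (Merge.isLoc_MZ h.ctx h.full h.data.noff) (FourTree.gen_MZ S)
    ⟨zpowers s, zpowers_le.2 (EOne.S_YS h hs), hoff⟩
  exact hg.no

/-- an element of `S` which acts as a transvection is in `E₁` -/
theorem tv_mem_E1 (h : RB S) {s c : G} (hs : s ∈ (S : Subgroup G)) (hc : c ∈ zl (S : Subgroup G) (YS S))
    (hT : TvV (zl (S : Subgroup G) (YS S)) c s) (hn : s ∉ centralizer (zl (S : Subgroup G) (YS S) : Set G)) :
    s ∈ E1 (S : Subgroup G) :=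
  EOne.mx_le_E1 (zpowers_le.2 hs)
    (tv_mx (no_of_tvS h hs hc hT hn) (EOne.S_YS h hs) (S.isPGroup'.to_le (zpowers_le.2 hs)) hc (EOne.Vsq h) hT hn)
    (mem_zpowers s)

/-- **`C_{V*}(E₁)` is fixed by all transvections** -/
theorem fix_tv (h : RB S) {v x c : G} (hv : v ∈ zl (S : Subgroup G) (YS S))
    (hvE : v ∈ centralizer (E1 (S : Subgroup G) : Set G)) (hx : x ∈ YS (S : Subgroup G))
    (hc : c ∈ zl (S : Subgroup G) (YS S)) (hT : TvV (zl (S : Subgroup G) (YS S)) c x) : x * v * x⁻¹ = v := by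
  set V : Subgroup G := zl (S : Subgroup G) (YS S) with hV
  have hYV : YS (S : Subgroup G) ≤ normalizer (V : Set G) := le_normalizer_zl _ _
  by_cases hne : x ∈ centralizer (V : Set G)
  · rw [← mem_centralizer_iff.1 hne v hv]; group
  obtain ⟨B, hB, hB2, hdec⟩ := VF.exists_two (zpowers_le.2 (hYV hx)) (tv_elem (tv_two hc (EOne.Vsq h) hT))
  obtain ⟨b, hb, hbx⟩ := hdec x (mem_zpowers x)
  obtain ⟨g, hg, hgS⟩ := CM.exists_conj_le S.isPGroup' (MinSimple.Basic.not_dvd_relIndex S (EOne.S_YS h)) hB2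
    (hB.trans (zpowers_le.2 hx))
  -- `b` acts as `x`
  have act : ∀ w ∈ V, b * w * b⁻¹ = x * w * x⁻¹ := by
    intro w hw
    have h1 : w * (b⁻¹ * x) = (b⁻¹ * x) * w := mem_centralizer_iff.1 hbx w hw
    calc b * w * b⁻¹ = b * (w * (b⁻¹ * x)) * x⁻¹ := by group
      _ = b * ((b⁻¹ * x) * w) * x⁻¹ := by rw [h1]
      _ = x * w * x⁻¹ := by group
  have hTb : TvV V c b := fun w hw => by
    rw [act w hw]
    exact hT w hw
  have hnb : b ∉ centralizer (V : Set G) := fun h1 => hne (by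
    have e : x = b * (b⁻¹ * x) := by group
    rw [e]
    exact mul_mem h1 hbx)
  have hgV := hYV hg
  have hTs : TvV V (g * c * g⁻¹) (g * b * g⁻¹) := by
    intro w hw
    have hw' : g⁻¹ * w * g ∈ V := (mem_normalizer_iff''.1 hgV w).1 hw
    rcases hTb _ hw' with h1 | h1
    · left
      calc g * b * g⁻¹ * w * (g * b * g⁻¹)⁻¹ = g * (b * (g⁻¹ * w * g) * b⁻¹) * g⁻¹ := by group
        _ = w := by rw [h1]; group
    · right
      calc g * b * g⁻¹ * w * (g * b * g⁻¹)⁻¹ = g * (b * (g⁻¹ * w * g) * b⁻¹) * g⁻¹ := by group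
        _ = w * (g * c * g⁻¹) := by rw [h1]; group
  have hns : g * b * g⁻¹ ∉ centralizer (V : Set G) := by
    intro h1
    apply hnb
    rw [mem_centralizer_iff] at h1 ⊢
    intro w hw
    have h2 := h1 _ ((mem_normalizer_iff.1 hgV w).1 hw)
    calc w * b = g⁻¹ * ((g * w * g⁻¹) * (g * b * g⁻¹)) * g := by group
      _ = g⁻¹ * ((g * b * g⁻¹) * (g * w * g⁻¹)) * g := by rw [h2]
      _ = b * w := by group
  have hsE := tv_mem_E1 h (hgS b hb) ((mem_normalizer_iff.1 hgV c).1 hc) hTs hns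
  have hbE : b ∈ E1 (S : Subgroup G) := (mem_normalizer_iff.1 (EOne.YS_le_norm_E1 _ hg) b).2 hsE
  rw [← act v hv, mem_centralizer_iff.1 hvE b hbE]
  group

variable {I : Type u} {N E : I → Subgroup G} {R₀ : Subgroup G} {Om : I → Type u}
    [∀ i, Fintype (Om i)] [∀ i, DecidableEq (Om i)] {phi : ∀ i, Finset (Om i) → G}

/-- **`R₁ ≤ R₀`** -/
theorem R1_le_R₀ (h : RB S) (F : Bks S N E R₀ Om phi) : R1 (S : Subgroup G) ≤ R₀ := fun v hv =>
  (F.fixR v (EOne.R1_le hv)).2 fun _ hx _ hc hT => fix_tv h (EOne.R1_le hv) (EOne.R1_cent hv) hx hc hT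

/-- **The frame `FrE` from the transvection blocks.** -/
theorem frE_bks [Finite I] (h : RB S) (F : Bks S N E R₀ Om phi) (h1 : ¬ E1S (S : Subgroup G))
    (hb : ∀ A ≤ (S : Subgroup G), Best (zl (S : Subgroup G) (YS S)) A →
      A ≤ centralizer (R1 (S : Subgroup G) : Set G)) :
    ∃ e ∈ TwoC.DecE.PP N R₀ (TvTr.Orb phi), FrE S (R1 (S : Subgroup G)) (⨆ i, N i) e := by
  have := F.nonempty
  refine frE_ofR (O := TvTr.Orb phi) h F.toDec (TvTr.orbs F.toFull) (TvTr.hdif F.toFull) (R1_le_R₀ h F)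
    (EOne.YS_le_norm_R1 _) EOne.nS_R1 (fun h0 => ?_) (hA_best h hb) (norm_B F.toFull TwoC.nS_ys nS_Vs)
  apply (EOne.ne_of_not h h1).1
  rw [eq_bot_iff, ← h0]
  exact le_inf (EOne.Z1_le_R1 _) (EOne.Z1_le _)

/-- a transvection in `S` : the transvection blocks -/
theorem exists_bks_tvS (h : RB S) (ht : TvS (S : Subgroup G)) :
    ∃ (I : Type u) (_ : Fintype I) (_ : DecidableEq I) (N E : I → Subgroup G) (R₀ : Subgroup G) (Om : I → Type u)
      (_ : ∀ i, Fintype (Om i)) (_ : ∀ i, DecidableEq (Om i)) (phi : ∀ i, Finset (Om i) → G),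
      Bks S N E R₀ Om phi := by
  obtain ⟨t, htS, c, hc, -, htv, hne⟩ := ht
  obtain ⟨I, i1, i2, N, E, R₀, Om, i3, i4, phi, F⟩ :=
    TvFin.blocks_zl (S := S) (L := YS (S : Subgroup G)) (EOne.S_YS h) (EOne.Vsq h) (no_of_tvS h htS hc htv hne)
  obtain ⟨i, -⟩ := F.tvs t (EOne.S_YS h htS) c hc htv hne
  exact ⟨I, i1, i2, N, E, R₀, Om, i3, i4, phi, { toFull := F, nonempty := ⟨i⟩ }⟩

/-- **The frame `FrE`**: a transvection in `S`, `C_Z(E₁) ≠ 1`. -/
theorem frE_tvS (h : RB S) (ht : TvS (S : Subgroup G)) (h1 : ¬ E1S (S : Subgroup G))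
    (hb : ∀ A ≤ (S : Subgroup G), Best (zl (S : Subgroup G) (YS S)) A →
      A ≤ centralizer (R1 (S : Subgroup G) : Set G)) :
    ∃ (I : Type u) (_ : Fintype I) (_ : DecidableEq I) (N E : I → Subgroup G) (R₀ : Subgroup G) (Om : I → Type u)
      (_ : ∀ i, Fintype (Om i)) (_ : ∀ i, DecidableEq (Om i)) (phi : ∀ i, Finset (Om i) → G),
      Bks S N E R₀ Om phi ∧ R1 (S : Subgroup G) ≤ R₀ ∧
        ∃ e ∈ TwoC.DecE.PP N R₀ (TvTr.Orb phi), FrE S (R1 (S : Subgroup G)) (⨆ i, N i) e := by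
  obtain ⟨I, i1, i2, N, E, R₀, Om, i3, i4, phi, F⟩ := exists_bks_tvS h ht
  exact ⟨I, i1, i2, N, E, R₀, Om, i3, i4, phi, F, R1_le_R₀ h F, frE_bks h F h1 hb⟩

end main

end Cfsg.Agent.Omega.NOThreeL.RZ.TwoE.Tv
end
end
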